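import Cfsg.Agent.Lib.PiHom.RankTwo
import Mathlib.GroupTheory.Focal

/-!
# A minimal counterexample: the automiser of a Sylow 2-subgroup of order 64

It is generated by the inner automorphisms and one automorphism of order three.  Otherwise a Sylow
5-subgroup would be a Sylow subgroup of the whole group with a nontrivial focal quotient.
-/

set_option autoImplicit false
set_option linter.style.haveILetI false
set_option linter.unusedSectionVars false

namespace Cfsg.Agent.PiHom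

open Subgroup
open scoped commutatorElement

theorem eq_one_of_shift {H : Type*} [Group H] {S : Subgroup H} (hS : IsPGroup 2 S) {k x d : H}
    (hk : Odd (orderOf k)) (hd : d ∈ S) (hc : Commute k d) (e : k * x * k⁻¹ = x * d) : d = 1 := by
  haveI : Fact (Nat.Prime 2) := ⟨Nat.prime_two⟩
  have h : ∀ n : ℕ, k ^ n * x * (k ^ n)⁻¹ = x * d ^ n := by
    intro n
    induction n with
    | zero => simp
    | succ n ih =>
      calc k ^ (n + 1) * x * (k ^ (n + 1))⁻¹ = k * (k ^ n * x * (k ^ n)⁻¹) * k⁻¹ := by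
            rw [pow_succ']; group
        _ = (k * x * k⁻¹) * (k * d ^ n * k⁻¹) := by rw [ih]; group
        _ = x * d ^ (n + 1) := by
            rw [e, (hc.pow_right n).eq, mul_inv_cancel_right, pow_succ']
            group
  have h1 := h (orderOf k)
  rw [pow_orderOf_eq_one, one_mul, inv_one, mul_one, left_eq_mul] at h1
  obtain ⟨j, hj⟩ := hS ⟨d, hd⟩
  have hj' : d ^ 2 ^ j = 1 := congrArg Subtype.val hj
  have h2 := Nat.dvd_gcd (orderOf_dvd_of_pow_eq_one h1) (orderOf_dvd_of_pow_eq_one hj')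
  rw [Nat.Coprime.gcd_eq_one (Nat.Coprime.pow_right j (Nat.coprime_two_right.2 hk)),
    Nat.dvd_one, orderOf_eq_one_iff] at h2
  exact h2

/-- A subgroup normalised by another: the order of their product divides the product of orders. -/
theorem card_sup_dvd {G : Type*} [Group G] [Finite G] {B K : Subgroup G}
    (hn : B ≤ normalizer (K : Set G)) : Nat.card (B ⊔ K : Subgroup G) ∣ Nat.card B * Nat.card K := by
  set J := B ⊔ K with hJ
  haveI : (K.subgroupOf J).Normal :=
    (normal_subgroupOf_iff_le_normalizer le_sup_right).2 (sup_le hn le_normalizer)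
  have h1 := Subgroup.card_eq_card_quotient_mul_card_subgroup (K.subgroupOf J)
  rw [Coprime.card_subgroupOf (le_sup_right : K ≤ J)] at h1
  rw [h1]
  refine Nat.mul_dvd_mul_right ?_ _
  have h2 : (B.subgroupOf J).map (QuotientGroup.mk' (K.subgroupOf J)) = ⊤ := by
    have h3 : B.subgroupOf J ⊔ K.subgroupOf J = ⊤ := by
      rw [← subgroupOf_sup le_sup_left le_sup_right, subgroupOf_self]
    have h4 := congrArg (Subgroup.map (QuotientGroup.mk' (K.subgroupOf J))) h3
    rw [Subgroup.map_sup, QuotientGroup.map_mk'_self, sup_bot_eq,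
      Subgroup.map_top_of_surjective _ (QuotientGroup.mk'_surjective _)] at h4
    exact h4
  have h5 := Subgroup.card_map_dvd (H := B.subgroupOf J) (QuotientGroup.mk' (K.subgroupOf J))
  rwa [h2, Subgroup.card_top, Coprime.card_subgroupOf (le_sup_left : B ≤ J)] at h5

variable {π : Set ℕ} {G : Type*} [Group G] [Finite G]

/-- An action of `N(S)` on `S` modulo its centre. -/
def toQuot (S : Subgroup G) : normalizer (S : Set G) →* MulAut (S ⧸ Subgroup.center S) :=
  MonoidHom.mk' (fun n => QuotientGroup.congr _ _ (conjSylow S n n.2)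
      (Subgroup.characteristic_iff_map_eq.1 inferInstance _))
    fun a b => MulEquiv.ext fun q => by
      induction q using QuotientGroup.induction_on with
      | _ t =>
        refine congrArg QuotientGroup.mk (Subtype.ext ?_)
        show ((a : G) * b) * t * ((a : G) * b)⁻¹ = a * ((b : G) * t * (b : G)⁻¹) * (a : G)⁻¹
        group

namespace Min

variable (hM : Min π G) (S : Sylow 2 G)
include hM

theorem mem_omegaZ_of_conj {T : Subgroup G} (hT : IsPGroup 2 T)
    (hle : omegaZ (S : Subgroup G) ≤ T) {g z : G} (hz : z ∈ omegaZ (S : Subgroup G))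
    (hg : g * z * g⁻¹ ∈ T) : g * z * g⁻¹ ∈ omegaZ (S : Subgroup G) := by
  obtain ⟨S', hS'⟩ := hT.exists_le_sylow
  obtain ⟨c, hc, rfl⟩ := hM.exists_smul_eq S S'
  have h1 := mem_smul_sylow.1 (hS' hg)
  have h2 : (c⁻¹ * g) * z * (c⁻¹ * g)⁻¹ ∈ (S : Subgroup G) := by
    simpa [mul_assoc] using h1
  have h3 := hM.omegaZ_closed S hz h2
  have h4 := hc _ ⟨h3.1, hS' (hle h3)⟩
  rw [show g * z * g⁻¹ = c * ((c⁻¹ * g) * z * (c⁻¹ * g)⁻¹) * c⁻¹ by group, ← h4,
    mul_inv_cancel_right]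
  exact h3

/-- An element of odd order fixing one involution of `omegaZ S` fixes all of them. -/
theorem commute_omegaZ_of_one {k z w : G} (hk : k ∈ normalizer ((S : Subgroup G) : Set G))
    (hko : Odd (orderOf k)) (hz : z ∈ omegaZ (S : Subgroup G)) (hz1 : z ≠ 1) (hkz : Commute k z)
    (hw : w ∈ omegaZ (S : Subgroup G)) : Commute k w := by
  classical
  by_cases hw1 : w = 1
  · exact hw1 ▸ Commute.one_right k
  by_cases hwz : w = z
  · exact hwz ▸ hkz
  have hw' := omegaZ_conj hw hk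
  have n1 : k * w * k⁻¹ ≠ 1 := fun e => hw1 (conj_eq_one_iff.1 e)
  have n2 : k * w * k⁻¹ ≠ z := fun e => hwz (by
    rw [← show k * z * k⁻¹ = z from mul_inv_eq_iff_eq_mul.2 hkz.eq] at e
    exact mul_left_cancel (mul_right_cancel e))
  haveI := Fintype.ofFinite (omegaZ (S : Subgroup G))
  by_contra hne
  have n3 : k * w * k⁻¹ ≠ w := fun e => hne (mul_inv_eq_iff_eq_mul.1 e)
  have n4 : k * w * k⁻¹ ≠ w * z := fun e => hz1
    (eq_one_of_shift S.2 hko hz.1 hkz e)
  have h5 : ({1, ⟨z, hz⟩, ⟨w, hw⟩, ⟨w * z, mul_mem hw hz⟩, ⟨_, hw'⟩} :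
      Finset (omegaZ (S : Subgroup G))).card ≤ 4 := by
    rw [← hM.card_omegaZ S, Nat.card_eq_fintype_card]
    exact Finset.card_le_univ _
  have m1 : w * z ≠ 1 := fun e => hwz (by
    calc w = w * (z * z) := by rw [hz.2.2, mul_one]
      _ = z := by rw [← mul_assoc, e, one_mul])
  rw [Finset.card_insert_of_notMem, Finset.card_insert_of_notMem, Finset.card_insert_of_notMem,
    Finset.card_insert_of_notMem, Finset.card_singleton] at h5
  · omega
  all_goals simp only [Finset.mem_insert, Finset.mem_singleton]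
  · exact fun e => n4 (congrArg Subtype.val e).symm
  · rintro (e | e)
    · exact hz1 (left_eq_mul.1 (congrArg Subtype.val e))
    · exact n3 (congrArg Subtype.val e).symm
  · rintro (e | e | e)
    · exact hwz (congrArg Subtype.val e).symm
    · exact hw1 (right_eq_mul.1 (congrArg Subtype.val e))
    · exact n2 (congrArg Subtype.val e).symm
  · rintro (e | e | e | e)
    · exact hz1 (congrArg Subtype.val e).symm
    · exact hw1 (congrArg Subtype.val e).symm
    · exact m1 (congrArg Subtype.val e).symm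
    · exact n1 (congrArg Subtype.val e).symm

variable {r : G} (hr : r ∈ normalizer ((S : Subgroup G) : Set G))
  (hF : SylL34.Fpf (S : Subgroup G) (conjSylow (S : Subgroup G) r hr))
include hF

theorem mem_center_iff_omegaZ {x : (S : Subgroup G)} :
    x ∈ Subgroup.center (S : Subgroup G) ↔ (x : G) ∈ omegaZ (S : Subgroup G) :=
  ⟨fun h => ⟨x.2, fun s hs => congrArg Subtype.val (Subgroup.mem_center_iff.1 h ⟨s, hs⟩),
    congrArg Subtype.val (hF.inv_center h)⟩,
    fun h => Subgroup.mem_center_iff.2 fun y => Subtype.ext (h.2.1 y y.2)⟩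

/-- The centraliser in `S` of a noncentral element has order sixteen. -/
theorem card_centralizer_le {y : G} (hy : y ∈ (S : Subgroup G))
    (hyZ : y ∉ omegaZ (S : Subgroup G)) :
    Nat.card ((S : Subgroup G) ⊓ centralizer ({y} : Set G) : Subgroup G) ≤ 16 := by
  classical
  set ρ := conjSylow (S : Subgroup G) r hr
  set Y : (S : Subgroup G) := ⟨y, hy⟩ with hY
  let χ : (S : Subgroup G) →* Subgroup.center (S : Subgroup G) :=
    MonoidHom.mk' (fun w => ⟨⁅Y, w⁆, hF.comm_mem_center Y w⟩)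
      fun a b => Subtype.ext (hF.comm_mul_right Y a b)
  have hρ : ∀ v ∈ χ.range, ∃ u ∈ χ.range, (u : (S : Subgroup G)) = ρ (ρ v) := by
    rintro _ ⟨w, rfl⟩
    exact ⟨_, ⟨ρ w, rfl⟩, (hF.comm_apply_right Y w).1⟩
  obtain ⟨w, hw⟩ : ∃ w : (S : Subgroup G), ⁅Y, w⁆ ≠ 1 := by
    by_contra h
    push Not at h
    exact hyZ ((hM.mem_center_iff_omegaZ S hr hF (x := Y)).1 (Subgroup.mem_center_iff.2 fun w =>
      (commutatorElement_eq_one_iff_mul_comm.1 (h w)).symm))
  obtain ⟨u, hu, hu'⟩ := hρ (χ w) ⟨w, rfl⟩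
  have h3 : 3 ≤ Nat.card χ.range := by
    haveI := Fintype.ofFinite χ.range
    rw [Nat.card_eq_fintype_card]
    refine Fintype.two_lt_card_iff.2 ⟨1, ⟨χ w, ⟨w, rfl⟩⟩, ⟨u, hu⟩, fun e => hw ?_, fun e => hw ?_,
      fun e => hw ?_⟩
    · exact (congrArg (fun a : χ.range => ((a : Subgroup.center (S : Subgroup G)) :
        (S : Subgroup G))) e).symm
    · have e' : (1 : (S : Subgroup G)) = ρ (ρ (χ w)) := hu' ▸ congrArg
        (fun a : χ.range => ((a : Subgroup.center (S : Subgroup G)) : (S : Subgroup G))) e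
      exact (map_eq_one_iff ρ ρ.injective).1 ((map_eq_one_iff ρ ρ.injective).1 e'.symm)
    · have e' : (χ w : (S : Subgroup G)) = ρ (ρ (χ w)) := hu' ▸ congrArg
        (fun a : χ.range => ((a : Subgroup.center (S : Subgroup G)) : (S : Subgroup G))) e
      have e'' := congrArg ρ e'
      rw [hF.three] at e''
      exact hF.fpf _ e''
  have h4 : Nat.card χ.range = 4 := by
    have hd : Nat.card χ.range ∣ 4 := hF.card_center ▸ Subgroup.card_subgroup_dvd_card χ.range
    have := Nat.le_of_dvd (by norm_num) hd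
    interval_cases h : Nat.card χ.range <;> omega
  have h16 := χ.ker.card_mul_index
  rw [Subgroup.index_ker, h4, hF.card] at h16
  have hker : (S : Subgroup G) ⊓ centralizer ({y} : Set G) ≤ χ.ker.map (S : Subgroup G).subtype := by
    rintro x ⟨hx, hxy⟩
    refine ⟨⟨x, hx⟩, Subtype.ext (commutatorElement_eq_one_iff_mul_comm.2 ?_), rfl⟩
    exact Subtype.ext (mem_centralizer_singleton_iff.1 hxy).symm
  have := Subgroup.card_le_of_le hker
  rw [Subgroup.card_map_of_injective (S : Subgroup G).subtype_injective] at this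
  omega

/-- An element of odd order centralising `omegaZ S` and a coset of it centralises `S`. -/
theorem commute_sylow_of_coset {k y : G} (hk : k ∈ normalizer ((S : Subgroup G) : Set G))
    (hko : Odd (orderOf k)) (hkZ : ∀ z ∈ omegaZ (S : Subgroup G), Commute k z)
    (hy : y ∈ (S : Subgroup G)) (hyZ : y ∉ omegaZ (S : Subgroup G))
    (hky : y⁻¹ * (k * y * k⁻¹) ∈ omegaZ (S : Subgroup G)) {w : G} (hw : w ∈ (S : Subgroup G)) :
    Commute k w := by
  haveI : Fact (Nat.Prime 2) := ⟨Nat.prime_two⟩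
  set Z := omegaZ (S : Subgroup G) with hZ
  have hy' : Commute k y := by
    have h1 := eq_one_of_shift S.2 hko hky.1 (hkZ _ hky) (x := y) (by group)
    exact mul_inv_eq_iff_eq_mul.1 (inv_mul_eq_one.1 h1).symm
  set C := (S : Subgroup G) ⊓ centralizer ({y} : Set G) with hC
  set D := Z ⊔ zpowers y with hD
  have hDC : D ≤ C := sup_le
    (fun z hz => ⟨hz.1, mem_centralizer_singleton_iff.2 (hz.2.1 y hy).symm⟩)
    (zpowers_le.2 ⟨hy, mem_centralizer_singleton_iff.2 rfl⟩)
  have hDk : ∀ d ∈ D, Commute k d := fun d hd => by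
    have hle : D ≤ centralizer ({k} : Set G) := sup_le
      (fun z hz => mem_centralizer_singleton_iff.2 (hkZ z hz).symm.eq)
      (zpowers_le.2 (mem_centralizer_singleton_iff.2 hy'.symm.eq))
    exact (mem_centralizer_singleton_iff.1 (hle hd)).symm
  have hD8 : 8 ≤ Nat.card D := by
    have h1 := PGroup.mul_card_le_card S.2 (H := Z.subgroupOf S) (K := D.subgroupOf S)
    rw [Coprime.card_subgroupOf (omegaZ_le _), hM.card_omegaZ S,
      Coprime.card_subgroupOf (hDC.trans inf_le_left)] at h1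
    refine h1 (lt_of_le_of_ne (fun x hx => mem_sup_left hx) fun e => hyZ ?_)
    have : (⟨y, hy⟩ : (S : Subgroup G)) ∈ D.subgroupOf S := mem_sup_right (mem_zpowers y)
    rw [← e] at this
    exact this
  have hC16 := hM.card_centralizer_le S hr hF hy hyZ
  have hidx : (D.subgroupOf C).index ≤ 2 := by
    have h1 := (D.subgroupOf C).card_mul_index
    rw [Coprime.card_subgroupOf hDC] at h1
    nlinarith
  have hCk : ∀ u ∈ C, Commute k u := by
    intro u hu
    set u' := k * u * k⁻¹ with hu'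
    have hu'C : u' ∈ C := by
      refine ⟨(mem_normalizer_iff.1 hk u).1 hu.1, mem_centralizer_singleton_iff.2 ?_⟩
      have h1 : Commute u y := mem_centralizer_singleton_iff.1 hu.2
      exact ((hy'.mul_left h1).mul_left hy'.inv_left).eq
    by_cases huD : u ∈ D
    · exact hDk u huD
    have hu'D : u' ∉ D := fun h => huD (by
      have h1 : k * u' * k⁻¹ = u' := mul_inv_eq_iff_eq_mul.2 (hDk _ h).eq
      rw [hu'] at h1
      have h2 : u' = u := mul_left_cancel (mul_right_cancel h1)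
      rwa [h2] at h)
    have hd : u⁻¹ * u' ∈ D := by
      rcases Nat.lt_or_ge (D.subgroupOf C).index 2 with h | h
      · have h1 : (D.subgroupOf C).index = 1 := by
          have := (D.subgroupOf C).index_ne_zero_of_finite
          omega
        exact absurd ((subgroupOf_eq_top.1 (index_eq_one.1 h1)) hu) huD
      · have h2 : (D.subgroupOf C).index = 2 := by omega
        have h3 := (mul_mem_iff_of_index_two h2 (a := (⟨u, hu⟩ : C)⁻¹) (b := ⟨u', hu'C⟩)).2
          (iff_of_false (fun h => huD ((D.subgroupOf C).inv_mem_iff.1 h)) hu'D)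
        exact h3
    have h1 := eq_one_of_shift S.2 hko ((hDC hd).1) (hDk _ hd) (x := u)
      (by rw [hu']; group)
    exact mul_inv_eq_iff_eq_mul.1 (inv_mul_eq_one.1 h1).symm
  set w' := k * w * k⁻¹ with hw'
  have hw'S : w' ∈ (S : Subgroup G) := (mem_normalizer_iff.1 hk w).1 hw
  have hd : w⁻¹ * w' ∈ C := by
    refine Subgroup.mem_inf.2 ⟨mul_mem (inv_mem hw) hw'S, mem_centralizer_singleton_iff.2 ?_⟩
    set Y : (S : Subgroup G) := ⟨y, hy⟩
    set W : (S : Subgroup G) := ⟨w, hw⟩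
    set W' : (S : Subgroup G) := ⟨w', hw'S⟩
    have e : ⁅Y, W'⁆ = ⁅Y, W⁆ := by
      refine Subtype.ext ?_
      have h1 : (⁅Y, W⁆ : (S : Subgroup G)).1 ∈ Z :=
        (hM.mem_center_iff_omegaZ S hr hF).1 (hF.comm_mem_center Y W)
      have h2 : k * (⁅Y, W⁆ : (S : Subgroup G)).1 * k⁻¹ = (⁅Y, W⁆ : (S : Subgroup G)).1 :=
        mul_inv_eq_iff_eq_mul.2 (hkZ _ h1).eq
      rw [← h2]
      show y * (k * w * k⁻¹) * y⁻¹ * (k * w * k⁻¹)⁻¹ = k * (y * w * y⁻¹ * w⁻¹) * k⁻¹
      have hyk : k * y = y * k := hy'.eq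
      have hyk' : k⁻¹ * y⁻¹ = y⁻¹ * k⁻¹ := by rw [← mul_inv_rev, ← mul_inv_rev, hyk]
      calc y * (k * w * k⁻¹) * y⁻¹ * (k * w * k⁻¹)⁻¹
          = (y * k) * w * (k⁻¹ * y⁻¹) * k * w⁻¹ * k⁻¹ := by group
        _ = k * y * w * (y⁻¹ * k⁻¹) * k * w⁻¹ * k⁻¹ := by rw [← hyk, hyk']
        _ = k * (y * w * y⁻¹ * w⁻¹) * k⁻¹ := by group
    have h3 : ⁅Y, W⁻¹ * W'⁆ = 1 := by
      rw [hF.comm_mul_right, e, ← hF.comm_mul_right, inv_mul_cancel, commutatorElement_one_right]
    exact (congrArg Subtype.val (commutatorElement_eq_one_iff_mul_comm.1 h3)).symm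
  have h1 := eq_one_of_shift S.2 hko hd.1 (hCk _ hd) (x := w) (by rw [hw']; group)
  exact mul_inv_eq_iff_eq_mul.1 (inv_mul_eq_one.1 h1).symm

/-- A normalising element fixing a nontrivial coset of `omegaZ S` acts as an element of `S`. -/
theorem exists_inner_of_fix {n y : G} (hn : n ∈ normalizer ((S : Subgroup G) : Set G))
    (hy : y ∈ (S : Subgroup G)) (hyZ : y ∉ omegaZ (S : Subgroup G))
    (hny : y⁻¹ * (n * y * n⁻¹) ∈ omegaZ (S : Subgroup G)) :
    ∃ s ∈ (S : Subgroup G), ∀ x ∈ (S : Subgroup G), n * x * n⁻¹ = s * x * s⁻¹ := by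
  haveI : Fact (Nat.Prime 2) := ⟨Nat.prime_two⟩
  set N := orderOf n with hN
  have hN0 : N ≠ 0 := (orderOf_pos n).ne'
  set a := 2 ^ N.factorization 2 with ha
  set m := N / a with hm
  have hcop : Nat.Coprime a m :=
    (Nat.coprime_ordCompl Nat.prime_two hN0).pow_left _
  have hg : (1 : ℤ) = a * Nat.gcdA a m + m * Nat.gcdB a m := by
    rw [← Nat.gcd_eq_gcd_ab, hcop.gcd_eq_one]; rfl
  set k := (n ^ a) ^ Nat.gcdA a m with hk
  set s := (n ^ m) ^ Nat.gcdB a m with hs
  have hnks : n = k * s := by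
    rw [hk, hs, ← zpow_natCast n a, ← zpow_natCast n m, ← zpow_mul, ← zpow_mul, ← zpow_add, ← hg,
      zpow_one]
  have hkn : k ∈ normalizer ((S : Subgroup G) : Set G) := zpow_mem (pow_mem hn _) _
  have hsS : s ∈ (S : Subgroup G) := by
    refine zpow_mem ?_ _
    have hyp : IsPGroup 2 (zpowers (n ^ m)) := IsPGroup.of_card (n := N.factorization 2) (by
      rw [Nat.card_zpowers, hm, ha, orderOf_pow, ← hN,
        Nat.gcd_eq_right (Nat.ordCompl_dvd N 2),
        Nat.div_div_self (Nat.ordProj_dvd N 2) hN0])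
    have h := S.2.to_sup_of_normal_left' hyp (zpowers_le.2 (pow_mem hn _))
    rw [← S.3 h le_sup_left]
    exact mem_sup_right (mem_zpowers _)
  have hko : Odd (orderOf k) := by
    have h1 : orderOf k ∣ orderOf (n ^ a) :=
      orderOf_dvd_of_mem_zpowers (zpow_mem (mem_zpowers _) _)
    refine Odd.of_dvd_nat ?_ h1
    rw [orderOf_pow, ← hN, Nat.gcd_eq_right (Nat.ordProj_dvd N 2)]
    exact Nat.odd_iff.2 (Nat.two_dvd_ne_zero.1 (Nat.not_dvd_ordCompl Nat.prime_two hN0))
  set c0 := y⁻¹ * s⁻¹ * y * s with hc0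
  have hc0Z : c0 ∈ omegaZ (S : Subgroup G) := by
    have h1 := (hM.mem_center_iff_omegaZ S hr hF).1
      (hF.comm_mem_center (⟨y, hy⟩⁻¹ : (S : Subgroup G)) (⟨s, hsS⟩⁻¹))
    have h2 : y⁻¹ * s⁻¹ * y⁻¹⁻¹ * s⁻¹⁻¹ ∈ omegaZ (S : Subgroup G) := h1
    rwa [inv_inv, inv_inv] at h2
  have hky : y⁻¹ * (k * y * k⁻¹) ∈ omegaZ (S : Subgroup G) := by
    have e : y⁻¹ * (k * y * k⁻¹) = y⁻¹ * (n * y * n⁻¹) * (n * c0 * n⁻¹) := by
      rw [hnks, hc0]; group
    rw [e]
    exact mul_mem hny (omegaZ_conj hc0Z hn)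
  set c := y⁻¹ * (k * y * k⁻¹) with hc
  have hcy : c * y = y * c := (hky.2.1 y hy).symm
  have hyy : y * y ∈ omegaZ (S : Subgroup G) :=
    (hM.mem_center_iff_omegaZ S hr hF).1 (hF.sq_mem_center ⟨y, hy⟩)
  have hyy1 : y * y ≠ 1 := fun e => hyZ (hM.mem_omegaZ_of_sq S hy e)
  have hkyy : Commute k (y * y) := by
    refine mul_inv_eq_iff_eq_mul.1 ?_
    calc k * (y * y) * k⁻¹ = (y * c) * (y * c) := by rw [hc]; group
      _ = y * (c * y) * c := by group
      _ = (y * y) * (c * c) := by rw [hcy]; group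
      _ = y * y := by rw [hky.2.2, mul_one]
  refine ⟨s, hsS, fun x hx => ?_⟩
  have hkx := hM.commute_sylow_of_coset S hr hF hkn hko
    (fun z hz => hM.commute_omegaZ_of_one S hkn hko hyy hyy1 hkyy hz) hy hyZ hky
    (w := s * x * s⁻¹) (mul_mem (mul_mem hsS hx) (inv_mem hsS))
  calc n * x * n⁻¹ = k * (s * x * s⁻¹) * k⁻¹ := by rw [hnks]; group
    _ = s * x * s⁻¹ := mul_inv_eq_iff_eq_mul.2 hkx.eq

theorem toQuot_apply_eq_iff (n : normalizer ((S : Subgroup G) : Set G)) (y : (S : Subgroup G)) :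
    toQuot (S : Subgroup G) n (y : (S : Subgroup G) ⧸ Subgroup.center (S : Subgroup G)) = y ↔
      (y : G)⁻¹ * ((n : G) * y * (n : G)⁻¹) ∈ omegaZ (S : Subgroup G) := by
  show ((conjSylow (S : Subgroup G) n n.2 y : (S : Subgroup G)) :
    (S : Subgroup G) ⧸ Subgroup.center (S : Subgroup G)) = y ↔ _
  rw [eq_comm, QuotientGroup.eq, hM.mem_center_iff_omegaZ S hr hF]
  rfl

theorem exists_not_mem_omegaZ : ∃ y ∈ (S : Subgroup G), y ∉ omegaZ (S : Subgroup G) := by
  by_contra h
  push Not at h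
  have := Subgroup.card_le_of_le (h : (S : Subgroup G) ≤ omegaZ (S : Subgroup G))
  rw [hM.card_omegaZ S] at this
  have := hF.card
  omega

/-- An element acting trivially modulo the centre acts as an element of `S`. -/
theorem exists_inner_of_toQuot {n : normalizer ((S : Subgroup G) : Set G)}
    (hn : toQuot (S : Subgroup G) n = 1) :
    ∃ s ∈ (S : Subgroup G), ∀ x ∈ (S : Subgroup G), (n : G) * x * (n : G)⁻¹ = s * x * s⁻¹ := by
  obtain ⟨y, hy, hyZ⟩ := hM.exists_not_mem_omegaZ S hr hF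
  refine hM.exists_inner_of_fix S hr hF n.2 hy hyZ ((hM.toQuot_apply_eq_iff S hr hF n ⟨y, hy⟩).1 ?_)
  rw [hn]; rfl

theorem toQuot_of_inner {n : normalizer ((S : Subgroup G) : Set G)} {s : G}
    (hs : s ∈ (S : Subgroup G))
    (h : ∀ x ∈ (S : Subgroup G), (n : G) * x * (n : G)⁻¹ = s * x * s⁻¹) :
    toQuot (S : Subgroup G) n = 1 := by
  refine MulEquiv.ext fun q => ?_
  induction q using QuotientGroup.induction_on with
  | _ t =>
    rw [MulAut.one_apply, hM.toQuot_apply_eq_iff S hr hF, h t t.2]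
    have h1 := (hM.mem_center_iff_omegaZ S hr hF).1
      (hF.comm_mem_center (t⁻¹ : (S : Subgroup G)) ⟨s, hs⟩)
    have h2 : (t : G)⁻¹ * s * (t : G)⁻¹⁻¹ * s⁻¹ ∈ omegaZ (S : Subgroup G) := h1
    rw [inv_inv] at h2
    rwa [show (t : G)⁻¹ * (s * t * s⁻¹) = (t : G)⁻¹ * s * t * s⁻¹ by group]

theorem toQuot_eq_one_of_fix {n : normalizer ((S : Subgroup G) : Set G)}
    {q : (S : Subgroup G) ⧸ Subgroup.center (S : Subgroup G)} (hq : q ≠ 1)
    (h : toQuot (S : Subgroup G) n q = q) : toQuot (S : Subgroup G) n = 1 := by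
  induction q using QuotientGroup.induction_on with
  | _ t =>
    obtain ⟨s, hs, hs'⟩ := hM.exists_inner_of_fix S hr hF n.2 t.2
      (fun e => hq ((QuotientGroup.eq_one_iff t).2 ((hM.mem_center_iff_omegaZ S hr hF).2 e)))
      ((hM.toQuot_apply_eq_iff S hr hF n t).1 h)
    exact hM.toQuot_of_inner S hr hF hs hs'

theorem card_range_dvd : Nat.card (toQuot (S : Subgroup G)).range ∣ 15 := by
  classical
  set A := (toQuot (S : Subgroup G)).range
  let X := {q : (S : Subgroup G) ⧸ Subgroup.center (S : Subgroup G) // q ≠ 1}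
  letI : MulAction A X :=
    { smul := fun a q => ⟨a.1 q.1, fun e => q.2 ((map_eq_one_iff a.1 a.1.injective).1 e)⟩
      one_smul := fun q => Subtype.ext rfl
      mul_smul := fun a b q => Subtype.ext rfl }
  have hfree : ∀ q : X, MulAction.stabilizer A q = ⊥ := fun q => by
    refine (Subgroup.eq_bot_iff_forall _).2 ?_
    rintro ⟨_, n, rfl⟩ ha
    exact Subtype.ext (hM.toQuot_eq_one_of_fix S hr hF q.2 (congrArg Subtype.val ha))
  have h16 : Nat.card ((S : Subgroup G) ⧸ Subgroup.center (S : Subgroup G)) = 16 := by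
    have := Subgroup.card_eq_card_quotient_mul_card_subgroup (Subgroup.center (S : Subgroup G))
    rw [hF.card, hF.card_center] at this
    omega
  haveI := Fintype.ofFinite ((S : Subgroup G) ⧸ Subgroup.center (S : Subgroup G))
  have h15 : Nat.card X = 15 := by
    rw [Nat.card_eq_fintype_card, Fintype.card_subtype_compl, Fintype.card_subtype_eq,
      ← Nat.card_eq_fintype_card, h16]
  have e := Nat.card_congr (MulAction.selfEquivOrbitsQuotientProd (G := A) hfree)
  rw [h15, Nat.card_prod] at e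
  exact e ▸ dvd_mul_left _ _

theorem orderOf_toQuot : orderOf (toQuot (S : Subgroup G) ⟨r, hr⟩) = 3 := by
  haveI : Fact (Nat.Prime 3) := ⟨Nat.prime_three⟩
  refine orderOf_eq_prime ?_ fun e => ?_
  · refine MulEquiv.ext fun q => ?_
    induction q using QuotientGroup.induction_on with
    | _ t =>
      show ((conjSylow (S : Subgroup G) r hr (conjSylow (S : Subgroup G) r hr
        (conjSylow (S : Subgroup G) r hr t)) : (S : Subgroup G)) :
          (S : Subgroup G) ⧸ Subgroup.center (S : Subgroup G)) = t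
      rw [hF.three]
  · obtain ⟨y, hy, hyZ⟩ := hM.exists_not_mem_omegaZ S hr hF
    refine hyZ ((hM.mem_center_iff_omegaZ S hr hF (x := ⟨y, hy⟩)).1 ?_)
    refine SylL34.fpf_quotient hF.fpf _ (fun x hx => SylL34.Fpf.apply_mem_center _ hx) ?_
    refine (hM.mem_center_iff_omegaZ S hr hF).2
      ((hM.toQuot_apply_eq_iff S hr hF ⟨r, hr⟩ ⟨y, hy⟩).1 ?_)
    rw [e]; rfl

/-- The Sylow 5-subgroup of `N(S)` is not moved: fusion in it is seen in any quotient killing
the inner part. -/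
theorem card_range_ne : Nat.card (toQuot (S : Subgroup G)).range ≠ 15 := by
  classical
  intro h15
  haveI : Fact (Nat.Prime 2) := ⟨Nat.prime_two⟩
  haveI : Fact (Nat.Prime 3) := ⟨Nat.prime_three⟩
  haveI : Fact (Nat.Prime 5) := ⟨by norm_num⟩
  haveI := hM.simple
  set N := normalizer ((S : Subgroup G) : Set G) with hN
  set A := (toQuot (S : Subgroup G)).range
  -- a quotient of order five
  obtain ⟨P₃⟩ : Nonempty (Sylow 3 A) := inferInstance
  have hP₃ : Nat.card (P₃ : Subgroup A) = 3 := by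
    rw [P₃.card_eq_multiplicity, h15, show (15 : ℕ) = 3 * 5 by norm_num,
      Nat.factorization_mul (by norm_num) (by norm_num), Finsupp.add_apply,
      Nat.Prime.factorization_self Nat.prime_three,
      Nat.factorization_eq_zero_of_not_dvd (show ¬ 3 ∣ 5 by norm_num)]
    rfl
  have hidx : (P₃ : Subgroup A).index = 5 := by
    have := (P₃ : Subgroup A).card_mul_index
    rw [hP₃, h15] at this
    omega
  haveI : (P₃ : Subgroup A).Normal := by
    have h1 := P₃.card_dvd_index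
    rw [hidx] at h1
    have h2 := card_sylow_modEq_one 3 A
    have h3 : Nat.card (Sylow 3 A) = 1 := by
      rcases (Nat.dvd_prime (by norm_num : Nat.Prime 5)).1 h1 with e | e
      · exact e
      · rw [e] at h2
        simp [Nat.ModEq] at h2
    haveI : Subsingleton (Sylow 3 A) := (Nat.card_eq_one_iff_unique.1 h3).1
    exact P₃.normal_of_subsingleton
  haveI : IsCyclic (A ⧸ (P₃ : Subgroup A)) := isCyclic_of_prime_card (p := 5) hidx
  have hcomm : ∀ a b : A ⧸ (P₃ : Subgroup A), a * b = b * a := fun a b => by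
    obtain ⟨g, hg⟩ := IsCyclic.exists_generator (α := A ⧸ (P₃ : Subgroup A))
    obtain ⟨i, rfl⟩ := Subgroup.mem_zpowers_iff.1 (hg a)
    obtain ⟨j, rfl⟩ := Subgroup.mem_zpowers_iff.1 (hg b)
    rw [← zpow_add, ← zpow_add, add_comm]
  set φ : N →* A ⧸ (P₃ : Subgroup A) :=
    (QuotientGroup.mk' (P₃ : Subgroup A)).comp (toQuot (S : Subgroup G)).rangeRestrict with hφdef
  have hφs : Function.Surjective φ :=
    (QuotientGroup.mk'_surjective _).comp (toQuot (S : Subgroup G)).rangeRestrict_surjective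
  have hφ1 : ∀ n : N, toQuot (S : Subgroup G) n = 1 → φ n = 1 := fun n hn => by
    show QuotientGroup.mk' _ _ = 1
    rw [show (toQuot (S : Subgroup G)).rangeRestrict n = 1 from Subtype.ext hn, map_one]
  obtain ⟨P₅⟩ : Nonempty (Sylow 5 N) := inferInstance
  set P := (P₅ : Subgroup N).map N.subtype with hP
  have hPN : P ≤ N := map_subtype_le _
  have hP5 : IsPGroup 5 P := P₅.2.map _
  obtain ⟨p₀, hp₀P, hp₀⟩ : ∃ p ∈ (P₅ : Subgroup N), φ p ≠ 1 := by
    by_contra h
    push Not at h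
    have h1 : ((P₅.mapSurjective hφs : Sylow 5 _) : Subgroup (A ⧸ (P₃ : Subgroup A))) = ⊥ := by
      rw [Sylow.coe_mapSurjective, Subgroup.map_eq_bot_iff]
      exact h
    refine Sylow.ne_bot_of_dvd_card _ ?_ h1
    rw [← Subgroup.index_eq_card, hidx]
  have hP1 : P ≠ ⊥ := fun e => hp₀ (by
    have h1 : p₀ = 1 := Subtype.ext (Subgroup.mem_bot.1 (e ▸ ⟨p₀, hp₀P, rfl⟩ : (p₀ : G) ∈ (⊥ : Subgroup G)))
    rw [h1, map_one])
  have h5π : 5 ∈ π := by
    by_contra h5
    refine hp₀ (hφ1 _ (hM.toQuot_of_inner S hr hF (one_mem _) fun x hx => ?_))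
    have h1 := hM.commute_two S.2 (isPi'_of_isPGroup h5 hP5 ⟨p₀, hp₀P, rfl⟩) p₀.2 hx
    rw [one_mul, inv_one, mul_one]
    exact mul_inv_eq_iff_eq_mul.2 h1.symm
  set Z := omegaZ (S : Subgroup G) with hZ
  have hPZ : ∀ x ∈ P, ∀ z ∈ Z, Commute x z := fun x hx z hz => by
    obtain ⟨j, hj, hjz⟩ := hM.exists_pow_fix S (hPN hx) hz
    obtain ⟨c, hc⟩ := hP5 ⟨x, hx⟩
    have hc' : x ^ 5 ^ c = 1 := congrArg Subtype.val hc
    refine pow_fix_of (a := j) (b := 5 ^ c) (Nat.Coprime.pow_right c ?_) hjz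
      (by rw [hc']; exact Commute.one_left z)
    rcases hj with rfl | rfl | rfl <;> norm_num
  obtain ⟨z₀, hz₀, hz₀1⟩ := hM.exists_mem_omegaZ S
  set NZ := normalizer (Z : Set G) with hNZ
  have hNZt : NZ ≠ ⊤ := hM.normalizer_ne_top (fun e => hz₀1 (Subgroup.mem_bot.1 (e ▸ hz₀)))
    (hM.ne_top_of_isPGroup (hM.isPGroup_omegaZ S))
  have hSNZ : Blocks.SylIn 2 NZ (S : Subgroup G) :=
    sylIn_of_le S (le_normalizer.trans (hM.normalizer_sylow_le S))
  -- `P` is a Sylow subgroup of `G`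
  obtain ⟨P', hP'⟩ := hP5.exists_le_sylow
  have hPP' : (P' : Subgroup G) = P := by
    by_contra hne
    obtain ⟨x, hxP', hxn, hxP⟩ := exists_norm_gt P'.2 (lt_of_le_of_ne hP' (Ne.symm hne))
    set L := normalizer (P : Set G) with hL
    have hLt : L ≠ ⊤ := hM.normalizer_ne_top hP1 (hM.ne_top_of_isPGroup hP5)
    have hZL : Z ≤ L := fun z hz => mem_normalizer_of_forall fun y hy => by
      rw [← (hPZ y hy z hz).eq, mul_inv_cancel_right]; exact hy
    obtain ⟨T, hT, hZT⟩ := hM.exists_sylIn_ge (hM.isPGroup_omegaZ S) hZL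
    set K₁ := piK π L
    set K₂ := piK π NZ
    set B₁ := L ⊓ normalizer (T : Set G) with hB₁
    have hB₁NZ : B₁ ≤ NZ := fun g hg => hM.normalizer_omegaZ S hT.isPGroup hZT hg.2
    have hL1 : L ≤ B₁ ⊔ K₁ := fun g hg => by
      obtain ⟨k, hk, hn⟩ := hM.frattini hLt hT hg
      rw [show g = k * (k⁻¹ * g) by group]
      exact mul_mem (mem_sup_right hk)
        (mem_sup_left (Subgroup.mem_inf.2 ⟨mul_mem (inv_mem (hM.piK_le hLt hk)) hg, hn⟩))
    have hL2 : NZ ≤ N ⊔ K₂ := fun g hg => by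
      obtain ⟨k, hk, hn⟩ := hM.frattini hNZt hSNZ hg
      rw [show g = k * (k⁻¹ * g) by group]
      exact mul_mem (mem_sup_right hk) (mem_sup_left hn)
    set Q := P ⊔ zpowers x
    have hQL : Q ≤ L := sup_le le_normalizer (zpowers_le.2 hxn)
    have hQ5 : IsPGroup 5 Q := P'.2.to_le (sup_le hP' (zpowers_le.2 hxP'))
    have hd : Nat.card Q ∣ Nat.card N * (Nat.card K₂ * Nat.card K₁) := by
      rw [← mul_assoc]
      have h1 := (Subgroup.card_dvd_of_le (hQL.trans hL1)).trans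
        (card_sup_dvd (inf_le_left.trans (hM.le_normalizer_piK hLt)))
      refine h1.trans (Nat.mul_dvd_mul_right ((Subgroup.card_dvd_of_le (hB₁NZ.trans hL2)).trans
        (card_sup_dvd ((hM.normalizer_sylow_le S).trans (hM.le_normalizer_piK hNZt)))) _)
    obtain ⟨j, hj⟩ := IsPGroup.iff_card.1 hQ5
    have hcop : ∀ {L' : Subgroup G}, L' ≠ ⊤ → Nat.Coprime 5 (Nat.card (piK π L')) := fun h =>
      (Nat.Prime.coprime_iff_not_dvd (by norm_num)).2 fun h' =>
        prime_notMem_of_forall (fun _ hx => hM.isPi'_piK h hx) 5 (by norm_num) h' h5π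
    have h2 : 5 ^ j ∣ Nat.card N := by
      refine (Nat.Coprime.pow_left j ?_).dvd_of_dvd_mul_right (hj ▸ hd)
      exact (hcop hNZt).mul_right (hcop hLt)
    have h3 : Nat.card Q ≤ Nat.card P := by
      rw [hj, hP, Subgroup.card_map_of_injective N.subtype_injective, P₅.card_eq_multiplicity]
      exact Nat.pow_le_pow_right (by norm_num)
        ((Nat.Prime.pow_dvd_iff_le_factorization (by norm_num) Nat.card_pos.ne').1 h2)
    refine hxP ?_
    rw [Subgroup.eq_of_le_of_card_ge (le_sup_left : P ≤ Q) h3]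
    exact mem_sup_right (mem_zpowers x)
  -- fusion in `P`
  have hfus : ∀ (x g : G) (hx : x ∈ P) (hy : g * x * g⁻¹ ∈ P),
      φ ⟨g * x * g⁻¹, hPN hy⟩ = φ ⟨x, hPN hx⟩ := by
    intro x g hx hy
    by_cases hx1 : x = 1
    · subst hx1
      congr 2
      group
    set y := g * x * g⁻¹ with hydef
    set L := centralizer ({y} : Set G) with hL
    have hLt : L ≠ ⊤ := hM.centralizer_ne_top fun e => hx1 (conj_eq_one_iff.1 e)
    have hZL : Z ≤ L := fun z hz => mem_centralizer_singleton_iff.2 (hPZ y hy z hz).symm.eq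
    obtain ⟨T, hT, hZT⟩ := hM.exists_sylIn_ge (hM.isPGroup_omegaZ S) hZL
    obtain ⟨k, hk, hkT⟩ := hM.exists_conj_into hLt hT
      (Q := Z.map (MulAut.conj g).toMonoidHom) ((hM.isPGroup_omegaZ S).map _) (by
        rintro _ ⟨z, hz, rfl⟩
        refine mem_centralizer_singleton_iff.2 ?_
        show g * z * g⁻¹ * y = y * (g * z * g⁻¹)
        calc g * z * g⁻¹ * y = g * (z * x) * g⁻¹ := by rw [hydef]; group
          _ = g * (x * z) * g⁻¹ := by rw [(hPZ x hx z hz).eq]
          _ = y * (g * z * g⁻¹) := by rw [hydef]; group)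
    have hkg : k * g ∈ NZ := mem_normalizer_of_forall fun z hz => by
      refine hM.mem_omegaZ_of_conj S hT.isPGroup hZT hz ?_
      have h1 : k * (g * z * g⁻¹) * k⁻¹ ∈ T := hkT _ ⟨z, hz, rfl⟩
      simpa [mul_assoc] using h1
    obtain ⟨k', hk', hn⟩ := hM.frattini hNZt hSNZ hkg
    set n := k'⁻¹ * (k * g) with hndef
    set w := n * x * n⁻¹ with hwdef
    have hwN : w ∈ N := mul_mem (mul_mem hn (hPN hx)) (inv_mem hn)
    have hky : k * y * k⁻¹ = y :=
      mul_inv_eq_iff_eq_mul.2 (mem_centralizer_singleton_iff.1 (hM.piK_le hLt hk))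
    have e1 : y * w⁻¹ = k' * (w * k'⁻¹ * w⁻¹) := by
      have e2 : y = k' * w * k'⁻¹ := by
        rw [hwdef, hndef]
        conv_lhs => rw [← hky, hydef]
        group
      rw [e2]; group
    have hK : y * w⁻¹ ∈ piK π NZ := by
      rw [e1]
      exact mul_mem hk' ((mem_normalizer_iff.1
        (hM.le_normalizer_piK hNZt (hM.normalizer_sylow_le S hwN)) _).1 (inv_mem hk'))
    have hyw : y * w⁻¹ ∈ N := mul_mem (hPN hy) (inv_mem hwN)
    have h1 : φ ⟨y * w⁻¹, hyw⟩ = 1 := hφ1 _ (hM.toQuot_of_inner S hr hF (one_mem _) fun v hv => by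
      rw [one_mul, inv_one, mul_one]
      exact mul_inv_eq_iff_eq_mul.2 (hM.commute_two S.2 (hM.isPi'_piK hNZt hK) hyw hv).symm)
    have e3 : (⟨y, hPN hy⟩ : N) = ⟨y * w⁻¹, hyw⟩ * ⟨w, hwN⟩ :=
      Subtype.ext (by show y = y * w⁻¹ * w; group)
    have e4 : (⟨w, hwN⟩ : N) = ⟨n, hn⟩ * ⟨x, hPN hx⟩ * (⟨n, hn⟩)⁻¹ := Subtype.ext rfl
    rw [e3, map_mul, h1, one_mul, e4, map_mul, map_mul, map_inv, hcomm (φ ⟨n, hn⟩),
      mul_inv_cancel_right]
  -- the focal subgroup
  have hfoc := Subgroup.commutator_inf_eq_focalSubgroup P'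
  have htop : _root_.commutator G = ⊤ := by
    rcases (inferInstance : (_root_.commutator G).Normal).eq_bot_or_eq_top with e | e
    · exfalso
      obtain ⟨a, b, hab⟩ := hM.noncomm
      refine hab (commutatorElement_eq_one_iff_mul_comm.1 (Subgroup.mem_bot.1 ?_))
      rw [← e]
      exact Subgroup.commutator_mem_commutator (mem_top a) (mem_top b)
    · exact e
  rw [htop, top_inf_eq, hPP'] at hfoc
  have hle : P ≤ (φ.ker.map N.subtype) := by
    rw [hfoc, Subgroup.focalSubgroup_def, closure_le]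
    rintro _ ⟨hc, a, ha, u, rfl⟩
    have hb : u * a⁻¹ * u⁻¹ ∈ P := by
      rw [show u * a⁻¹ * u⁻¹ = a⁻¹ * ⁅a, u⁆ by rw [commutatorElement_def]; group]
      exact mul_mem (inv_mem ha) hc
    refine ⟨⟨⁅a, u⁆, hPN hc⟩, ?_, rfl⟩
    show φ _ = 1
    have e : (⟨⁅a, u⁆, hPN hc⟩ : N) = ⟨a, hPN ha⟩ * ⟨u * a⁻¹ * u⁻¹, hPN hb⟩ :=
      Subtype.ext (by show ⁅a, u⁆ = a * (u * a⁻¹ * u⁻¹); rw [commutatorElement_def]; group)
    rw [e, map_mul, hfus a⁻¹ u (inv_mem ha) hb, ← map_mul]
    rw [show (⟨a, hPN ha⟩ : N) * ⟨a⁻¹, hPN (inv_mem ha)⟩ = 1 from Subtype.ext (mul_inv_cancel a),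
      map_one]
  obtain ⟨q, hq, hqe⟩ := hle ⟨p₀, hp₀P, rfl⟩
  exact hp₀ (N.subtype_injective hqe ▸ hq)

/-- The automiser of `S` is generated by the inner automorphisms and conjugation by `r`. -/
theorem automizer_three : ∀ g ∈ normalizer ((S : Subgroup G) : Set G), ∃ i : ℕ,
    ∃ c ∈ (S : Subgroup G), ∀ x ∈ (S : Subgroup G),
      g * x * g⁻¹ = (r ^ i * c) * x * (r ^ i * c)⁻¹ := by
  intro g hg
  set ψ := toQuot (S : Subgroup G)
  set R : normalizer ((S : Subgroup G) : Set G) := ⟨r, hr⟩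
  have h3 := hM.orderOf_toQuot S hr hF
  have hle : zpowers (ψ R) ≤ ψ.range := zpowers_le.2 ⟨R, rfl⟩
  have he : Nat.card ψ.range = 3 := by
    have hd := hM.card_range_dvd S hr hF
    have h3d : 3 ∣ Nat.card ψ.range := by
      have := Subgroup.card_dvd_of_le hle
      rwa [Nat.card_zpowers, h3] at this
    have hne := hM.card_range_ne S hr hF
    have := Nat.le_of_dvd (by norm_num) hd
    interval_cases h : Nat.card ψ.range <;> omega
  have heq : zpowers (ψ R) = ψ.range :=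
    Subgroup.eq_of_le_of_card_ge hle (by rw [he, Nat.card_zpowers, h3])
  obtain ⟨i, hi⟩ := mem_powers_iff_mem_zpowers.2
    (heq ▸ ⟨⟨g, hg⟩, rfl⟩ : ψ ⟨g, hg⟩ ∈ zpowers (ψ R))
  simp only at hi
  have h1 : ψ ((R ^ i)⁻¹ * ⟨g, hg⟩) = 1 := by
    rw [map_mul, map_inv, map_pow, hi, inv_mul_cancel]
  obtain ⟨s, hs, hs'⟩ := hM.exists_inner_of_toQuot S hr hF h1
  refine ⟨i, s, hs, fun x hx => ?_⟩
  have h2 : ((r ^ i)⁻¹ * g) * x * ((r ^ i)⁻¹ * g)⁻¹ = s * x * s⁻¹ := hs' x hx
  calc g * x * g⁻¹ = r ^ i * (((r ^ i)⁻¹ * g) * x * ((r ^ i)⁻¹ * g)⁻¹) * (r ^ i)⁻¹ := by group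
    _ = r ^ i * (s * x * s⁻¹) * (r ^ i)⁻¹ := by rw [h2]
    _ = (r ^ i * s) * x * (r ^ i * s)⁻¹ := by group

end Min

end Cfsg.Agent.PiHom
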