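import Cfsg.Agent.Lib.PiHom.Lift64
import Cfsg.Agent.Lib.ZStar.HomocyclicShape
import Cfsg.Agent.Lib.ZStar.HomocyclicLinear
import Cfsg.Agent.Lib.Blocks.ThirdMain
import Cfsg.Agent.Lib.ZStar.Assemble

/-!
# A perfect group has no Sylow 2-subgroup of order 64 of this kind
-/

set_option autoImplicit false
set_option linter.style.haveILetI false
set_option linter.unusedSectionVars false

namespace Cfsg.Agent.PiHom.Sylow64

open Cfsg
open scoped ComplexConjugate

universe u

variable {G : Type u} [Group G] [Fintype G] {M : Ideal AlgInt}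

/-- The nontrivial linear characters. -/
abbrev LinNe (P : Subgroup G) [Fintype P] : Type u :=
  {μ : IrrCharacter P // μ ∈ lin P ∧ μ ≠ Char.trivialChar P}

namespace Data

variable {P : Subgroup G} {σ : MulAut P} (h : Data P σ) [Fintype P]
include h

theorem exists_hom (μ : LinNe P) : ∃ l : P →* ℂ, ⇑l = μ.1.1 :=
  Char.IsCharacter.exists_monoidHom (Char.irr_isCharacter μ.1) (mem_lin.1 μ.2.1)

theorem exists_rot (μ : LinNe P) : ∃ ν : LinNe P, ∀ x, ν.1.1 x = μ.1.1 (σ x) := by
  obtain ⟨l, hl⟩ := h.exists_hom μ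
  refine ⟨⟨Char.linIrr (l.comp σ.toMonoidHom), mem_lin.2 ?_, fun e => μ.2.2 ?_⟩,
    fun x => ?_⟩
  · rw [Char.linIrr_apply, map_one]
  · refine Subtype.ext (funext fun x => ?_)
    obtain ⟨y, rfl⟩ := σ.surjective x
    have := congrFun (congrArg Subtype.val e) y
    rw [Char.linIrr_apply, MonoidHom.comp_apply, Char.trivialChar_apply] at this
    rw [← hl, Char.trivialChar_apply]
    exact this
  · rw [Char.linIrr_apply, MonoidHom.comp_apply, ← hl]
    rfl

/-- The action of the automorphism on the characters. -/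
noncomputable def rot (μ : LinNe P) : LinNe P := (h.exists_rot μ).choose

theorem rot_apply (μ : LinNe P) (x : P) : (h.rot μ).1.1 x = μ.1.1 (σ x) :=
  (h.exists_rot μ).choose_spec x

theorem rot_cube (μ : LinNe P) : h.rot (h.rot (h.rot μ)) = μ :=
  Subtype.ext (Subtype.ext (funext fun x => by simp only [h.rot_apply, h.fpf.three]))

theorem rot_ne (μ : LinNe P) : h.rot μ ≠ μ := by
  intro e
  refine μ.2.2 (Subtype.ext (funext fun z => ?_))
  obtain ⟨x, rfl⟩ := (SylL34.inv_mul_bijective h.fpf.fpf).2 z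
  show μ.1.1 (x⁻¹ * σ x) = 1
  rw [lin_mul μ.2.1, ← h.rot_apply, e, ← lin_mul μ.2.1, inv_mul_cancel, mem_lin.1 μ.2.1]

theorem rot_injective : Function.Injective h.rot := fun a b e => by
  rw [← h.rot_cube a, ← h.rot_cube b, e]

/-- Being in one orbit. -/
def Mate (μ ν : LinNe P) : Prop := μ = ν ∨ μ = h.rot ν ∨ μ = h.rot (h.rot ν)

theorem mate_symm {μ ν : LinNe P} (e : h.Mate μ ν) : h.Mate ν μ := by
  rcases e with e | e | e
  · exact Or.inl e.symm
  · exact Or.inr (Or.inr (by rw [e, h.rot_cube]))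
  · exact Or.inr (Or.inl (by rw [e, h.rot_cube]))

omit h in
/-- Three times the principal character minus an orbit sum. -/
noncomputable def fvec (_h : Data P σ) (μ : LinNe P) : P → ℂ :=
  fun x => 3 - (μ.1.1 x + μ.1.1 (σ x) + μ.1.1 (σ (σ x)))

theorem fvec_inv (μ : LinNe P) : Inv σ (h.fvec μ) := by
  refine ⟨fun x => ?_, fun c x => ?_⟩
  · simp only [fvec, h.fpf.three]; ring
  · have e : ∀ a b : P, μ.1.1 (a * b * a⁻¹) = μ.1.1 b := fun a b =>
      Blocks.irr_classFun μ.1 b a
    simp only [fvec, map_mul, map_inv, e]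

theorem fvec_eq (μ : LinNe P) : h.fvec μ = (3 : ℂ) • (Char.trivialChar P).1 -
    (μ.1.1 + (h.rot μ).1.1 + (h.rot (h.rot μ)).1.1) := by
  funext x
  simp [fvec, h.rot_apply]

theorem fvec_center (μ : LinNe P) {z : P} (hz : z ∈ Subgroup.center P) : h.fvec μ z = 0 := by
  simp only [fvec]
  rw [lin_center h.fpf μ.2.1 hz, lin_center h.fpf μ.2.1 (SylL34.Fpf.apply_mem_center σ hz),
    lin_center h.fpf μ.2.1 (SylL34.Fpf.apply_mem_center σ (SylL34.Fpf.apply_mem_center σ hz))]
  norm_num

theorem fvec_one (μ : LinNe P) : h.fvec μ 1 = 0 := h.fvec_center μ (one_mem _)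

theorem isGeneralized_fvec (μ : LinNe P) : IsGeneralizedCharacter P (h.fvec μ) := by
  rw [h.fvec_eq, show (3 : ℂ) = ((3 : ℤ) : ℂ) by norm_num]
  exact Char.IsGeneralizedCharacter.sub
    (Char.IsGeneralizedCharacter.intCast_smul (Char.irr_isGeneralized _) _)
    (Char.IsGeneralizedCharacter.add (Char.IsGeneralizedCharacter.add (Char.irr_isGeneralized _)
      (Char.irr_isGeneralized _)) (Char.irr_isGeneralized _))

theorem classInner_rot {φ : P → ℂ} (hφ : ∀ x, φ (σ x) = φ x) (μ : LinNe P) :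
    classInner φ (h.rot μ).1.1 = classInner φ μ.1.1 := by
  rw [classInner, classInner]
  congr 1
  refine Fintype.sum_equiv σ.toEquiv _ _ fun x => ?_
  show φ x * conj ((h.rot μ).1.1 x) = φ (σ x) * conj (μ.1.1 (σ x))
  rw [h.rot_apply, hφ]

theorem classInner_fvec {φ : P → ℂ} (hφ : ∀ x, φ (σ x) = φ x) (μ : LinNe P) :
    classInner φ (h.fvec μ) =
      3 * (classInner φ (Char.trivialChar P).1 - classInner φ μ.1.1) := by
  rw [h.fvec_eq, Char.classInner_sub_right, Char.classInner_add_right, Char.classInner_add_right,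
    Char.classInner_smul_right, h.classInner_rot hφ, h.classInner_rot hφ, h.classInner_rot hφ,
    map_ofNat]
  ring

open Classical in
theorem classInner_irr_fvec (μ ν : LinNe P) :
    classInner μ.1.1 (h.fvec ν) = -(if h.Mate μ ν then 1 else 0) := by
  rw [h.fvec_eq, Char.classInner_sub_right, Char.classInner_add_right, Char.classInner_add_right,
    Char.classInner_smul_right, map_ofNat, Char.classInner_irr, Char.classInner_irr,
    Char.classInner_irr, Char.classInner_irr, if_neg μ.2.2]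
  simp only [← Subtype.ext_iff]
  have d1 := h.rot_ne ν
  have d2 : h.rot (h.rot ν) ≠ h.rot ν := h.rot_ne _
  have d3 : h.rot (h.rot ν) ≠ ν := fun e => d1 (by
    have := congrArg h.rot e
    rw [h.rot_cube] at this
    exact this.symm)
  by_cases e1 : μ = ν
  · subst e1
    simp [Mate, d1.symm, d3.symm]
  by_cases e2 : μ = h.rot ν
  · subst e2
    simp [Mate, d1, d2.symm]
  by_cases e3 : μ = h.rot (h.rot ν)
  · subst e3
    simp [Mate, d2, d3]
  simp [Mate, e1, e2, e3]

theorem classInner_triv_fvec (ν : LinNe P) :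
    classInner (Char.trivialChar P).1 (h.fvec ν) = 3 := by
  rw [h.classInner_fvec (φ := (Char.trivialChar P).1) (fun _ => rfl), Char.classInner_irr,
    Char.classInner_irr, if_pos rfl, if_neg (Ne.symm ν.2.2)]
  norm_num

open Classical in
theorem classInner_fvec_fvec (μ ν : LinNe P) :
    classInner (h.fvec ν) (h.fvec μ) = 3 * (3 + if h.Mate μ ν then 1 else 0) := by
  rw [h.classInner_fvec (h.fvec_inv ν).apply, ← Char.conj_classInner (Char.trivialChar P).1,
    ← Char.conj_classInner μ.1.1, h.classInner_triv_fvec, h.classInner_irr_fvec]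
  split_ifs <;> simp [map_ofNat]

theorem sum_lin_split (g : IrrCharacter P → ℂ) [Fintype (LinNe P)] :
    ∑ χ ∈ lin P, g χ = g (Char.trivialChar P) + ∑ μ : LinNe P, g μ.1 := by
  classical
  rw [← Finset.add_sum_erase (lin P) g (mem_lin.2 (Char.trivialChar_apply 1))]
  congr 1
  exact Finset.sum_subtype _ (fun x => by rw [Finset.mem_erase, and_comm]) g

theorem card_linNe [Fintype (LinNe P)] : Fintype.card (LinNe P) = 15 := by
  classical
  have e := h.sum_lin_split (fun _ => 1)
  simp only [Finset.sum_const, card_lin h.fpf, nsmul_eq_mul, mul_one, Finset.card_univ] at e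
  have : ((16 : ℕ) : ℂ) = ((1 + Fintype.card (LinNe P) : ℕ) : ℂ) := by push_cast; exact_mod_cast e
  have := Nat.cast_injective this
  omega

theorem restrict_apply (χ : IrrCharacter G) (x : P) : χ.1 (σ x : G) = χ.1 (x : G) := by
  obtain ⟨c, hc⟩ := isConj_iff.mp (h.isConj_apply x)
  rw [← hc, Blocks.irr_classFun χ]

open Classical in
/-- The coefficients of the lifts, with degree and value at a central involution. -/
theorem exists_weights (hM : IsPModular 2 M) {z : P} (hz : z ∈ Subgroup.center P) (hz1 : z ≠ 1)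
    [Fintype (LinNe P)] :
    ∃ (W : LinNe P → IrrCharacter G → ℤ) (v : IrrCharacter G → ℤ),
      (∀ μ, ∑ χ, W μ χ * (charDegree χ.1 : ℤ) = 0) ∧
      (∀ μ, ∑ χ, W μ χ * v χ = 0) ∧
      (∀ μ, W μ (Char.trivialChar G) = 1) ∧
      (∀ μ ν, ∑ χ, W μ χ * W ν χ = 3 + if h.Mate μ ν then 1 else 0) ∧
      (∀ μ χ, χ ∉ principalBlock M G → W μ χ = 0) ∧
      (∀ χ, χ ∈ principalBlock M G → χ.1 (z : G) = (v χ : ℂ) ∧ ∃ m k : ℤ,
        (charDegree χ.1 : ℤ) = 16 * m - (∑ μ, W μ χ) + 12 * k ∧
        v χ = 16 * m - (∑ μ, W μ χ) - 4 * k) ∧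
      ∀ μ, ∑ χ, (W μ χ : ℂ) * (χ.1 (z : G) * χ.1 (z : G) / χ.1 1) = 0 := by
  haveI := hM.2.1
  haveI : Fact (Nat.Prime 2) := ⟨Nat.prime_two⟩
  have hint : ∀ μ (χ : IrrCharacter G), ∃ k : ℤ,
      classInner χ.1 (h.lift (h.fvec μ)) = (k : ℂ) := fun μ χ =>
    Char.IsGeneralizedCharacter.exists_int_classInner (Char.irr_isGeneralized χ)
      (h.isGeneralized_lift (h.fvec_inv μ) (h.isGeneralized_fvec μ))
  choose W hW using hint
  have hD : ∀ μ, h.lift (h.fvec μ) = ∑ χ, (W μ χ : ℂ) • χ.1 := fun μ => by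
    conv_lhs => rw [Char.eq_sum_classInner_smul (h.isClassFunction_lift (h.fvec_inv μ))]
    refine Finset.sum_congr rfl fun χ _ => ?_
    rw [← Char.conj_classInner χ.1, hW, map_intCast]
  have hout : ∀ μ χ, χ ∉ principalBlock M G → W μ χ = 0 := fun μ χ hχ => by
    have e := (h.classInner_irr_lift hM (h.fvec_inv μ) (h.fvec_one μ) χ).2 hχ
    rw [hW] at e
    exact_mod_cast e
  have hin : ∀ μ χ, χ ∈ principalBlock M G →
      (W μ χ : ℂ) = 3⁻¹ * classInner (fun x : P => χ.1 (x : G)) (h.fvec μ) := fun μ χ hχ => by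
    rw [← hW]; exact (h.classInner_irr_lift hM (h.fvec_inv μ) (h.fvec_one μ) χ).1 hχ
  have hval : ∀ χ : IrrCharacter G, ∃ n : ℤ, χ ∈ principalBlock M G → χ.1 (z : G) = (n : ℂ) ∧
      ∃ m k : ℤ, (charDegree χ.1 : ℤ) = 16 * m - (∑ μ, W μ χ) + 12 * k ∧
        n = 16 * m - (∑ μ, W μ χ) - 4 * k := by
    intro χ
    by_cases hχ : χ ∈ principalBlock M G
    · set φ : P → ℂ := fun x => χ.1 (x : G) with hφdef
      have hφ : ∀ x, φ (σ x) = φ x := fun x => h.restrict_apply χ x
      have hφg : IsGeneralizedCharacter P φ :=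
        Char.IsGeneralizedCharacter.comp (Char.irr_isGeneralized χ) P.subtype
      obtain ⟨m, hm⟩ := Char.IsGeneralizedCharacter.exists_int_classInner hφg
        (Char.irr_isGeneralized (Char.trivialChar P))
      obtain ⟨k, h1, h2⟩ := exists_center_shape h.fpf hφg hφ hz hz1
      have hcoef : ∀ μ : LinNe P, classInner φ μ.1.1 = (m : ℂ) - (W μ χ : ℂ) := fun μ => by
        have e := hin μ χ hχ
        rw [h.classInner_fvec hφ, hm, ← mul_assoc, inv_mul_cancel₀ (by norm_num : (3 : ℂ) ≠ 0),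
          one_mul] at e
        rw [e]; ring
      rw [h.sum_lin_split, hm, Finset.sum_congr rfl (fun μ _ => hcoef μ), Finset.sum_sub_distrib,
        Finset.sum_const, Finset.card_univ, h.card_linNe, nsmul_eq_mul] at h1 h2
      push_cast at h1 h2
      refine ⟨16 * m - (∑ μ, W μ χ) - 4 * k, fun _ => ⟨?_, m, k, ?_, rfl⟩⟩
      · show φ z = _
        rw [h2]; push_cast; ring
      · have e : ((charDegree χ.1 : ℤ) : ℂ) =
            ((16 * m - (∑ μ, W μ χ) + 12 * k : ℤ) : ℂ) := by
          rw [Int.cast_natCast, Char.charDegree_cast,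
            show χ.1 1 = φ 1 by rw [hφdef]; simp, h1]
          push_cast; ring
        exact_mod_cast e
    · exact ⟨0, fun hc => absurd hc hχ⟩
  choose v hv using hval
  refine ⟨W, v, fun μ => ?_, fun μ => ?_, fun μ => ?_, fun μ ν => ?_, hout, hv, fun μ => ?_⟩
  · have e := congrFun (hD μ) 1
    rw [h.lift_one (h.fvec_inv μ) (h.fvec_one μ)] at e
    simp only [Finset.sum_apply, Pi.smul_apply, smul_eq_mul, ← Char.charDegree_cast] at e
    exact_mod_cast e.symm
  · have e := congrFun (hD μ) (z : G)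
    have h0 : h.lift (h.fvec μ) (z : G) = 0 := by
      have h1 : IsPPart 2 (z : G) (z : G) :=
        ⟨1, mul_one _, Commute.one_right _, h.two_pow z, by simp⟩
      rw [lift, h.apply_pick (h.fvec_inv μ) h1 (IsConj.refl _), h.fvec_center μ hz]
    rw [h0, Finset.sum_apply] at e
    have e2 : ((∑ χ, W μ χ * v χ : ℤ) : ℂ) = ((0 : ℤ) : ℂ) := by
      push_cast
      rw [e]
      refine Finset.sum_congr rfl fun χ _ => ?_
      rw [Pi.smul_apply, smul_eq_mul]
      by_cases hχ : χ ∈ principalBlock M G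
      · rw [(hv χ hχ).1]
      · rw [hout μ χ hχ, Int.cast_zero, zero_mul, zero_mul]
    exact_mod_cast e2
  · have e := hin μ (Char.trivialChar G) Blocks.trivial_mem_principalBlock
    rw [show (fun x : P => (Char.trivialChar G).1 (x : G)) = (Char.trivialChar P).1 from rfl,
      h.classInner_triv_fvec, inv_mul_cancel₀ (by norm_num : (3 : ℂ) ≠ 0)] at e
    exact_mod_cast e
  · have e := h.classInner_lift_lift (h.fvec_inv ν) (h.fvec_one ν) (h.fvec_inv μ)
    rw [h.classInner_fvec_fvec ν μ, Char.classInner_eq_sum (h.isClassFunction_lift (h.fvec_inv μ)),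
      Finset.sum_congr rfl (g := fun χ => (W μ χ : ℂ) * (W ν χ : ℂ)) (fun χ _ => by
        rw [← Char.conj_classInner χ.1, hW, hW, map_intCast]),
      ← mul_assoc, inv_mul_cancel₀ (by norm_num : (3 : ℂ) ≠ 0), one_mul] at e
    have hsym : h.Mate ν μ ↔ h.Mate μ ν := ⟨h.mate_symm, h.mate_symm⟩
    simp only [hsym] at e
    split_ifs at e ⊢ with hm <;> exact_mod_cast e
  · -- the class multiplication relation
    set Q : IrrCharacter G → ℂ := fun χ => χ.1 (z : G) * χ.1 (z : G) / χ.1 1 with hQ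
    have e : ∀ χ, (W μ χ : ℂ) * Q χ = 3⁻¹ * (Nat.card P : ℂ)⁻¹ *
        ∑ y : P, conj (h.fvec μ y) * (if χ ∈ principalBlock M G then Q χ * χ.1 (y : G) else 0) := by
      intro χ
      by_cases hχ : χ ∈ principalBlock M G
      · rw [hin μ χ hχ, classInner]
        simp only [if_pos hχ, Finset.mul_sum, Finset.sum_mul]
        exact Finset.sum_congr rfl fun y _ => by ring
      · simp [hout μ χ hχ, hχ]
    show ∑ χ, (W μ χ : ℂ) * Q χ = 0
    rw [Finset.sum_congr rfl (fun χ _ => e χ), ← Finset.mul_sum, Finset.sum_comm,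
      Finset.sum_eq_zero (fun y _ => ?_), mul_zero]
    by_cases hy : y ∈ Subgroup.center P
    · simp [h.fvec_center μ hy]
    · rw [← Finset.mul_sum, ← Finset.sum_filter,
        h.structure_sum hM (x := y) (t := z) (fun e => hy (h.mem_center_of_sq y e))
          (h.fpf.inv_center hz), mul_zero]

omit h in
/-- The numerical contradiction. -/
theorem arith {A B D a b : ℤ} (hD : D = 1 + A + B) (hA : (64 : ℤ) ∣ A + 3 * a - 4)
    (hB : (64 : ℤ) ∣ B + 3 * b - 4) (ha : (4 : ℤ) ∣ a - 1) (hb : (4 : ℤ) ∣ b - 1)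
    (hA1 : A ≠ 1) (hB1 : B ≠ 1)
    (hbessel : 1 + a ^ 2 + b ^ 2 + 5 * (1 + a + b) ^ 2 ≤ 64)
    (he : A * B * D + a ^ 2 * B * D + b ^ 2 * A * D - (1 + a + b) ^ 2 * A * B = 0) : False := by
  have hcases : (a = 1 ∧ b = 1) ∨ (a = 1 ∧ b = -3) ∨ (a = -3 ∧ b = 1) := by
    obtain ⟨i, hi⟩ := ha
    obtain ⟨j, hj⟩ := hb
    obtain rfl : a = 4 * i + 1 := by omega
    obtain rfl : b = 4 * j + 1 := by omega
    have hi1 : i ≤ 1 := by nlinarith
    have hi2 : -2 ≤ i := by nlinarith
    have hj1 : j ≤ 1 := by nlinarith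
    have hj2 : -2 ≤ j := by nlinarith
    interval_cases i <;> interval_cases j <;> omega
  have key : ∀ {A B D : ℤ}, D = 1 + A + B → (64 : ℤ) ∣ A - 1 → (64 : ℤ) ∣ B - 13 → A ≠ 1 →
      A * B * D + B * D + 9 * A * D - A * B = 0 → False := by
    intro A B D hD hA hB hA1 he
    obtain ⟨i, hi⟩ := hA
    obtain ⟨j, hj⟩ := hB
    have hA' : 63 ≤ |A| := by rw [le_abs]; omega
    have hB' : 13 ≤ |B| := by rw [le_abs]; omega
    have hD' : 15 ≤ |D| := by rw [le_abs]; omega
    have h1 : |A| * |B| * |D| ≤ |B| * |D| + 9 * (|A| * |D|) + |A| * |B| := by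
      have : A * B * D = -(B * D) + -(9 * (A * D)) + A * B := by linear_combination he
      calc |A| * |B| * |D| = |A * B * D| := by rw [abs_mul, abs_mul]
        _ = |-(B * D) + -(9 * (A * D)) + A * B| := by rw [this]
        _ ≤ |-(B * D)| + |-(9 * (A * D))| + |A * B| := abs_add_three _ _ _
        _ = _ := by simp [abs_mul]
    have t1 : 63 * (|B| * |D|) ≤ |A| * |B| * |D| := by
      rw [mul_assoc |A|]; exact mul_le_mul_of_nonneg_right hA' (by positivity)
    have t2 : 13 * (|A| * |D|) ≤ |A| * |B| * |D| := by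
      rw [show |A| * |B| * |D| = |B| * (|A| * |D|) by ring]
      exact mul_le_mul_of_nonneg_right hB' (by positivity)
    have t3 : 15 * (|A| * |B|) ≤ |A| * |B| * |D| := by
      rw [show |A| * |B| * |D| = |D| * (|A| * |B|) by ring]
      exact mul_le_mul_of_nonneg_right hD' (by positivity)
    have t4 : 0 < |A| * |B| := by positivity
    nlinarith
  rcases hcases with ⟨rfl, rfl⟩ | ⟨rfl, rfl⟩ | ⟨rfl, rfl⟩
  · exact hA1 (ZStar.degree_equations hD (by linear_combination he)
      (by obtain ⟨i, hi⟩ := hA; exact ⟨4 * i, by omega⟩)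
      (by obtain ⟨i, hi⟩ := hB; exact ⟨4 * i, by omega⟩)).1
  · exact key hD (by obtain ⟨i, hi⟩ := hA; exact ⟨i, by omega⟩)
      (by obtain ⟨i, hi⟩ := hB; exact ⟨i, by omega⟩) hA1 (by linear_combination he)
  · exact key (A := B) (B := A) (D := D) (by omega) (by obtain ⟨i, hi⟩ := hB; exact ⟨i, by omega⟩)
      (by obtain ⟨i, hi⟩ := hA; exact ⟨i, by omega⟩) hB1 (by linear_combination he)

open Classical in
theorem false_of_perfect (hlin : ∀ χ : IrrCharacter G, χ.1 1 = 1 → χ = Char.trivialChar G) :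
    False := by
  obtain ⟨M, hM⟩ := ZStar.exists_isPModular_two
  haveI := hM.2.1
  haveI : Fintype (LinNe P) := Fintype.ofFinite _
  obtain ⟨z, hz, hz1⟩ : ∃ z : P, z ∈ Subgroup.center P ∧ z ≠ 1 := by
    haveI : Nontrivial (Subgroup.center P) :=
      Finite.one_lt_card_iff_nontrivial.mp (by rw [h.fpf.card_center]; omega)
    obtain ⟨w, hw⟩ := exists_ne (1 : Subgroup.center P)
    exact ⟨w, w.2, fun e => hw (Subtype.ext e)⟩
  obtain ⟨W, v, hdeg, hvz, htriv, hnorm, hout, hval, hrel⟩ := h.exists_weights hM hz hz1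
  have hfib : ∀ μ : LinNe P, (Finset.univ.filter (h.Mate · μ)).card ≤ 3 := fun μ => by
    refine (Finset.card_le_card (t := {μ, h.rot μ, h.rot (h.rot μ)}) fun ν hν => ?_).trans
      Finset.card_le_three
    rcases (Finset.mem_filter.mp hν).2 with r | r | r <;> simp [r]
  obtain ⟨a, b, α, β, haT, hbT, hab, hα, hβ, hshape⟩ := ZStar.exists_shape W (Char.trivialChar G)
    h.Mate (fun μ => Or.inl rfl) hfib (by rw [h.card_linNe]) htriv hnorm
  choose hWa hWb c s hs hcT hca hcb hcz hcW using hshape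
  have hWc : ∀ μ, W μ (c μ) = s μ := fun μ => by rw [hcW, if_pos (show h.Mate μ μ from Or.inl rfl)]
  have hmemB : ∀ μ χ, W μ χ ≠ 0 → χ ∈ principalBlock M G := fun μ χ h0 => by
    by_contra hn
    exact h0 (hout μ χ hn)
  obtain ⟨μ₀⟩ : Nonempty (LinNe P) := Fintype.card_pos_iff.mp (by rw [h.card_linNe]; norm_num)
  have haB : a ∈ principalBlock M G := hmemB μ₀ a (by rw [hWa]; omega)
  have hbB : b ∈ principalBlock M G := hmemB μ₀ b (by rw [hWb]; omega)
  have hcB : ∀ μ, c μ ∈ principalBlock M G := fun μ => hmemB μ _ (by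
    rw [hWc]; rcases hs μ with q | q <;> omega)
  have hd0 : ∀ χ : IrrCharacter G, 1 ≤ (charDegree χ.1 : ℤ) := fun χ => by
    have := Char.charDegree_pos χ
    omega
  have hT1 : (charDegree (Char.trivialChar G).1 : ℤ) = 1 := by
    have : (charDegree (Char.trivialChar G).1 : ℂ) = ((1 : ℕ) : ℂ) := by
      rw [Char.charDegree_cast, Char.trivialChar_apply, Nat.cast_one]
    exact_mod_cast this
  have hvT : v (Char.trivialChar G) = 1 := by
    have e := (hval _ Blocks.trivial_mem_principalBlock).1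
    rw [Char.trivialChar_apply] at e
    exact_mod_cast e.symm
  set A := α * (charDegree a.1 : ℤ) with hA
  set B := β * (charDegree b.1 : ℤ) with hB
  set D := 1 + A + B with hD
  set a' := α * v a with ha'
  set b' := β * v b with hb'
  set x := 1 + a' + b' with hx
  have hsum : ∀ μ (F : IrrCharacter G → ℤ), ∑ χ, W μ χ * F χ =
      F (Char.trivialChar G) + α * F a + β * F b + s μ * F (c μ) := fun μ F => by
    rw [ZStar.sum_four haT hbT (hcT μ) hab (hca μ).symm (hcb μ).symm (hcz μ), htriv, hWa, hWb,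
      hWc, one_mul]
  have hcd : ∀ μ, s μ * (charDegree (c μ).1 : ℤ) = -D := fun μ => by
    have e := hdeg μ
    rw [hsum μ fun χ => (charDegree χ.1 : ℤ), hT1] at e
    rw [hD, hA, hB]; linarith
  have hcv : ∀ μ, s μ * v (c μ) = -x := fun μ => by
    have e := hvz μ
    rw [hsum μ v, hvT] at e
    rw [hx, ha', hb']; linarith
  have hD0 : D ≠ 0 := fun e => by
    have := hcd μ₀
    rw [e, neg_zero, mul_eq_zero] at this
    have := hd0 (c μ₀)
    rcases hs μ₀ with q | q <;> omega
  -- congruences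
  have hcong : ∀ (χ : IrrCharacter G) (γ : ℤ), (γ = 1 ∨ γ = -1) → χ ∈ principalBlock M G →
      (∀ μ, W μ χ = γ) → (64 : ℤ) ∣ γ * (charDegree χ.1 : ℤ) + 3 * (γ * v χ) - 4 ∧
        (4 : ℤ) ∣ γ * v χ - 1 := by
    intro χ γ hγ hχ hW
    obtain ⟨-, m, k, e1, e2⟩ := hval χ hχ
    rw [Finset.sum_congr rfl (fun μ _ => hW μ), Finset.sum_const, Finset.card_univ, h.card_linNe,
      nsmul_eq_mul, Nat.cast_ofNat] at e1 e2
    rcases hγ with rfl | rfl
    · exact ⟨⟨m - 1, by omega⟩, ⟨4 * m - 4 - k, by omega⟩⟩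
    · exact ⟨⟨-m - 1, by omega⟩, ⟨-4 * m - 4 + k, by omega⟩⟩
  obtain ⟨hA64, ha4⟩ := hcong a α hα haB hWa
  obtain ⟨hB64, hb4⟩ := hcong b β hβ hbB hWb
  -- no linear characters
  have hne1 : ∀ (χ : IrrCharacter G) (γ : ℤ), (γ = 1 ∨ γ = -1) → χ ≠ Char.trivialChar G →
      γ * (charDegree χ.1 : ℤ) ≠ 1 := by
    intro χ γ hγ hχT e
    refine hχT (hlin χ ?_)
    have h1 := hd0 χ
    have h2 : charDegree χ.1 = 1 := by rcases hγ with rfl | rfl <;> omega
    rw [← Char.charDegree_cast, h2, Nat.cast_one]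
  -- the norm of the indicator of the central involutions
  set f : P → ℂ := fun y => if y ∈ Subgroup.center P ∧ y ≠ 1 then 1 else 0 with hf
  have hfinv : Inv σ f := by
    refine ⟨fun y => ?_, fun w y => ?_⟩
    · have e : σ y ∈ Subgroup.center P ↔ y ∈ Subgroup.center P :=
        ⟨fun hy => by
          have := SylL34.Fpf.apply_mem_center σ (SylL34.Fpf.apply_mem_center σ hy)
          rwa [h.fpf.three] at this, fun hy => SylL34.Fpf.apply_mem_center σ hy⟩
      simp only [hf, e, ne_eq, map_eq_one_iff σ σ.injective]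
    · have e : w * y * w⁻¹ ∈ Subgroup.center P ↔ y ∈ Subgroup.center P :=
        ⟨fun hy => by
          have := Subgroup.Normal.conj_mem inferInstance _ hy w⁻¹
          simpa [mul_assoc] using this,
          fun hy => Subgroup.Normal.conj_mem inferInstance _ hy w⟩
      simp only [hf, e, ne_eq, conj_eq_one_iff]
  have hf1 : f 1 = 0 := by simp [hf]
  have hfsum : ∀ φ : P → ℂ, (∀ y, φ (σ y) = φ y) → classInner φ f = 3 / 64 * φ z := by
    intro φ hφ
    have hd1 : σ z ≠ z := fun e => hz1 (h.fpf.fpf _ e)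
    have hd2 : σ (σ z) ≠ z := fun e => hd1 (by
      have := congrArg σ e
      rwa [h.fpf.three, eq_comm] at this)
    have hd3 : σ (σ z) ≠ σ z := fun e => hd1 (σ.injective e)
    have hS : ∀ y : P, (y ∈ Subgroup.center P ∧ y ≠ 1) ↔ y ∈ ({z, σ z, σ (σ z)} : Finset P) := by
      intro y
      simp only [Finset.mem_insert, Finset.mem_singleton]
      constructor
      · rintro ⟨hy, hy1⟩
        exact (HigmanRankTwo.center_cases h.fpf hz hz1 hy).resolve_left hy1
      · rintro (rfl | rfl | rfl)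
        · exact ⟨hz, hz1⟩
        · exact ⟨SylL34.Fpf.apply_mem_center σ hz, by simpa using hz1⟩
        · exact ⟨SylL34.Fpf.apply_mem_center σ (SylL34.Fpf.apply_mem_center σ hz),
            by simpa using hz1⟩
    have hS' : ∀ y : P, φ y * conj (f y) =
        if y ∈ ({z, σ z, σ (σ z)} : Finset P) then φ y else 0 := fun y => by
      simp only [hf]
      by_cases hy : y ∈ Subgroup.center P ∧ y ≠ 1
      · rw [if_pos hy, if_pos ((hS y).1 hy), map_one, mul_one]
      · rw [if_neg hy, if_neg (fun e => hy ((hS y).2 e)), map_zero, mul_zero]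
    rw [classInner, h.fpf.card, Finset.sum_congr rfl (fun y _ => hS' y), Finset.sum_ite_mem,
      Finset.univ_inter, Finset.sum_insert (by simp [Ne.symm hd1, Ne.symm hd2]),
      Finset.sum_pair (Ne.symm hd3), hφ (σ z), hφ z]
    push_cast
    ring
  have hcoef : ∀ χ, χ ∈ principalBlock M G →
      classInner χ.1 (h.lift f) = (((v χ : ℝ) / 64 : ℝ) : ℂ) := fun χ hχ => by
    rw [(h.classInner_irr_lift hM hfinv hf1 χ).1 hχ,
      hfsum (fun y : P => χ.1 (y : G)) (fun y => h.restrict_apply χ y), (hval χ hχ).1]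
    push_cast
    ring
  have hbes : ∀ S : Finset (IrrCharacter G), (∀ χ ∈ S, χ ∈ principalBlock M G) →
      ∑ χ ∈ S, v χ ^ 2 ≤ 64 := by
    intro S hS
    have e := h.classInner_lift_lift hfinv hf1 hfinv
    rw [hfsum f hfinv.apply, show f z = 1 by simp [hf, hz, hz1],
      Char.classInner_eq_sum (h.isClassFunction_lift hfinv)] at e
    have e2 : ((∑ χ : IrrCharacter G, Complex.normSq (classInner χ.1 (h.lift f)) : ℝ) : ℂ) =
        ((1 / 64 : ℝ) : ℂ) := by
      rw [Complex.ofReal_sum]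
      push_cast
      rw [show (1 / 64 : ℂ) = 3⁻¹ * (3 / 64 * 1) by norm_num, ← e]
      refine Finset.sum_congr rfl fun χ _ => ?_
      rw [Complex.normSq_eq_conj_mul_self, Char.conj_classInner]
    have e3 : ∑ χ ∈ S, Complex.normSq (classInner χ.1 (h.lift f)) ≤ 1 / 64 := by
      rw [← Complex.ofReal_inj.1 e2]
      exact Finset.sum_le_univ_sum_of_nonneg fun χ => Complex.normSq_nonneg _
    rw [Finset.sum_congr rfl (g := fun χ => ((v χ ^ 2 : ℤ) : ℝ) / 4096) (fun χ hχ => by
      rw [hcoef χ (hS χ hχ), Complex.normSq_ofReal]; push_cast; ring),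
      ← Finset.sum_div, div_le_iff₀ (by norm_num)] at e3
    norm_num at e3
    exact_mod_cast e3
  -- five exceptional characters
  set C := Finset.univ.image c with hC
  have hC5 : 5 ≤ C.card := by
    have e := Finset.card_le_mul_card_image_of_maps_to (f := c) (s := Finset.univ) (t := C)
      (fun μ hμ => Finset.mem_image_of_mem c hμ) 3 (fun χ hχ => by
        obtain ⟨μ, -, rfl⟩ := Finset.mem_image.mp hχ
        refine le_trans (Finset.card_le_card fun ν hν => ?_) (hfib μ)
        have hne := hWc ν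
        rw [(Finset.mem_filter.mp hν).2, hcW] at hne
        refine Finset.mem_filter.mpr ⟨Finset.mem_univ _, ?_⟩
        by_contra hn
        rw [if_neg hn] at hne
        rcases hs ν with q | q <;> omega)
    rw [Finset.card_univ, h.card_linNe] at e
    omega
  have hbessel : 1 + a' ^ 2 + b' ^ 2 + 5 * x ^ 2 ≤ 64 := by
    have hsq : ∀ {γ : ℤ} (w : ℤ), (γ = 1 ∨ γ = -1) → (γ * w) ^ 2 = w ^ 2 := by
      rintro γ w (rfl | rfl) <;> ring
    have hcx : ∀ χ ∈ C, v χ ^ 2 = x ^ 2 := fun χ hχ => by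
      obtain ⟨μ, -, rfl⟩ := Finset.mem_image.mp hχ
      rw [← hsq (v (c μ)) (hs μ), hcv μ, neg_sq]
    have hTC : Char.trivialChar G ∉ C := fun e => by
      obtain ⟨μ, -, r⟩ := Finset.mem_image.mp e
      exact hcT μ r
    have haC : a ∉ C := fun e => by
      obtain ⟨μ, -, r⟩ := Finset.mem_image.mp e
      exact hca μ r
    have hbC : b ∉ C := fun e => by
      obtain ⟨μ, -, r⟩ := Finset.mem_image.mp e
      exact hcb μ r
    have e := hbes (insert (Char.trivialChar G) (insert a (insert b C))) (fun χ hχ => by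
      simp only [Finset.mem_insert] at hχ
      rcases hχ with rfl | rfl | rfl | hχ
      · exact Blocks.trivial_mem_principalBlock
      · exact haB
      · exact hbB
      · obtain ⟨μ, -, rfl⟩ := Finset.mem_image.mp hχ
        exact hcB μ)
    rw [Finset.sum_insert (by simp [haT.symm, hbT.symm, hTC]),
      Finset.sum_insert (by simp [hab, haC]), Finset.sum_insert hbC, hvT,
      Finset.sum_congr rfl hcx, Finset.sum_const, nsmul_eq_mul] at e
    rw [ha', hb', hsq (v a) hα, hsq (v b) hβ]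
    have : (5 : ℤ) ≤ (C.card : ℤ) := by exact_mod_cast hC5
    nlinarith [mul_le_mul_of_nonneg_right this (sq_nonneg x)]
  -- the relation
  have he : A * B * D + a' ^ 2 * B * D + b' ^ 2 * A * D - x ^ 2 * A * B = 0 := by
    have e := hrel μ₀
    rw [ZStar.sum_four haT hbT (hcT μ₀) hab (hca μ₀).symm (hcb μ₀).symm
      (V := fun χ => (W μ₀ χ : ℂ)) (fun χ h1 h2 h3 h4 => by rw [hcz μ₀ χ h1 h2 h3 h4, Int.cast_zero]),
      htriv, hWa, hWb, hWc, Char.trivialChar_apply, Char.trivialChar_apply, (hval a haB).1,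
      (hval b hbB).1, (hval _ (hcB μ₀)).1, ← Char.charDegree_cast a, ← Char.charDegree_cast b,
      ← Char.charDegree_cast (c μ₀)] at e
    have hne : ∀ χ : IrrCharacter G, (charDegree χ.1 : ℂ) ≠ 0 := fun χ => by
      rw [Char.charDegree_cast]; exact Blocks.irr_one_ne_zero _
    have na := hne a
    have nb := hne b
    have nc := hne (c μ₀)
    field_simp at e
    set da := (charDegree a.1 : ℤ)
    set db := (charDegree b.1 : ℤ)
    set dc := (charDegree (c μ₀).1 : ℤ)
    have eZ : da * db * dc + α * (v a * v a) * db * dc + β * (v b * v b) * da * dc +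
        s μ₀ * (v (c μ₀) * v (c μ₀)) * da * db = 0 := by
      have : ((da * db * dc + α * (v a * v a) * db * dc + β * (v b * v b) * da * dc +
          s μ₀ * (v (c μ₀) * v (c μ₀)) * da * db : ℤ) : ℂ) = ((0 : ℤ) : ℂ) := by
        simp only [da, db, dc]
        push_cast
        linear_combination e
      exact_mod_cast this
    have ed := hcd μ₀
    have ev := hcv μ₀
    have hsa : α * α = 1 := by rcases hα with r | r <;> simp [r]
    have hsb : β * β = 1 := by rcases hβ with r | r <;> simp [r]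
    have hsc : s μ₀ * s μ₀ = 1 := by rcases hs μ₀ with r | r <;> simp [r]
    have hD' : D = -(s μ₀ * dc) := by linarith
    have hx' : x = -(s μ₀ * v (c μ₀)) := by linarith
    rw [hD', hx', hA, hB, ha', hb']
    rcases hα with r | r <;> rcases hβ with r' | r' <;> rcases hs μ₀ with r'' | r'' <;>
      rw [r, r', r''] at eZ ⊢ <;> first | linear_combination eZ | linear_combination -eZ
  exact arith hD hA64 hB64 ha4 hb4 (hne1 a α hα haT) (hne1 b β hβ hbT) hbessel he

end Data

end Cfsg.Agent.PiHom.Sylow64
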