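import Mathlib.GroupTheory.Sylow
import Mathlib.GroupTheory.SchurZassenhaus
import Cfsg.Agent.Lib.Coprime.Basic

/-!
# `π`-homogeneous groups with `2 ∈ π`: definitions and elementary facts
-/

set_option autoImplicit false
set_option linter.style.haveILetI false
set_option linter.unusedSectionVars false

namespace Cfsg.Agent.PiHom

open Subgroup

variable (π : Set ℕ) {G : Type*} [Group G]

/-- `H` is a `π`-subgroup. -/
def IsPiSub (H : Subgroup G) : Prop := ∀ p : ℕ, p.Prime → p ∣ Nat.card H → p ∈ π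

/-- `x` is a `π'`-element. -/
def IsPi' (x : G) : Prop := ∀ p : ℕ, p.Prime → p ∣ orderOf x → p ∉ π

/-- The `π'`-elements form a subgroup. -/
def Closed (G : Type*) [Group G] : Prop := ∃ K : Subgroup G, ∀ x : G, x ∈ K ↔ IsPi' π x

/-- All Sylow 2-subgroups are normal. -/
def TwoClosed (X : Type*) [Group X] : Prop := ∀ P : Sylow 2 X, (P : Subgroup X).Normal

/-- All `π`-subgroups are 2-closed. -/
def Cl (G : Type*) [Group G] : Prop := ∀ H : Subgroup G, IsPiSub π H → TwoClosed H

/-- `π'`-elements normalising a `π`-subgroup centralise it. -/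
def Hom' (G : Type*) [Group G] : Prop := ∀ H : Subgroup G, IsPiSub π H → ∀ g : G, IsPi' π g →
  g ∈ normalizer (H : Set G) → g ∈ centralizer (H : Set G)

/-- The subgroup generated by the `π'`-elements of a subgroup. -/
def piK (L : Subgroup G) : Subgroup G := closure {x : G | x ∈ L ∧ IsPi' π x}

variable {π}

theorem isPi'_one : IsPi' π (1 : G) := fun p hp h => by
  rw [orderOf_one] at h
  exact absurd (Nat.dvd_one.1 h) hp.ne_one

theorem isPi'_map {H : Type*} [Group H] {x : G} (hx : IsPi' π x) (f : G →* H) : IsPi' π (f x) :=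
  fun p hp h => hx p hp (h.trans (orderOf_map_dvd f x))

theorem isPi'_iff_of_injective {H : Type*} [Group H] {x : G} (f : G →* H)
    (hf : Function.Injective f) : IsPi' π (f x) ↔ IsPi' π x := by
  unfold IsPi'
  rw [orderOf_injective f hf x]

theorem isPi'_coe {L : Subgroup G} {x : L} : IsPi' π (x : G) ↔ IsPi' π x := by
  unfold IsPi'
  rw [Subgroup.orderOf_coe]

theorem isPi'_conj {x : G} (hx : IsPi' π x) (g : G) : IsPi' π (g * x * g⁻¹) :=
  isPi'_map hx (MulAut.conj g).toMonoidHom

theorem isPi'_inv {x : G} (hx : IsPi' π x) : IsPi' π x⁻¹ := by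
  unfold IsPi' at hx ⊢
  rwa [orderOf_inv]

theorem isPi'_of_dvd {H : Type*} [Group H] {x : G} {y : H} (hx : IsPi' π x)
    (h : orderOf y ∣ orderOf x) : IsPi' π y :=
  fun p hp hd => hx p hp (hd.trans h)

theorem isPi'_of_mem [Finite G] {K : Subgroup G}
    (hK : ∀ p : ℕ, p.Prime → p ∣ Nat.card K → p ∉ π) {x : G} (hx : x ∈ K) : IsPi' π x :=
  fun p hp h => hK p hp (h.trans (Subgroup.orderOf_dvd_natCard K hx))

theorem prime_notMem_of_forall [Finite G] {K : Subgroup G} (hK : ∀ x ∈ K, IsPi' π x) :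
    ∀ p : ℕ, p.Prime → p ∣ Nat.card K → p ∉ π := by
  intro p hp hd
  haveI := Fact.mk hp
  obtain ⟨x, hx⟩ := exists_prime_orderOf_dvd_card' (G := K) p hd
  exact hK x x.2 p hp (by rw [Subgroup.orderOf_coe, hx])

theorem odd_orderOf (h2 : 2 ∈ π) {x : G} (hx : IsPi' π x) : Odd (orderOf x) := by
  rw [← Nat.not_even_iff_odd, even_iff_two_dvd]
  exact fun h => hx 2 Nat.prime_two h h2

theorem odd_card_of_forall [Finite G] (h2 : 2 ∈ π) {K : Subgroup G} (hK : ∀ x ∈ K, IsPi' π x) :
    Odd (Nat.card K) := by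
  rw [← Nat.not_even_iff_odd, even_iff_two_dvd]
  exact fun h => prime_notMem_of_forall hK 2 Nat.prime_two h h2

theorem eq_one_of_isPiSub_of_isPi' [Finite G] {H : Subgroup G} (hH : IsPiSub π H) {x : G}
    (hx : x ∈ H) (hx' : IsPi' π x) : x = 1 := by
  by_contra h
  obtain ⟨p, hp, hpd⟩ := Nat.exists_prime_and_dvd (fun e => h (orderOf_eq_one_iff.1 e))
  exact hx' p hp hpd (hH p hp (hpd.trans (Subgroup.orderOf_dvd_natCard H hx)))

theorem isPiSub_of_le [Finite G] {H K : Subgroup G} (hK : IsPiSub π K) (h : H ≤ K) : IsPiSub π H :=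
  fun p hp hd => hK p hp (hd.trans (Subgroup.card_dvd_of_le h))

theorem isPiSub_of_isPGroup [Finite G] {p : ℕ} [Fact p.Prime] (hp : p ∈ π) {H : Subgroup G}
    (hH : IsPGroup p H) : IsPiSub π H := by
  intro q hq hd
  obtain ⟨n, hn⟩ := IsPGroup.iff_card.1 hH
  rw [hn] at hd
  rwa [(Nat.prime_dvd_prime_iff_eq hq Fact.out).1 (hq.dvd_of_dvd_pow hd)]

theorem isPi'_of_isPGroup [Finite G] {p : ℕ} [Fact p.Prime] (hp : p ∉ π) {H : Subgroup G}
    (hH : IsPGroup p H) {x : G} (hx : x ∈ H) : IsPi' π x := by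
  intro q hq hd
  obtain ⟨n, hn⟩ := IsPGroup.iff_card.1 hH
  have h1 := hd.trans (Subgroup.orderOf_dvd_natCard H hx)
  rw [hn] at h1
  rwa [(Nat.prime_dvd_prime_iff_eq hq Fact.out).1 (hq.dvd_of_dvd_pow h1)]

theorem TwoClosed.of_surjective {X Y : Type*} [Group X] [Group Y] [Finite X] (f : X →* Y)
    (hf : Function.Surjective f) (h : TwoClosed X) : TwoClosed Y := by
  haveI : Fact (Nat.Prime 2) := ⟨Nat.prime_two⟩
  intro Q
  obtain ⟨P, rfl⟩ := Sylow.mapSurjective_surjective (hf := hf) 2 Q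
  rw [Sylow.coe_mapSurjective]
  exact Subgroup.Normal.map (h P) f hf

theorem cl_subgroup [Finite G] (h : Cl π G) (L : Subgroup G) : Cl π L := fun H hH =>
  (h (H.map L.subtype) (fun p hp hd => hH p hp
    (by rwa [Subgroup.card_map_of_injective L.subtype_injective] at hd))).of_surjective
    (H.equivMapOfInjective L.subtype L.subtype_injective).symm.toMonoidHom (MulEquiv.surjective _)

theorem hom'_subgroup [Finite G] (h : Hom' π G) (L : Subgroup G) : Hom' π L := by
  intro H hH g hg hgN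
  have h1 := h (H.map L.subtype) (fun p hp hd => hH p hp
    (by rwa [Subgroup.card_map_of_injective L.subtype_injective] at hd)) g (isPi'_coe.2 hg) (by
      refine Subgroup.le_normalizer_map L.subtype ?_
      exact ⟨g, hgN, rfl⟩)
  rw [mem_centralizer_iff] at h1 ⊢
  intro y hy
  exact Subtype.ext (h1 (y : G) ⟨y, hy, rfl⟩)

/-- An element conjugating a finite subgroup into itself normalises it. -/
theorem mem_normalizer_of_forall [Finite G] {H : Subgroup G} {g : G}
    (h : ∀ y ∈ H, g * y * g⁻¹ ∈ H) : g ∈ normalizer (H : Set G) := by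
  have e : H.map (MulAut.conj g).toMonoidHom = H :=
    Subgroup.eq_of_le_of_card_ge (by rintro _ ⟨y, hy, rfl⟩; exact h y hy)
      (Subgroup.card_map_of_injective (MulAut.conj g).injective).ge
  refine mem_normalizer_iff.2 fun y => ⟨h y, fun hy => ?_⟩
  obtain ⟨z, hz, hzy⟩ := e.ge hy
  rwa [← (MulAut.conj g).injective hzy]

/-- A prime outside `π` does not divide the index of a normal subgroup holding all `π'`-elements. -/
theorem not_dvd_index [Finite G] {K : Subgroup G} (hK : ∀ x : G, IsPi' π x → x ∈ K) {q : ℕ}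
    (hq : q.Prime) (hqπ : q ∉ π) : ¬ q ∣ K.index := by
  haveI := Fact.mk hq
  obtain ⟨Q⟩ : Nonempty (Sylow q G) := inferInstance
  have hle : (Q : Subgroup G) ≤ K := fun x hx => hK x (isPi'_of_isPGroup hqπ Q.2 hx)
  exact fun h => Q.not_dvd_index (h.trans (Subgroup.index_dvd_of_le hle))

/-- The structure of a closed group: `K` normal, of order prime to the index, with complement. -/
theorem exists_complement [Finite G] {K : Subgroup G} (hK : ∀ x : G, x ∈ K ↔ IsPi' π x) :
    K.Normal ∧ (Nat.card K).Coprime K.index ∧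
      ∃ H : Subgroup G, IsComplement' K H ∧ IsPiSub π H := by
  have hn : K.Normal := ⟨fun x hx g => (hK _).2 (isPi'_conj ((hK x).1 hx) g)⟩
  have hKp := prime_notMem_of_forall (fun x hx => (hK x).1 hx)
  have hcop : (Nat.card K).Coprime K.index := by
    refine Nat.coprime_of_dvd fun p hp h1 h2 => ?_
    exact not_dvd_index (fun x hx => (hK x).2 hx) hp (hKp p hp h1) h2
  refine ⟨hn, hcop, ?_⟩
  obtain ⟨H, hH⟩ := exists_right_complement'_of_coprime hcop
  refine ⟨H, hH, fun p hp hd => ?_⟩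
  by_contra hpπ
  rw [← hH.symm.index_eq_card] at hd
  exact not_dvd_index (fun x hx => (hK x).2 hx) hp hpπ hd

theorem twoClosed_quotient [Finite G] (hcl : Cl π G) {K : Subgroup G} [K.Normal]
    (hK : ∀ x : G, x ∈ K ↔ IsPi' π x) : TwoClosed (G ⧸ K) := by
  obtain ⟨-, -, H, hH, hHπ⟩ := exists_complement hK
  exact (hcl H hHπ).of_surjective (hH.symm.QuotientMulEquiv).symm.toMonoidHom
    (MulEquiv.surjective _)

end Cfsg.Agent.PiHom
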