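import Cfsg.Agent.Lib.PiHom.RankTwo
import Cfsg.Agent.Lib.GW.Assembly
import Cfsg.Agent.Lib.PSL2.Basic

/-!
# A minimal counterexample with a four-group as Sylow 2-subgroup
-/

set_option autoImplicit false
set_option linter.style.haveILetI false
set_option linter.unusedSectionVars false

namespace Cfsg.Agent.PiHom

open Subgroup Matrix
open scoped MatrixGroups

universe u

variable {π : Set ℕ}

theorem exists_quadratic {F : Type*} [Field F] [Fintype F] (hodd : Odd (Fintype.card F))
    (h3 : (3 : F) ≠ 0) : ∃ a b : F, a ^ 2 + a * b + b ^ 2 = -1 := by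
  classical
  open Polynomial in
  obtain ⟨x, y, hxy⟩ := FiniteField.exists_root_sum_quadratic
    (f := X ^ 2 + C (4 : F)) (g := C (3 : F) * X ^ 2)
    (by rw [degree_X_pow_add_C (by norm_num)]; rfl)
    (by rw [degree_C_mul_X_pow 2 h3]; rfl) (Nat.odd_iff.1 hodd)
  simp only [Polynomial.eval_add, Polynomial.eval_pow, Polynomial.eval_X, Polynomial.eval_C,
    Polynomial.eval_mul] at hxy
  have h2 : (2 : F) ≠ 0 := fun h => Nat.not_even_iff_odd.2 hodd (PSL2.even_card_iff.2 h)
  refine ⟨(x - y) / 2, y, ?_⟩
  field_simp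
  linear_combination hxy

namespace Min

variable {G : Type u} [Group G] [Finite G] (hM : Min π G) (S : Sylow 2 G)
include hM

theorem three_mem : 3 ∈ π := by
  obtain ⟨S⟩ : Nonempty (Sylow 2 G) := inferInstance
  obtain ⟨r, hr, ⟨c, hc⟩, hfix⟩ := hM.exists_three S
  obtain ⟨z, hz, hz1⟩ := hM.exists_mem_omegaZ S
  by_contra h3
  refine hz1 (hfix z hz.1 (hM.commute_two S.2 (fun p hp hd => ?_) hr hz.1).symm)
  rw [hc] at hd
  rwa [(Nat.prime_dvd_prime_iff_eq hp Nat.prime_three).1 (hp.dvd_of_dvd_pow hd)]

/-- The four-group case. -/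
theorem four_false (h2 : GW.PartTwo.{u}) (hS : Nat.card (S : Subgroup G) = 4) : False := by
  classical
  haveI : Fact (Nat.Prime 2) := ⟨Nat.prime_two⟩
  haveI := hM.simple
  have hexp : ∀ x : G, orderOf x ≠ 4 := by
    intro x hx
    obtain ⟨T, hT⟩ := (IsPGroup.of_card (n := 2)
      (by rw [Nat.card_zpowers, hx]; norm_num) : IsPGroup 2 (zpowers x)).exists_le_sylow
    obtain ⟨g, hg⟩ := MulAction.exists_smul_eq G T S
    have h1 : g * x * g⁻¹ ∈ (S : Subgroup G) := by
      rw [← hg, mem_smul_sylow]
      simpa [mul_assoc] using hT (mem_zpowers x)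
    have hZS : omegaZ (S : Subgroup G) = S :=
      Subgroup.eq_of_le_of_card_ge (omegaZ_le _) (by rw [hM.card_omegaZ S, hS])
    have h3 : orderOf (g * x * g⁻¹) ∣ 2 := orderOf_dvd_of_pow_eq_one (by
      rw [pow_two]; exact (hZS.ge h1).2.2)
    rw [← MulAut.conj_apply, MulEquiv.orderOf_eq, hx] at h3
    norm_num at h3
  have hklein : GW.DihedralTwo G := by
    intro T
    haveI : IsKleinFour (T : Subgroup G) := ⟨by
      rw [T.card_eq_multiplicity, ← S.card_eq_multiplicity, hS], ?_⟩
    · exact ⟨2, le_rfl, IsKleinFour.nonempty_mulEquiv⟩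
    · haveI : Nontrivial (T : Subgroup G) := Finite.one_lt_card_iff_nontrivial.1 (by
        rw [T.card_eq_multiplicity, ← S.card_eq_multiplicity, hS]; norm_num)
      refine Monoid.exponent_eq_prime_iff Nat.prime_two |>.2 fun x hx => ?_
      have h4 : orderOf (x : G) ∣ 2 ^ 2 := by
        rw [show 2 ^ 2 = Nat.card (T : Subgroup G) by
          rw [T.card_eq_multiplicity, ← S.card_eq_multiplicity, hS]; norm_num]
        exact Subgroup.orderOf_dvd_natCard _ x.2
      obtain ⟨i, hi, e⟩ := (Nat.dvd_prime_pow Nat.prime_two).1 h4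
      interval_cases i
      · rw [pow_zero, orderOf_eq_one_iff] at e
        exact absurd (Subtype.ext e) hx
      · rwa [pow_one, Subgroup.orderOf_coe] at e
      · exact absurd e (hexp _)
  rcases GW.isKnown_of_simple h2 G hM.simple hklein with ⟨F, _, _, hodd, hcard, ⟨e⟩⟩ | ⟨⟨e⟩⟩
  · set f : SL(2, F) →* G := e.symm.toMonoidHom.comp PSL2.mk with hf
    have hfone : ∀ g : SL(2, F), f g = 1 ↔ g = 1 ∨ g = -1 := fun g => by
      rw [hf, MonoidHom.comp_apply, MulEquiv.coe_toMonoidHom, MulEquiv.map_eq_one_iff]
      exact PSL2.mk_eq_one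
    have hfneg : f (-1) = 1 := (hfone _).2 (Or.inr rfl)
    by_cases h3 : (3 : F) = 0
    · -- characteristic three
      haveI : Fact (Nat.Prime 3) := ⟨Nat.prime_three⟩
      haveI : CharP F 3 := (CharP.charP_iff_prime_eq_zero Nat.prime_three).2 (by exact_mod_cast h3)
      have hU : IsPGroup 3 ((PSL2.unip F).map f) := by
        refine IsPGroup.map ?_ f
        obtain ⟨n, -, hn⟩ := FiniteField.card F 3
        exact IsPGroup.of_card (n := n) (by rw [PSL2.card_unip, Nat.card_eq_fintype_card, hn])
      have ha4 : ∀ a : Fˣ, a ^ 4 = 1 := by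
        intro a
        set t := f (PSL2.dd a) with ht
        have htinv : f PSL2.ww * t * (f PSL2.ww)⁻¹ = t⁻¹ := by
          rw [ht, ← map_inv, ← map_mul, ← map_mul, ← map_inv, PSL2.ww_conj_dd, ← PSL2.dd_inv]
        have hwo : orderOf (f PSL2.ww) = 2 := by
          refine orderOf_eq_prime (by rw [pow_two, ← map_mul, PSL2.ww_mul_self, hfneg]) fun h => ?_
          rcases (hfone _).1 h with r | r <;>
          · have h1 := congrArg (fun g : SL(2, F) => g 0 1) r
            simp [PSL2.ww] at h1
        have hodd2 : Odd (orderOf (t ^ 2)) := by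
          rw [← Nat.not_even_iff_odd, even_iff_two_dvd, orderOf_pow]
          intro h
          rcases Nat.even_or_odd (orderOf t) with he | ho
          · rw [Nat.gcd_eq_right (even_iff_two_dvd.1 he)] at h
            have h4 : 4 ∣ orderOf t := by
              obtain ⟨j, hj⟩ := h
              have := Nat.div_mul_cancel (even_iff_two_dvd.1 he)
              exact ⟨j, by omega⟩
            exact hexp (t ^ (orderOf t / 4)) (by
              rw [orderOf_pow, Nat.gcd_eq_right (Nat.div_dvd_of_dvd h4),
                Nat.div_div_self h4 (orderOf_pos t).ne'])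
          · rw [Nat.Coprime.gcd_eq_one (Nat.coprime_two_right.2 ho), Nat.div_one] at h
            exact Nat.not_even_iff_odd.2 ho (even_iff_two_dvd.2 h)
        have hπ' : IsPi' π (t ^ 2) := hM.isPi'_of_inverted hwo hodd2 (by
          rw [← conj_pow, htinv, inv_pow])
        have hn : t ^ 2 ∈ normalizer (((PSL2.unip F).map f : Subgroup G) : Set G) :=
          pow_mem (mem_normalizer_of_forall fun y hy => by
            obtain ⟨u, hu, rfl⟩ := hy
            obtain ⟨s, rfl⟩ := PSL2.mem_unip.1 hu
            refine ⟨PSL2.dd a * PSL2.uu s * (PSL2.dd a)⁻¹, ?_, by rw [map_mul, map_mul, map_inv]⟩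
            rw [PSL2.dd_conj_uu]
            exact PSL2.uu_mem_unip _) 2
        have hc := hM.commute_of_pi' (isPiSub_of_isPGroup hM.three_mem hU) hπ' hn
          (y := f (PSL2.uu 1)) ⟨_, PSL2.uu_mem_unip 1, rfl⟩
        rw [ht, ← map_pow, PSL2.dd_pow] at hc
        have h1 : f (PSL2.dd (a ^ 2) * PSL2.uu 1 * (PSL2.dd (a ^ 2))⁻¹ * (PSL2.uu 1)⁻¹) = 1 := by
          rw [map_mul, map_mul, map_mul, map_inv, map_inv, ← hc]
          group
        rw [PSL2.dd_conj_uu, PSL2.uu_inv, PSL2.uu_mul_uu, hfone] at h1
        rcases h1 with r | r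
        · have h5 := congrArg (fun g : SL(2, F) => g 0 1) r
          simp [PSL2.uu] at h5
          refine Units.ext ?_
          push_cast
          linear_combination h5
        · have h5 := congrArg (fun g : SL(2, F) => g 0 0) r
          simp [PSL2.uu] at h5
          exact absurd h5 (fun h => (fun h2 : (2 : F) ≠ 0 => h2 (by linear_combination h))
            (fun h => Nat.not_even_iff_odd.2 hodd (PSL2.even_card_iff.2 h)))
      obtain ⟨g, hg⟩ := IsCyclic.exists_ofOrder_eq_natCard (α := Fˣ)
      have h4 := Nat.le_of_dvd (by norm_num) (orderOf_dvd_of_pow_eq_one (ha4 g))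
      rw [hg, Nat.card_eq_fintype_card, Fintype.card_units] at h4
      obtain ⟨n, -, hn⟩ := FiniteField.card F 3
      rw [hn] at h4 hcard
      have : (n : ℕ) < 2 := by
        by_contra hh
        have := Nat.pow_le_pow_right (by norm_num : 0 < 3) (not_lt.1 hh)
        omega
      interval_cases hn1 : (n : ℕ) <;> omega
    · -- an element of order three inverted by an involution
      obtain ⟨a, b, hab⟩ := exists_quadratic hodd h3
      let g : SL(2, F) := ⟨!![0, -1; 1, -1], by simp⟩
      let w : SL(2, F) := ⟨!![a, b; a + b, -a], by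
        rw [Matrix.det_fin_two_of]; linear_combination -hab⟩
      have g00 : g 0 0 = 0 := rfl
      have g01 : g 0 1 = -1 := rfl
      have g10 : g 1 0 = 1 := rfl
      have g11 : g 1 1 = -1 := rfl
      have w00 : w 0 0 = a := rfl
      have w01 : w 0 1 = b := rfl
      have w10 : w 1 0 = a + b := rfl
      have w11 : w 1 1 = -a := rfl
      clear_value g w
      have hg3 : g ^ 3 = 1 := by
        rw [pow_succ, pow_two]
        refine PSL2.ext2 ?_ ?_ ?_ ?_ <;>
          simp [g00, g01, g10, g11, PSL2.mul00, PSL2.mul01, PSL2.mul10, PSL2.mul11]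
      have hw2 : w * w = -1 := by
        refine PSL2.ext2 ?_ ?_ ?_ ?_ <;>
          simp [w00, w01, w10, w11, PSL2.mul00, PSL2.mul01, PSL2.mul10, PSL2.mul11] <;>
            first | linear_combination hab | ring1
      have hwg : w * g = g⁻¹ * w := by
        refine PSL2.ext2 ?_ ?_ ?_ ?_ <;>
          simp only [g00, g01, g10, g11, w00, w01, w10, w11, PSL2.mul00, PSL2.mul01, PSL2.mul10,
            PSL2.mul11, PSL2.inv00, PSL2.inv01, PSL2.inv10, PSL2.inv11] <;> ring
      have hgo : orderOf (f g) = 3 := by
        haveI : Fact (Nat.Prime 3) := ⟨Nat.prime_three⟩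
        refine orderOf_eq_prime (by rw [← map_pow, hg3, map_one]) fun h => ?_
        rcases (hfone _).1 h with r | r <;>
        · have h1 := congrArg (fun g : SL(2, F) => g 1 0) r
          simp [g10] at h1
      have hwo : orderOf (f w) = 2 := by
        refine orderOf_eq_prime (by rw [pow_two, ← map_mul, hw2, hfneg]) fun h => ?_
        rcases (hfone _).1 h with r | r <;>
        · have h1 := congrArg (fun g : SL(2, F) => g 0 1) r
          have h2' := congrArg (fun g : SL(2, F) => g 1 0) r
          simp [w01, w10] at h1 h2'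
          rw [h1, add_zero] at h2'
          rw [h1, h2'] at hab
          exact one_ne_zero (by linear_combination hab : (1 : F) = 0)
      have hinv : f w * f g * (f w)⁻¹ = (f g)⁻¹ := by
        rw [← map_inv, ← map_inv, ← map_mul, ← map_mul, hwg, mul_inv_cancel_right]
      exact hM.isPi'_of_inverted hwo (by rw [hgo]; decide) hinv 3 Nat.prime_three
        (by rw [hgo]) hM.three_mem
  · have h8 : 8 ∣ Nat.card G := by
      rw [Nat.card_congr e.toEquiv, nat_card_alternatingGroup, Nat.card_fin]
      decide
    have h9 := (Nat.Prime.pow_dvd_iff_le_factorization Nat.prime_two Nat.card_pos.ne').1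
      (show 2 ^ 3 ∣ Nat.card G by norm_num; exact h8)
    have h10 := S.card_eq_multiplicity
    rw [hS] at h10
    have := Nat.pow_le_pow_right (by norm_num : 0 < 2) h9
    omega

end Min

end Cfsg.Agent.PiHom
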