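import Cfsg.Agent.Lib.PiHom.Reduce
import Cfsg.Agent.Lib.Blocks.Sylow
import Cfsg.Agent.Lib.Coprime.Generation
import Cfsg.Agent.Lib.ZStar.Main
import Cfsg.Agent.Lib.ZStar.Consumers

/-!
# A minimal counterexample: local structure, fusion, the central involutions
-/

set_option autoImplicit false
set_option linter.style.haveILetI false
set_option linter.unusedSectionVars false

namespace Cfsg.Agent.PiHom

open Subgroup
open scoped Pointwise

variable {π : Set ℕ} {G : Type*} [Group G] [Finite G]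

theorem mem_smul_sylow {p : ℕ} {g x : G} {P : Sylow p G} :
    x ∈ ((g • P : Sylow p G) : Subgroup G) ↔ g⁻¹ * x * g ∈ (P : Subgroup G) := by
  rw [Sylow.coe_subgroup_smul, Coprime.mem_conj_smul_iff]

namespace Min

variable (hM : Min π G)
include hM

theorem mem_piK {L : Subgroup G} (hL : L ≠ ⊤) {x : G} : x ∈ piK π L ↔ x ∈ L ∧ IsPi' π x := by
  obtain ⟨K, hK⟩ := hM.proper L hL
  have e : piK π L = K.map L.subtype := by
    refine le_antisymm ((closure_le _).2 ?_) ?_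
    · rintro y ⟨hy, hy'⟩
      exact ⟨⟨y, hy⟩, (hK _).2 (isPi'_coe.1 hy'), rfl⟩
    · rintro _ ⟨y, hy, rfl⟩
      exact subset_closure ⟨y.2, isPi'_coe.2 ((hK y).1 hy)⟩
  rw [e]
  constructor
  · rintro ⟨y, hy, rfl⟩
    exact ⟨y.2, isPi'_coe.2 ((hK y).1 hy)⟩
  · rintro ⟨hx, hx'⟩
    exact ⟨⟨x, hx⟩, (hK _).2 (isPi'_coe.1 hx'), rfl⟩

theorem piK_le {L : Subgroup G} (hL : L ≠ ⊤) : piK π L ≤ L := fun _ hx => ((hM.mem_piK hL).1 hx).1

theorem isPi'_piK {L : Subgroup G} (hL : L ≠ ⊤) {x : G} (hx : x ∈ piK π L) : IsPi' π x :=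
  ((hM.mem_piK hL).1 hx).2

theorem odd_piK {L : Subgroup G} (hL : L ≠ ⊤) : Odd (Nat.card (piK π L)) :=
  odd_card_of_forall hM.two fun _ hx => hM.isPi'_piK hL hx

theorem solvable_piK {L : Subgroup G} (hL : L ≠ ⊤) : Group.IsSolvable (piK π L) :=
  S0205.result (hM.odd_piK hL)

theorem le_normalizer_piK {L : Subgroup G} (hL : L ≠ ⊤) :
    L ≤ normalizer (piK π L : Set G) := fun g hg => mem_normalizer_of_forall fun y hy => by
  obtain ⟨h1, h2⟩ := (hM.mem_piK hL).1 hy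
  exact (hM.mem_piK hL).2 ⟨mul_mem (mul_mem hg h1) (inv_mem hg), isPi'_conj h2 g⟩

theorem commute_of_pi' {H : Subgroup G} (hH : IsPiSub π H) {g : G} (hg : IsPi' π g)
    (hn : g ∈ normalizer (H : Set G)) {y : G} (hy : y ∈ H) : y * g = g * y :=
  mem_centralizer_iff.1 (hM.hom H hH g hg hn) y hy

theorem commute_two {H : Subgroup G} (hH : IsPGroup 2 H) {g : G} (hg : IsPi' π g)
    (hn : g ∈ normalizer (H : Set G)) {y : G} (hy : y ∈ H) : y * g = g * y :=
  haveI : Fact (Nat.Prime 2) := ⟨Nat.prime_two⟩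
  hM.commute_of_pi' (isPiSub_of_isPGroup hM.two hH) hg hn hy

/-- An element of odd order inverted by an involution is a `π'`-element. -/
theorem isPi'_of_inverted {t d : G} (ht : orderOf t = 2) (hd : Odd (orderOf d))
    (hinv : t * d * t⁻¹ = d⁻¹) : IsPi' π d := by
  haveI : Fact (Nat.Prime 2) := ⟨Nat.prime_two⟩
  intro p hp hpd hpπ
  set x := d ^ (orderOf d / p) with hx
  have hxo : orderOf x = p := by
    rw [hx, orderOf_pow, Nat.gcd_eq_right (Nat.div_dvd_of_dvd hpd),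
      Nat.div_div_self hpd (orderOf_pos d).ne']
  have hxi : t * x * t⁻¹ = x⁻¹ := by
    rw [hx, ← conj_pow, hinv, inv_pow]
  set X := zpowers x with hX
  set T := zpowers t with hT
  have htt : t * t = 1 := by rw [← pow_two, ← ht, pow_orderOf_eq_one]
  have hTn : T ≤ normalizer (X : Set G) := by
    rw [hT, zpowers_le]
    refine mem_normalizer_of_forall fun y hy => ?_
    obtain ⟨k, rfl⟩ := mem_zpowers_iff.1 hy
    rw [← conj_zpow, hxi]
    exact zpow_mem (inv_mem (mem_zpowers x)) k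
  have hp2 : p ≠ 2 := fun e => Nat.not_even_iff_odd.2 hd (even_iff_two_dvd.2 (e ▸ hpd))
  have hcop : (Nat.card T).Coprime (Nat.card X) := by
    rw [hT, hX, Nat.card_zpowers, Nat.card_zpowers, ht, hxo]
    exact (Nat.coprime_primes Nat.prime_two hp).2 (Ne.symm hp2)
  have hcard : Nat.card (T ⊔ X : Subgroup G) = 2 * p := by
    rw [Coprime.card_sup_of_le_normalizer hTn (Coprime.disjoint_of_coprime_card hcop), hT, hX,
      Nat.card_zpowers, Nat.card_zpowers, ht, hxo]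
  have hπ : IsPiSub π (T ⊔ X : Subgroup G) := by
    intro q hq hd'
    rw [hcard] at hd'
    rcases (Nat.Prime.dvd_mul hq).1 hd' with r | r
    · rw [(Nat.prime_dvd_prime_iff_eq hq Nat.prime_two).1 r]; exact hM.two
    · rwa [(Nat.prime_dvd_prime_iff_eq hq hp).1 r]
  set J : Subgroup G := T ⊔ X with hJ
  set tJ : J := ⟨t, mem_sup_left (mem_zpowers t)⟩ with htJ
  set xJ : J := ⟨x, mem_sup_right (mem_zpowers x)⟩ with hxJ
  have h2 : IsPGroup 2 (zpowers tJ) := IsPGroup.of_card (n := 1) (by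
    rw [Nat.card_zpowers, Subgroup.orderOf_mk, ht, pow_one])
  obtain ⟨P, hP⟩ := h2.exists_le_sylow
  have hPn := hM.cl J hπ P
  have h3 : xJ * xJ ∈ (P : Subgroup J) := by
    have h4 : xJ * tJ * xJ⁻¹ * tJ⁻¹ ∈ (P : Subgroup J) :=
      mul_mem (hPn.conj_mem _ (hP (mem_zpowers tJ)) xJ) (inv_mem (hP (mem_zpowers tJ)))
    have e : xJ * tJ * xJ⁻¹ * tJ⁻¹ = xJ * xJ := by
      refine Subtype.ext ?_
      show x * t * x⁻¹ * t⁻¹ = x * x
      have hxi' : t * x⁻¹ * t⁻¹ = x := by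
        have := congrArg (·⁻¹) hxi
        simpa [mul_assoc] using this
      calc x * t * x⁻¹ * t⁻¹ = x * (t * x⁻¹ * t⁻¹) := by group
        _ = x * x := by rw [hxi']
    rwa [e] at h4
  obtain ⟨n, hn⟩ := P.2 ⟨_, h3⟩
  have h5 : x ^ (2 * 2 ^ n) = 1 := by
    rw [pow_mul, pow_two]
    exact congrArg (fun z : (P : Subgroup J) => ((z : J) : G)) hn
  have h6 := orderOf_dvd_of_pow_eq_one h5
  rw [hxo, ← pow_succ'] at h6
  exact hp2 ((Nat.prime_dvd_prime_iff_eq hp Nat.prime_two).1 (hp.dvd_of_dvd_pow h6))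

theorem center_trivial {z : G} (hz : ∀ g : G, g * z = z * g) : z = 1 := by
  haveI := hM.simple
  rcases (inferInstance : (Subgroup.center G).Normal).eq_bot_or_eq_top with h | h
  · exact Subgroup.mem_bot.1 (h ▸ Subgroup.mem_center_iff.2 hz)
  · obtain ⟨a, b, hab⟩ := hM.noncomm
    exact absurd (Subgroup.mem_center_iff.1 (h ▸ mem_top b) a) hab

theorem centralizer_ne_top {x : G} (hx : x ≠ 1) : centralizer ({x} : Set G) ≠ ⊤ := fun h =>
  hx (hM.center_trivial fun g => mem_centralizer_singleton_iff.1 (h ▸ mem_top g))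

theorem normalizer_ne_top {H : Subgroup G} (h1 : H ≠ ⊥) (h2 : H ≠ ⊤) :
    normalizer (H : Set G) ≠ ⊤ := fun h => by
  haveI := hM.simple
  rcases (normalizer_eq_top_iff.1 h).eq_bot_or_eq_top with r | r
  · exact h1 r
  · exact h2 r

theorem ne_top_of_isPGroup {p : ℕ} [Fact p.Prime] {H : Subgroup G} (hH : IsPGroup p H) :
    H ≠ ⊤ := fun h => by
  haveI := hM.simple
  subst h
  have h1 : IsPGroup p G := hH.of_equiv Subgroup.topEquiv
  haveI := h1.isNilpotent
  obtain ⟨a, b, hab⟩ := hM.noncomm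
  exact hab (IsSimpleGroup.comm_iff_isSolvable.2 (inferInstance : Group.IsSolvable G) a b)

/-- Frattini argument in a proper subgroup. -/
theorem frattini {L T : Subgroup G} (hL : L ≠ ⊤) (hT : Blocks.SylIn 2 L T) {g : G} (hg : g ∈ L) :
    ∃ k ∈ piK π L, k⁻¹ * g ∈ normalizer (T : Set G) := by
  haveI : Fact (Nat.Prime 2) := ⟨Nat.prime_two⟩
  obtain ⟨P, rfl⟩ := Blocks.sylIn_iff.1 hT
  obtain ⟨K, hK⟩ := hM.proper L hL
  obtain ⟨hKn, -, -⟩ := exists_complement hK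
  haveI := hKn
  have hq := twoClosed_quotient (cl_subgroup hM.cl L) hK
    (P.mapSurjective (QuotientGroup.mk'_surjective K))
  rw [Sylow.coe_mapSurjective] at hq
  set J := ((P : Subgroup L).map (QuotientGroup.mk' K)).comap (QuotientGroup.mk' K) with hJ
  haveI hJn : J.Normal := hq.comap _
  have hPJ : (P : Subgroup L) ≤ J := Subgroup.le_comap_map _ _
  have htop := Sylow.normalizer_sup_eq_top' P hPJ
  have hgm : (⟨g, hg⟩ : L) ∈ normalizer ((P : Subgroup L) : Set L) ⊔ J := htop ▸ mem_top _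
  obtain ⟨n, hn, j, hj, hnj⟩ := (Coprime.mem_sup_iff_of_le_normalizer
    (Subgroup.normalizer_eq_top (H := J) ▸ le_top)).1 hgm
  rw [hJ, Subgroup.comap_map_eq, QuotientGroup.ker_mk'] at hj
  obtain ⟨p, hp, k, hk, hpk⟩ := (Coprime.mem_sup_iff_of_le_normalizer
    (Subgroup.normalizer_eq_top (H := K) ▸ le_top)).1 hj
  have hnp : n * p ∈ normalizer ((P : Subgroup L) : Set L) := mul_mem hn (le_normalizer hp)
  refine ⟨(((n * p) * k * (n * p)⁻¹ : L) : G), ?_, ?_⟩
  · exact (hM.mem_piK hL).2 ⟨SetLike.coe_mem _, isPi'_coe.2 ((hK _).1 (hKn.conj_mem k hk _))⟩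
  · have e : (((n * p) * k * (n * p)⁻¹ : L) : G)⁻¹ * g = ((n * p : L) : G) := by
      have hg' : g = ((n * (p * k) : L) : G) := by rw [hpk, hnj]
      rw [hg']
      push_cast
      group
    rw [e]
    exact Subgroup.le_normalizer_map L.subtype ⟨n * p, hnp, rfl⟩

/-- Two-subgroups of a proper subgroup go into a given Sylow subgroup by `piK`. -/
theorem exists_conj_into {L T : Subgroup G} (hL : L ≠ ⊤) (hT : Blocks.SylIn 2 L T) {Q : Subgroup G}
    (hQ : IsPGroup 2 Q) (hQL : Q ≤ L) : ∃ k ∈ piK π L, ∀ q ∈ Q, k * q * k⁻¹ ∈ T := by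
  haveI : Fact (Nat.Prime 2) := ⟨Nat.prime_two⟩
  obtain ⟨x, hx, hxT⟩ := hT.exists_conj_le hQ hQL
  obtain ⟨k, hk, hn⟩ := hM.frattini hL hT (inv_mem hx)
  refine ⟨k⁻¹, inv_mem hk, fun q hq => ?_⟩
  have h1 : x * q * x⁻¹ ∈ T := hxT ⟨q, hq, rfl⟩
  have h2 := (mem_normalizer_iff.1 hn _).1 h1
  simpa [mul_assoc] using h2

theorem exists_sylIn_ge {L Q : Subgroup G} (hQ : IsPGroup 2 Q) (hQL : Q ≤ L) :
    ∃ T, Blocks.SylIn 2 L T ∧ Q ≤ T := by
  haveI : Fact (Nat.Prime 2) := ⟨Nat.prime_two⟩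
  obtain ⟨P, hP⟩ := (hQ.of_equiv (Subgroup.subgroupOfEquivOfLe hQL).symm).exists_le_sylow
  exact ⟨_, Blocks.sylIn_map L P, fun q hq => ⟨⟨q, hQL hq⟩, hP hq, rfl⟩⟩

omit hM in
theorem exists_norm_gt {p : ℕ} [Fact p.Prime] {D S : Subgroup G} (hS : IsPGroup p S) (h : D < S) :
    ∃ x ∈ S, x ∈ normalizer (D : Set G) ∧ x ∉ D := by
  haveI := hS.isNilpotent
  obtain ⟨x, hx, hxD⟩ := SetLike.exists_of_lt (Group.normalizerCondition_of_isNilpotent
    (D.subgroupOf S) (lt_top_iff_ne_top.2 fun e => not_le_of_gt h (subgroupOf_eq_top.1 e)))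
  refine ⟨x, x.2, mem_normalizer_iff.2 fun y => ⟨fun hy => ?_, fun hy => ?_⟩, hxD⟩
  · exact (mem_normalizer_iff.1 hx ⟨y, h.le hy⟩).1 hy
  · have h1 := (mem_normalizer_iff''.1 hx ⟨_, h.le hy⟩).1 hy
    have h2 : (x : G)⁻¹ * ((x : G) * y * (x : G)⁻¹) * x ∈ D := h1
    rwa [show (x : G)⁻¹ * ((x : G) * y * (x : G)⁻¹) * x = y by group] at h2

/-- Two Sylow 2-subgroups are conjugate by an element centralising their intersection. -/
theorem exists_smul_eq (S S' : Sylow 2 G) :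
    ∃ g : G, (∀ x ∈ (S : Subgroup G) ⊓ S', x * g = g * x) ∧ g • S = S' := by
  haveI : Fact (Nat.Prime 2) := ⟨Nat.prime_two⟩
  suffices key : ∀ (n : ℕ) (S S' : Sylow 2 G),
      Nat.card G - Nat.card ((S : Subgroup G) ⊓ S' : Subgroup G) = n →
      ∃ g : G, (∀ x ∈ (S : Subgroup G) ⊓ S', x * g = g * x) ∧ g • S = S' from key _ S S' rfl
  intro n
  induction n using Nat.strong_induction_on with
  | _ n ih =>
  intro S S' hn
  set D : Subgroup G := (S : Subgroup G) ⊓ S' with hD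
  have hlt : ∀ A B : Sylow 2 G, D < (A : Subgroup G) ⊓ B →
      ∃ g : G, (∀ x ∈ (A : Subgroup G) ⊓ B, x * g = g * x) ∧ g • A = B := by
    intro A B h
    refine ih _ ?_ A B rfl
    have h1 : Nat.card D < Nat.card ((A : Subgroup G) ⊓ B : Subgroup G) := by
      by_contra hh
      exact h.ne (Subgroup.eq_of_le_of_card_ge h.le (not_lt.1 hh))
    have h2 := Subgroup.card_le_card_group ((A : Subgroup G) ⊓ B : Subgroup G)
    omega
  rcases eq_or_lt_of_le (inf_le_left : D ≤ S) with e | hS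
  · refine ⟨1, fun x _ => by rw [mul_one, one_mul], ?_⟩
    rw [one_smul]
    refine Sylow.ext (le_antisymm ?_ ?_)
    · exact e ▸ inf_le_right
    · exact (S.3 S'.2 (e ▸ inf_le_right)).le
  rcases eq_or_lt_of_le (inf_le_right : D ≤ S') with e | hS'
  · exfalso
    refine hS.ne (le_antisymm inf_le_left ?_)
    have h1 : (S : Subgroup G) = S' := S'.3 S.2 (e ▸ inf_le_left)
    rw [← h1]
    exact le_inf le_rfl le_rfl
  by_cases hD1 : D = ⊥
  · obtain ⟨g, hg⟩ := MulAction.exists_smul_eq G S S'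
    refine ⟨g, fun x hx => ?_, hg⟩
    rw [hD1, Subgroup.mem_bot] at hx
    rw [hx, mul_one, one_mul]
  have hDp : IsPGroup 2 D := S.2.to_le inf_le_left
  set L := normalizer (D : Set G) with hL
  have hLt : L ≠ ⊤ := hM.normalizer_ne_top hD1 (hM.ne_top_of_isPGroup hDp)
  obtain ⟨x, hxS, hxD, hxn⟩ := exists_norm_gt S.2 hS
  obtain ⟨y, hyS, hyD, hyn⟩ := exists_norm_gt S'.2 hS'
  obtain ⟨T, hT, hST⟩ := hM.exists_sylIn_ge (L := L) (Q := (S : Subgroup G) ⊓ L)
    (S.2.to_le inf_le_left) inf_le_right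
  obtain ⟨k, hk, hkT⟩ := hM.exists_conj_into hLt hT (Q := (S' : Subgroup G) ⊓ L)
    (S'.2.to_le inf_le_left) inf_le_right
  obtain ⟨S₁, hS₁⟩ := hT.isPGroup.exists_le_sylow
  have hDL : D ≤ L := le_normalizer
  have hkc : ∀ d ∈ D, d * k = k * d := fun d hd =>
    hM.commute_two hDp (hM.isPi'_piK hLt hk) (hM.piK_le hLt hk) hd
  have h1 : D < (S : Subgroup G) ⊓ S₁ := lt_of_le_of_ne
    (le_inf inf_le_left fun d hd => hS₁ (hST ⟨inf_le_left (a := (S : Subgroup G)) hd, hDL hd⟩))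
    fun e => hxn (e ▸ ⟨hxS, hS₁ (hST ⟨hxS, hxD⟩)⟩ : x ∈ D)
  set S₂ := k⁻¹ • S₁ with hS₂def
  have hmem : ∀ z, z ∈ (S' : Subgroup G) → z ∈ L → z ∈ (S₂ : Subgroup G) := fun z hz hzL => by
    rw [hS₂def, mem_smul_sylow, inv_inv]
    exact hS₁ (hkT z ⟨hz, hzL⟩)
  have h2 : D < (S₂ : Subgroup G) ⊓ S' := lt_of_le_of_ne
    (le_inf (fun d hd => hmem d (inf_le_right (a := (S : Subgroup G)) hd) (hDL hd)) inf_le_right)
    fun e => hyn (e ▸ ⟨hmem y hyS hyD, hyS⟩ : y ∈ D)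
  obtain ⟨g₁, hg₁, hg₁S⟩ := hlt S S₁ h1
  obtain ⟨g₂, hg₂, hg₂S⟩ := hlt S₂ S' h2
  refine ⟨g₂ * k⁻¹ * g₁, fun d hd => ?_, ?_⟩
  · have c1 : Commute d g₁ := hg₁ d (h1.le hd)
    have c2 : Commute d g₂ := hg₂ d (h2.le hd)
    have c3 : Commute d k := hkc d hd
    exact ((c2.mul_right c3.inv_right).mul_right c1).eq
  · rw [mul_smul, mul_smul, hg₁S, ← hS₂def, hg₂S]

/-- The normaliser of a Sylow 2-subgroup controls fusion. -/
theorem exists_normalizer_mul {S : Sylow 2 G} {A : Subgroup G} {g : G} (hA : A ≤ S)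
    (hg : ∀ a ∈ A, g * a * g⁻¹ ∈ (S : Subgroup G)) :
    ∃ n ∈ normalizer ((S : Subgroup G) : Set G), ∃ c : G, (∀ a ∈ A, a * c = c * a) ∧ g = n * c := by
  obtain ⟨c, hc, hcS⟩ := hM.exists_smul_eq (g⁻¹ • S) S
  have hAc : ∀ a ∈ A, a * c = c * a := fun a ha =>
    hc a ⟨mem_smul_sylow.2 (by rw [inv_inv]; exact hg a ha), hA ha⟩
  refine ⟨g * c⁻¹, ?_, c, hAc, by group⟩
  have h1 : c * g⁻¹ ∈ normalizer ((S : Subgroup G) : Set G) :=
    Sylow.smul_eq_iff_mem_normalizer.1 (by rw [mul_smul, hcS])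
  simpa using inv_mem h1

end Min

/-- The involutions of the centre of a subgroup, with the identity. -/
def omegaZ (S : Subgroup G) : Subgroup G where
  carrier := {x | x ∈ S ∧ (∀ s ∈ S, s * x = x * s) ∧ x * x = 1}
  one_mem' := ⟨one_mem S, fun s _ => by rw [mul_one, one_mul], one_mul 1⟩
  mul_mem' := by
    rintro a b ⟨ha, hac, ha2⟩ ⟨hb, hbc, hb2⟩
    refine ⟨mul_mem ha hb, fun s hs => ?_, ?_⟩
    · exact ((show Commute s a from hac s hs).mul_right (hbc s hs)).eq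
    · calc a * b * (a * b) = a * (b * a) * b := by group
        _ = a * (a * b) * b := by rw [hac b hb]
        _ = (a * a) * (b * b) := by group
        _ = 1 := by rw [ha2, hb2, one_mul]
  inv_mem' := by
    rintro a ⟨ha, hac, ha2⟩
    rw [inv_eq_of_mul_eq_one_right ha2]
    exact ⟨ha, hac, ha2⟩

theorem mem_omegaZ {S : Subgroup G} {x : G} :
    x ∈ omegaZ S ↔ x ∈ S ∧ (∀ s ∈ S, s * x = x * s) ∧ x * x = 1 := Iff.rfl

theorem omegaZ_le (S : Subgroup G) : omegaZ S ≤ S := fun _ h => h.1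

theorem orderOf_omegaZ {S : Subgroup G} {x : G} (hx : x ∈ omegaZ S) (h1 : x ≠ 1) :
    orderOf x = 2 :=
  orderOf_eq_prime (by rw [pow_two]; exact hx.2.2) h1

theorem omegaZ_conj {S : Sylow 2 G} {x n : G} (hx : x ∈ omegaZ (S : Subgroup G))
    (hn : n ∈ normalizer ((S : Subgroup G) : Set G)) : n * x * n⁻¹ ∈ omegaZ (S : Subgroup G) := by
  obtain ⟨h1, h2, h3⟩ := hx
  refine ⟨(mem_normalizer_iff.1 hn x).1 h1, fun s hs => ?_, ?_⟩
  · have h4 := h2 _ ((mem_normalizer_iff''.1 hn s).1 hs)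
    calc s * (n * x * n⁻¹) = n * ((n⁻¹ * s * n) * x) * n⁻¹ := by group
      _ = n * (x * (n⁻¹ * s * n)) * n⁻¹ := by rw [h4]
      _ = n * x * n⁻¹ * s := by group
  · calc n * x * n⁻¹ * (n * x * n⁻¹) = n * (x * x) * n⁻¹ := by group
      _ = 1 := by rw [h3]; group

namespace Min

variable (hM : Min π G) (S : Sylow 2 G)
include hM

/-- `omegaZ S` is strongly closed. -/
theorem omegaZ_closed {z g : G} (hz : z ∈ omegaZ (S : Subgroup G))
    (hg : g * z * g⁻¹ ∈ (S : Subgroup G)) : g * z * g⁻¹ ∈ omegaZ (S : Subgroup G) := by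
  obtain ⟨n, hn, c, hc, rfl⟩ := hM.exists_normalizer_mul (A := zpowers z)
    (zpowers_le.2 hz.1) (g := g) (fun a ha => by
      obtain ⟨k, rfl⟩ := mem_zpowers_iff.1 ha
      rw [← conj_zpow]
      exact zpow_mem hg k)
  have e : n * c * z * (n * c)⁻¹ = n * z * n⁻¹ := by
    rw [show n * c * z * (n * c)⁻¹ = n * (c * z * c⁻¹) * n⁻¹ by group,
      ← hc z (mem_zpowers z), mul_inv_cancel_right]
  rw [e]
  exact omegaZ_conj hz hn

/-- A 2-subgroup containing `omegaZ S` centralises it. -/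
theorem commute_omegaZ {T : Subgroup G} (hT : IsPGroup 2 T) (hle : omegaZ (S : Subgroup G) ≤ T)
    {t z : G} (ht : t ∈ T) (hz : z ∈ omegaZ (S : Subgroup G)) : t * z = z * t := by
  obtain ⟨S', hS'⟩ := hT.exists_le_sylow
  obtain ⟨c, hc, rfl⟩ := hM.exists_smul_eq S S'
  have hcz : z * c = c * z := hc z ⟨hz.1, hS' (hle hz)⟩
  have h1 := hz.2.1 _ (mem_smul_sylow.1 (hS' ht))
  calc t * z = c * ((c⁻¹ * t * c) * (c⁻¹ * (z * c))) * c⁻¹ := by group
    _ = c * ((c⁻¹ * t * c) * z) * c⁻¹ := by rw [hcz, inv_mul_cancel_left]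
    _ = c * (z * (c⁻¹ * t * c)) * c⁻¹ := by rw [h1]
    _ = (c * z) * c⁻¹ * t := by group
    _ = z * t := by rw [← hcz]; group

/-- The normaliser of a 2-subgroup containing `omegaZ S` normalises it. -/
theorem normalizer_omegaZ {T : Subgroup G} (hT : IsPGroup 2 T)
    (hle : omegaZ (S : Subgroup G) ≤ T) {n : G} (hn : n ∈ normalizer (T : Set G)) :
    n ∈ normalizer (omegaZ (S : Subgroup G) : Set G) := by
  refine mem_normalizer_of_forall fun z hz => ?_
  obtain ⟨S', hS'⟩ := hT.exists_le_sylow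
  obtain ⟨c, hc, rfl⟩ := hM.exists_smul_eq S S'
  have h1 := mem_smul_sylow.1 (hS' ((mem_normalizer_iff.1 hn z).1 (hle hz)))
  have h2 : (c⁻¹ * n) * z * (c⁻¹ * n)⁻¹ ∈ (S : Subgroup G) := by
    simpa [mul_assoc] using h1
  have h3 := hM.omegaZ_closed S hz h2
  have h4 := hc _ ⟨h3.1, hS' (hle h3)⟩
  rw [show n * z * n⁻¹ = c * ((c⁻¹ * n) * z * (c⁻¹ * n)⁻¹) * c⁻¹ by group, ← h4,
    mul_inv_cancel_right]
  exact h3

theorem normalizer_sylow_le : normalizer ((S : Subgroup G) : Set G) ≤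
    normalizer (omegaZ (S : Subgroup G) : Set G) := fun _ hn =>
  mem_normalizer_of_forall fun _ hz => omegaZ_conj hz hn

/-- No involution of `omegaZ S` is fixed by `N(S)`. -/
theorem exists_moving {z : G} (hz : z ∈ omegaZ (S : Subgroup G)) (h1 : z ≠ 1) :
    ∃ n ∈ normalizer ((S : Subgroup G) : Set G), n * z * n⁻¹ ≠ z := by
  by_contra h
  push Not at h
  haveI := hM.simple
  have hiso := ZStar.isolated_of_sylow (P := S) (orderOf_omegaZ hz h1) hz.1 fun g hg => by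
    obtain ⟨n, hn, c, hc, rfl⟩ := hM.exists_normalizer_mul (A := zpowers z)
      (zpowers_le.2 hz.1) (g := g) (fun a ha => by
        obtain ⟨k, rfl⟩ := mem_zpowers_iff.1 ha
        rw [← conj_zpow]
        exact zpow_mem hg k)
    rw [show n * c * z * (n * c)⁻¹ = n * (c * z * c⁻¹) * n⁻¹ by group,
      ← hc z (mem_zpowers z), mul_inv_cancel_right]
    exact h n hn
  have hO : Cfsg.oddCore G = ⊥ := by
    rcases (inferInstance : (Cfsg.oddCore G).Normal).eq_bot_or_eq_top with e | e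
    · exact e
    · exfalso
      have h2 := PCore.odd_card_oddCore (G := G)
      rw [e, Subgroup.card_top] at h2
      exact Nat.not_even_iff_odd.2 h2 (even_iff_two_dvd.2 hM.even)
  exact h1 (hM.center_trivial fun g =>
    Subgroup.mem_center_iff.1 (ZStar.mem_center_of_oddCore_eq_bot (ZStar.inZStar hiso) hO) g)

theorem exists_mem_omegaZ : ∃ z ∈ omegaZ (S : Subgroup G), z ≠ 1 := by
  haveI : Fact (Nat.Prime 2) := ⟨Nat.prime_two⟩
  haveI : Nontrivial (S : Subgroup G) := by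
    rw [Subgroup.nontrivial_iff_ne_bot]
    exact S.ne_bot_of_dvd_card hM.even
  haveI := S.2.center_nontrivial
  have hd : 2 ∣ Nat.card (Subgroup.center (S : Subgroup G)) := by
    obtain ⟨n, hn, e⟩ := (IsPGroup.nontrivial_iff_card (S.2.to_subgroup _)).1
      (inferInstance : Nontrivial (Subgroup.center (S : Subgroup G)))
    exact e ▸ dvd_pow_self 2 hn.ne'
  obtain ⟨z, hz⟩ := exists_prime_orderOf_dvd_card' 2 hd
  refine ⟨((z : (S : Subgroup G)) : G), ⟨SetLike.coe_mem _, fun s hs => ?_, ?_⟩, fun e => ?_⟩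
  · exact congrArg Subtype.val (Subgroup.mem_center_iff.1 z.2 ⟨s, hs⟩)
  · have := pow_orderOf_eq_one z
    rw [hz, pow_two] at this
    exact congrArg (fun w : Subgroup.center (S : Subgroup G) => ((w : (S : Subgroup G)) : G)) this
  · rw [show z = 1 from Subtype.ext (Subtype.ext e), orderOf_one] at hz
    norm_num at hz

theorem two_lt_card_omegaZ : 2 < Nat.card (omegaZ (S : Subgroup G)) := by
  classical
  obtain ⟨z, hz, hz1⟩ := hM.exists_mem_omegaZ S
  obtain ⟨n, hn, hnz⟩ := hM.exists_moving S hz hz1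
  haveI := Fintype.ofFinite (omegaZ (S : Subgroup G))
  rw [Nat.card_eq_fintype_card, Fintype.two_lt_card_iff]
  exact ⟨1, ⟨z, hz⟩, ⟨_, omegaZ_conj hz hn⟩, fun e => hz1 (congrArg Subtype.val e).symm,
    fun e => hz1 (conj_eq_one_iff.1 (congrArg Subtype.val e).symm),
    fun e => hnz (congrArg Subtype.val e).symm⟩

theorem omegaZ_not_cyclic : ¬ IsCyclic (omegaZ (S : Subgroup G)) := fun hc => by
  obtain ⟨g, hg⟩ := hc.exists_ofOrder_eq_natCard
  have h2 := hM.two_lt_card_omegaZ S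
  have : orderOf g ∣ 2 := orderOf_dvd_of_pow_eq_one (by
    rw [pow_two]; exact Subtype.ext g.2.2.2)
  have := Nat.le_of_dvd (by norm_num) this
  omega

omit hM in
theorem omegaZ_comm : IsMulCommutative (omegaZ (S : Subgroup G)) :=
  ⟨⟨fun a b => Subtype.ext (b.2.2.1 a a.2.1)⟩⟩

theorem isPGroup_omegaZ : IsPGroup 2 (omegaZ (S : Subgroup G)) := S.2.to_le (omegaZ_le _)

/-- An `omegaZ S`-invariant odd subgroup is generated by its centralised parts. -/
theorem le_of_forall_centralizer {K M : Subgroup G} (hK : Odd (Nat.card K))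
    (hn : omegaZ (S : Subgroup G) ≤ normalizer (K : Set G))
    (h : ∀ z ∈ omegaZ (S : Subgroup G), z ≠ 1 → K ⊓ centralizer {z} ≤ M) : K ≤ M := by
  haveI := omegaZ_comm S
  haveI : Fact (Nat.Prime 2) := ⟨Nat.prime_two⟩
  obtain ⟨n, hn'⟩ := IsPGroup.iff_card.1 (hM.isPGroup_omegaZ S)
  have hcop : (Nat.card (omegaZ (S : Subgroup G))).Coprime (Nat.card K) :=
    hn' ▸ Nat.Coprime.pow_left n (Nat.coprime_two_left.2 hK)
  have := Coprime.eq_of_forall_centralizer_le (hM.omegaZ_not_cyclic S) hn hcop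
    (inf_le_left : K ⊓ M ≤ K) fun z hz hz1 => le_inf inf_le_left (h z hz hz1)
  exact inf_eq_left.1 this

/-- A proper subgroup containing `omegaZ S` lies in every subgroup containing the centralisers of
its involutions and its normaliser. -/
theorem le_of_omegaZ_le {L M : Subgroup G} (hL : L ≠ ⊤) (hZ : omegaZ (S : Subgroup G) ≤ L)
    (hC : ∀ z ∈ omegaZ (S : Subgroup G), z ≠ 1 → centralizer ({z} : Set G) ≤ M)
    (hN : normalizer (omegaZ (S : Subgroup G) : Set G) ≤ M) : L ≤ M := by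
  obtain ⟨T, hT, hZT⟩ := hM.exists_sylIn_ge (hM.isPGroup_omegaZ S) hZ
  have hK : piK π L ≤ M := hM.le_of_forall_centralizer S (hM.odd_piK hL)
    (hZ.trans (hM.le_normalizer_piK hL)) fun z hz hz1 => inf_le_right.trans (hC z hz hz1)
  intro g hg
  obtain ⟨k, hk, hn⟩ := hM.frattini hL hT hg
  have h1 : k⁻¹ * g ∈ M := hN (hM.normalizer_omegaZ S
    (haveI : Fact (Nat.Prime 2) := ⟨Nat.prime_two⟩; hT.isPGroup) hZT hn)
  simpa using mul_mem (hK hk) h1

end Min

end Cfsg.Agent.PiHom
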