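import Cfsg.Agent.Lib.SylL34.Fpf
import Cfsg.Agent.Lib.HigmanRankTwo.Unique
import Cfsg.Agent.Lib.Char.Linear
import Cfsg.Agent.Lib.Char.KernelSum
import Cfsg.Agent.Lib.Char.Descend
import Cfsg.Agent.Lib.Char.Generalized
import Cfsg.Agent.Lib.BlocksX.Central
import Cfsg.Agent.Lib.Exceptional.ClassPairs

/-!
# Characters of the group of order 64 with a fixed-point-free automorphism of order three
-/

set_option autoImplicit false
set_option linter.style.haveILetI false
set_option linter.unusedSectionVars false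

namespace Cfsg.Agent.PiHom.Sylow64

open Cfsg Subgroup
open scoped commutatorElement ComplexConjugate

universe u

variable {P : Type u} [Group P] [Fintype P] {σ : MulAut P} (h : SylL34.Fpf P σ)
include h

/-- The centraliser of an element outside the centre has order 16. -/
theorem card_centralizer {y : P} (hy : y ∉ center P) :
    Nat.card (centralizer ({y} : Set P)) = 16 := by
  haveI : Fact (Nat.Prime 2) := ⟨Nat.prime_two⟩
  set C := centralizer ({y} : Set P) with hC
  have hmem : ∀ w, w ∈ C ↔ ⁅y, w⁆ = 1 := fun w => by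
    rw [hC, mem_centralizer_singleton_iff, commutatorElement_eq_one_iff_mul_comm, eq_comm]
  have hCσ : ∀ w ∈ C, σ w ∈ C := fun w hw => by
    rw [hmem] at hw ⊢
    rw [(h.comm_apply_right y w).1, hw, map_one, map_one]
  have hmod := SylL34.card_mod_three h.three h.fpf C hCσ
  have hmodZ := SylL34.card_mod_three h.three h.fpf (center P) fun x hx => SylL34.Fpf.apply_mem_center σ hx
  have hyC : y ∈ C := mem_centralizer_singleton_iff.2 rfl
  have hZC : center P < C := lt_of_le_of_ne (center_le_centralizer _) fun e => hy (e ▸ hyC)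
  have h1 := PGroup.mul_card_le_card h.pgroup hZC
  rw [h.card_center] at h1
  have hne : C < ⊤ := lt_top_iff_ne_top.2 fun e => hy (mem_center_iff.2 fun g =>
    mem_centralizer_singleton_iff.1 (show g ∈ C from by rw [e]; exact mem_top g))
  have h2 := PGroup.mul_card_le_card h.pgroup hne
  rw [card_top, h.card] at h2
  have hd := card_subgroup_dvd_card C
  rw [h.card] at hd
  obtain ⟨i, hi, hCi⟩ := (Nat.dvd_prime_pow Nat.prime_two).1 (show Nat.card C ∣ 2 ^ 6 from hd)
  unfold Nat.ModEq at hmod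
  interval_cases i <;> omega

/-- Commutators with an element outside the centre fill the centre. -/
theorem exists_comm_eq {y : P} (hy : y ∉ center P) {z : P} (hz : z ∈ center P) :
    ∃ w : P, ⁅y, w⁆ = z := by
  let φ : P →* P :=
    { toFun := fun w => ⁅y, w⁆
      map_one' := commutatorElement_one_right y
      map_mul' := fun a b => h.comm_mul_right y a b }
  have hker : φ.ker = centralizer ({y} : Set P) := by
    ext w
    rw [MonoidHom.mem_ker, mem_centralizer_singleton_iff, eq_comm (a := w * y),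
      ← commutatorElement_eq_one_iff_mul_comm]
    rfl
  have h1 := φ.ker.index_mul_card
  rw [index_ker, hker, card_centralizer h hy, h.card] at h1
  have hle : φ.range ≤ center P := by
    rintro _ ⟨w, rfl⟩
    exact h.comm_mem_center y w
  have heq : φ.range = center P := eq_of_le_of_card_ge hle (by rw [h.card_center]; omega)
  exact (MonoidHom.mem_range).1 (heq ▸ hz)

/-- An element outside the centre is conjugate to its translates by the centre. -/
theorem exists_conj_eq {y : P} (hy : y ∉ center P) {z : P} (hz : z ∈ center P) :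
    ∃ c : P, c * y * c⁻¹ = y * z := by
  obtain ⟨w, hw⟩ := exists_comm_eq h hy hz
  refine ⟨w, ?_⟩
  have e : w * y * w⁻¹ = ⁅w, y⁆ * y := by simp only [commutatorElement_def]; group
  rw [e, h.comm_symm, hw, ← h.center_comm hz y]

theorem exists_not_center : ∃ y : P, y ∉ center P := by
  by_contra hc
  push Not at hc
  exact h.nonab ⟨⟨fun a b => mem_center_iff.1 (hc b) a⟩⟩

theorem commutator_eq : commutator P = center P := by
  refine le_antisymm ?_ fun z hz => ?_
  · rw [commutator_def, commutator_le]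
    exact fun a _ b _ => h.comm_mem_center a b
  · obtain ⟨y, hy⟩ := exists_not_center h
    obtain ⟨w, rfl⟩ := exists_comm_eq h hy hz
    exact commutator_mem_commutator (mem_top y) (mem_top w)

/-- The linear characters. -/
noncomputable def lin (P : Type u) [Group P] [Fintype P] : Finset (IrrCharacter P) := by
  classical exact Finset.univ.filter fun χ => χ.1 1 = 1

omit h in
theorem mem_lin {χ : IrrCharacter P} : χ ∈ lin P ↔ χ.1 1 = 1 := by simp [lin]

theorem card_lin : (lin P).card = 16 := by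
  classical
  have e : (lin P).card = Nat.card {χ : IrrCharacter P // χ.1 1 = 1} := by
    rw [Nat.card_eq_fintype_card, Fintype.card_subtype, lin]
  rw [e, Char.card_linear, commutator_eq h]
  have h1 := (center P).index_mul_card
  rw [h.card_center, h.card] at h1
  omega

omit h in
theorem lin_mul {χ : IrrCharacter P} (hχ : χ ∈ lin P) (a b : P) : χ.1 (a * b) = χ.1 a * χ.1 b := by
  obtain ⟨l, hl⟩ := Char.IsCharacter.exists_monoidHom (Char.irr_isCharacter χ) (mem_lin.1 hχ)
  rw [← hl, map_mul]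

theorem lin_center {χ : IrrCharacter P} (hχ : χ ∈ lin P) {z : P} (hz : z ∈ center P) :
    χ.1 z = 1 := by
  obtain ⟨y, hy⟩ := exists_not_center h
  obtain ⟨w, rfl⟩ := exists_comm_eq h hy hz
  have e : ⁅y, w⁆ * (w * y) = y * w := by simp only [commutatorElement_def]; group
  have h1 := congrArg χ.1 e
  rw [lin_mul hχ, lin_mul hχ, lin_mul hχ, mul_comm (χ.1 w) (χ.1 y)] at h1
  obtain ⟨l, hl⟩ := Char.IsCharacter.exists_monoidHom (Char.irr_isCharacter χ) (mem_lin.1 hχ)
  have hne : ∀ x, χ.1 x ≠ 0 := fun x hx => by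
    have e2 : χ.1 x * χ.1 x⁻¹ = 1 := by rw [← hl, ← map_mul, mul_inv_cancel, map_one]
    rw [hx, zero_mul] at e2
    exact zero_ne_one e2
  exact (mul_eq_right₀ (mul_ne_zero (hne y) (hne w))).1 h1

theorem lin_sq {χ : IrrCharacter P} (hχ : χ ∈ lin P) (y : P) : χ.1 y * χ.1 y = 1 := by
  rw [← lin_mul hχ, lin_center h hχ (h.sq_mem_center y)]

theorem lin_conj {χ : IrrCharacter P} (hχ : χ ∈ lin P) (y : P) : conj (χ.1 y) = χ.1 y := by
  rcases mul_self_eq_one_iff.1 (lin_sq h hχ y) with e | e <;> simp [e]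

/-- Characters which are not linear vanish outside the centre. -/
theorem nonlin_zero {χ : IrrCharacter P} (hχ : χ ∉ lin P) {y : P} (hy : y ∉ center P) :
    χ.1 y = 0 := by
  classical
  have h1 := Char.sum_irr_mul_conj y y
  rw [if_pos (IsConj.refl y), card_centralizer h hy,
    ← Finset.sum_add_sum_compl (lin P)] at h1
  have h2 : ∑ ψ ∈ lin P, ψ.1 y * conj (ψ.1 y) = (16 : ℕ) := by
    rw [Finset.sum_congr rfl (g := fun _ => (1 : ℂ)) (fun ψ hψ => by rw [lin_conj h hψ, lin_sq h hψ]),
      Finset.sum_const, card_lin h, nsmul_eq_mul, mul_one]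
  rw [h2, add_eq_left] at h1
  have h3 : ∀ ψ ∈ (lin P)ᶜ, Complex.normSq (ψ.1 y) = 0 := by
    have e : ∑ ψ ∈ (lin P)ᶜ, Complex.normSq (ψ.1 y) = 0 := by
      have : ((∑ ψ ∈ (lin P)ᶜ, Complex.normSq (ψ.1 y) : ℝ) : ℂ) = 0 := by
        rw [Complex.ofReal_sum, ← h1]
        exact Finset.sum_congr rfl fun ψ _ => (Complex.mul_conj _).symm
      exact_mod_cast this
    exact (Finset.sum_eq_zero_iff_of_nonneg fun ψ _ => Complex.normSq_nonneg _).1 e
  exact Complex.normSq_eq_zero.1 (h3 χ (Finset.mem_compl.2 hχ))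

theorem sum_lin {y : P} (hy : y ∉ center P) : ∑ χ ∈ lin P, χ.1 y = 0 := by
  classical
  have h1 := Char.sum_irr_degree_mul y
  rw [if_neg (fun e : y = 1 => hy (e ▸ one_mem _)), ← Finset.sum_add_sum_compl (lin P),
    Finset.sum_eq_zero (s := (lin P)ᶜ) (fun χ hχ => by
      rw [nonlin_zero h (Finset.mem_compl.1 hχ) hy, mul_zero]), add_zero] at h1
  rw [← h1]
  exact Finset.sum_congr rfl fun χ hχ => by rw [mem_lin.1 hχ, one_mul]

theorem center_apply {χ : IrrCharacter P} {z : P} (hz : z ∈ center P) :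
    χ.1 z = χ.1 1 ∨ χ.1 z = -χ.1 1 := by
  have h1 := BlocksX.apply_mul_central χ hz z
  rw [h.inv_center hz, BlocksX.centScalar] at h1
  have hd := Blocks.irr_one_ne_zero χ
  have h2 : χ.1 z * χ.1 z = χ.1 1 * χ.1 1 := by
    field_simp at h1
    linear_combination -h1
  exact mul_self_eq_mul_self_iff.1 h2

/-- Sum over the centre of a character which is not linear. -/
theorem nonlin_sum {χ : IrrCharacter P} (hχ : χ ∉ lin P) {z : P} (hz : z ∈ center P) (hz1 : z ≠ 1) :
    χ.1 1 + χ.1 z + χ.1 (σ z) + χ.1 (σ (σ z)) = 0 := by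
  classical
  have hne : χ ≠ Char.trivialChar P := fun e => hχ (mem_lin.2 (by rw [e, Char.trivialChar_apply]))
  have h1 := Char.sum_apply_eq_zero hne
  have hd1 : σ z ≠ z := fun e => hz1 (h.fpf _ e)
  have hd2 : σ (σ z) ≠ z := fun e => hd1 (by
    have := congrArg σ e
    rwa [h.three, eq_comm] at this)
  have hd3 : σ (σ z) ≠ σ z := fun e => hd1 (σ.injective e)
  have hn1 : σ z ≠ 1 := fun e => hz1 ((map_eq_one_iff σ σ.injective).1 e)
  have hn2 : σ (σ z) ≠ 1 := fun e => hn1 ((map_eq_one_iff σ σ.injective).1 e)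
  rw [← Finset.sum_subset (Finset.subset_univ ({1, z, σ z, σ (σ z)} : Finset P))
    (fun x _ hx => nonlin_zero h hχ fun hxc => hx (by
      simp only [Finset.mem_insert, Finset.mem_singleton]
      exact HigmanRankTwo.center_cases h hz hz1 hxc)),
    Finset.sum_insert (by simp [Ne.symm hz1, Ne.symm hn1, Ne.symm hn2]),
    Finset.sum_insert (by simp [Ne.symm hd1, Ne.symm hd2]),
    Finset.sum_pair (Ne.symm hd3)] at h1
  linear_combination h1

theorem nonlin_degree {χ : IrrCharacter P} (hχ : χ ∉ lin P) : χ.1 1 = 4 := by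
  classical
  have h1 := Char.sum_degree_sq (G := P)
  rw [h.card, ← Finset.sum_add_sum_compl (lin P)] at h1
  have h2 : ∑ ψ ∈ lin P, Char.degree ψ ^ 2 = 16 := by
    rw [Finset.sum_congr rfl (g := fun _ => 1) (fun ψ hψ => by
      have := mem_lin.1 hψ
      rw [Char.apply_one_eq_degree, Nat.cast_eq_one] at this
      rw [this, one_pow]), Finset.sum_const, card_lin h, smul_eq_mul]
  set d := Char.degree χ with hd
  have h3 : d ^ 2 ≤ 48 := by
    have := Finset.single_le_sum (f := fun ψ => Char.degree ψ ^ 2) (fun ψ _ => Nat.zero_le _)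
      (Finset.mem_compl.2 hχ)
    simp only [← hd] at this
    omega
  have hdd : d ∣ 64 := by
    have := Char.charDegree_dvd_card χ
    rwa [h.card, Char.charDegree_eq_degree] at this
  have hd1 : d ≠ 1 := fun e => hχ (mem_lin.2 (by rw [Char.apply_one_eq_degree, ← hd, e, Nat.cast_one]))
  have hd2 : d ≠ 2 := by
    intro e
    -- the norm: `χ` is supported on the centre
    have hn := Char.classInner_irr_self χ.2
    rw [classInner, h.card] at hn
    obtain ⟨y, hy⟩ := exists_not_center h
    have hsum : ∑ g : P, χ.1 g * conj (χ.1 g) = 16 := by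
      rw [← Finset.sum_filter_add_sum_filter_not Finset.univ (fun g => g ∈ center P)]
      rw [Finset.sum_congr rfl (g := fun _ => (4 : ℂ)) (fun g hg => by
          have h4 : χ.1 1 = 2 := by rw [Char.apply_one_eq_degree, ← hd, e, Nat.cast_ofNat]
          rcases center_apply h (χ := χ) (Finset.mem_filter.1 hg).2 with r | r <;>
            rw [r, h4] <;> norm_num [map_ofNat]),
        Finset.sum_eq_zero (s := Finset.univ.filter fun g => ¬ g ∈ center P) (fun g hg => by
          rw [nonlin_zero h hχ (Finset.mem_filter.1 hg).2, zero_mul]),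
        Finset.sum_const, add_zero, nsmul_eq_mul]
      rw [show (Finset.univ.filter fun g => g ∈ center P).card = 4 by
        rw [← h.card_center, Nat.card_eq_fintype_card, Fintype.card_subtype]]
      norm_num
    rw [hsum] at hn
    norm_num at hn
  rw [Char.apply_one_eq_degree, ← hd]
  have : d ≤ 6 := by nlinarith
  interval_cases d <;> first | omega | norm_num

/-- The shape of an invariant virtual character on the centre. -/
theorem exists_center_shape {φ : P → ℂ} (hφ : IsGeneralizedCharacter P φ)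
    (hσ : ∀ x, φ (σ x) = φ x) {z : P} (hz : z ∈ center P) (hz1 : z ≠ 1) :
    ∃ k : ℤ, φ 1 = ∑ χ ∈ lin P, classInner φ χ.1 + 12 * k ∧
      φ z = ∑ χ ∈ lin P, classInner φ χ.1 - 4 * k := by
  classical
  have hc : ∀ χ : IrrCharacter P, ∃ m : ℤ, classInner φ χ.1 = (m : ℂ) := fun χ =>
    Char.IsGeneralizedCharacter.exists_int_classInner hφ (Char.irr_isGeneralized χ)
  choose m hm using hc
  have hexp : ∀ x, φ x = ∑ χ ∈ lin P, (m χ : ℂ) * χ.1 x + ∑ χ ∈ (lin P)ᶜ, (m χ : ℂ) * χ.1 x := by
    intro x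
    have e := congrFun (Char.eq_sum_classInner_smul
      (Char.IsGeneralizedCharacter.isClassFunction hφ)) x
    rw [Finset.sum_apply, ← Finset.sum_add_sum_compl (lin P)] at e
    rw [e]
    simp [hm]
  have hL : ∀ w ∈ center P, ∑ χ ∈ lin P, (m χ : ℂ) * χ.1 w = ∑ χ ∈ lin P, classInner φ χ.1 :=
    fun w hw => Finset.sum_congr rfl fun χ hχ => by rw [lin_center h hχ hw, mul_one, hm]
  set L := ∑ χ ∈ lin P, classInner φ χ.1
  set N : ℤ := ∑ χ ∈ (lin P)ᶜ, m χ with hN
  have h1 : φ 1 = L + 4 * N := by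
    rw [hexp, hL 1 (one_mem _), hN]
    push_cast
    rw [Finset.mul_sum]
    congr 1
    exact Finset.sum_congr rfl fun χ hχ => by rw [nonlin_degree h (Finset.mem_compl.1 hχ)]; ring
  have hpm : ∀ χ : IrrCharacter P, ∃ e : ℤ, χ ∈ (lin P)ᶜ → χ.1 z = 4 - 8 * (e : ℂ) := by
    intro χ
    by_cases hχ : χ ∈ (lin P)ᶜ
    · rcases center_apply h (χ := χ) hz with r | r
      · exact ⟨0, fun _ => by rw [r, nonlin_degree h (Finset.mem_compl.1 hχ)]; simp⟩
      · exact ⟨1, fun _ => by rw [r, nonlin_degree h (Finset.mem_compl.1 hχ)]; norm_num⟩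
    · exact ⟨0, fun h' => absurd h' hχ⟩
  choose e he using hpm
  set J : ℤ := ∑ χ ∈ (lin P)ᶜ, m χ * e χ with hJ
  have h2 : φ z = L + 4 * N - 8 * J := by
    rw [hexp, hL z hz, hN, hJ]
    push_cast
    rw [Finset.mul_sum, Finset.mul_sum, add_sub_assoc, ← Finset.sum_sub_distrib]
    congr 1
    exact Finset.sum_congr rfl fun χ hχ => by rw [he χ hχ]; ring
  have h3 : φ z + φ z + φ z = L + L + L - 4 * N := by
    have hs : φ z + φ (σ z) + φ (σ (σ z)) = L + L + L - 4 * N := by
      rw [hexp z, hexp (σ z), hexp (σ (σ z)), hL z hz, hL _ (SylL34.Fpf.apply_mem_center σ hz),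
        hL _ (SylL34.Fpf.apply_mem_center σ (SylL34.Fpf.apply_mem_center σ hz)), hN]
      have : ∑ χ ∈ (lin P)ᶜ, ((m χ : ℂ) * χ.1 z + (m χ : ℂ) * χ.1 (σ z) + (m χ : ℂ) * χ.1 (σ (σ z))) =
          ∑ χ ∈ (lin P)ᶜ, -(4 * (m χ : ℂ)) := by
        refine Finset.sum_congr rfl fun χ hχ => ?_
        have e1 := nonlin_sum h (Finset.mem_compl.1 hχ) hz hz1
        rw [nonlin_degree h (Finset.mem_compl.1 hχ)] at e1
        linear_combination (m χ : ℂ) * e1
      rw [Finset.sum_add_distrib, Finset.sum_add_distrib, Finset.sum_neg_distrib,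
        ← Finset.mul_sum] at this
      push_cast
      linear_combination this
    rw [hσ (σ z), hσ z] at hs
    exact hs
  have h4 : 3 * J = 2 * N := by
    have : ((3 * J : ℤ) : ℂ) = ((2 * N : ℤ) : ℂ) := by
      push_cast
      linear_combination (-1 / 8 : ℂ) * h3 + (3 / 8 : ℂ) * h2
    exact_mod_cast this
  obtain ⟨k, hk⟩ : (3 : ℤ) ∣ N := by omega
  have hJk : J = 2 * k := by omega
  refine ⟨k, ?_, ?_⟩
  · rw [h1, hk]; push_cast; ring
  · rw [h2, hk, hJk]; push_cast; ring

end Cfsg.Agent.PiHom.Sylow64
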