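import Cfsg.Agent.Lib.PiHom.Group64
import Cfsg.Agent.Lib.ZStar.SectionAverage
import Cfsg.Agent.Lib.ZStar.SecondMain
import Cfsg.Agent.Lib.Char.Brauer
import Cfsg.Agent.Lib.Char.ClassSum
import Cfsg.Agent.Lib.PComplement.FixedPointFree
import Cfsg.Agent.Lib.Transfer.Residual

/-!
# Functions on the 2-sections of a group whose Sylow 2-subgroup has order 64
-/

set_option autoImplicit false
set_option linter.style.haveILetI false
set_option linter.unusedSectionVars false

namespace Cfsg.Agent.PiHom.Sylow64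

open Cfsg
open scoped ComplexConjugate

universe u

variable {G : Type u} [Group G] [Fintype G] {M : Ideal AlgInt}

/-- A Sylow 2-subgroup of order 64 whose fusion is given by a fixed-point-free automorphism of
order three, with 2-nilpotent centralisers and no inverted element of order four. -/
structure Data (P : Subgroup G) (σ : MulAut P) : Prop where
  fpf : SylL34.Fpf P σ
  mem_center_of_sq : ∀ x : P, x * x = 1 → x ∈ Subgroup.center P
  isConj_apply : ∀ x : P, IsConj (x : G) (σ x : G)
  fusion : ∀ x y : P, IsConj (x : G) (y : G) →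
    ∃ c : P, y = c * x * c⁻¹ ∨ y = σ (c * x * c⁻¹) ∨ y = σ (σ (c * x * c⁻¹))
  sylow : ∀ S : Subgroup G, IsPGroup 2 S → ∃ c : G, ∀ s ∈ S, c * s * c⁻¹ ∈ P
  compl : ∀ x : P, x ≠ 1 → ∃ N : Subgroup G,
    (∀ v, v ∈ N ↔ Commute (x : G) v ∧ Odd (orderOf v)) ∧
      Nat.card (Subgroup.centralizer ({(x : G)} : Set G)) =
        Nat.card (Subgroup.centralizer ({x} : Set P)) * Nat.card N
  no_invert : ∀ (x : P) (t : G), t * t = 1 → t * x * t⁻¹ = (x : G)⁻¹ → x * x = 1

/-- Invariant functions on `P`. -/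
structure Inv {P : Subgroup G} (σ : MulAut P) (f : P → ℂ) : Prop where
  apply : ∀ x, f (σ x) = f x
  conjP : ∀ c x : P, f (c * x * c⁻¹) = f x

theorem inv_of_classFun {P : Subgroup G} {σ : MulAut P} (h : ∀ x : P, IsConj (x : G) (σ x : G))
    {φ : G → ℂ} (hφ : IsClassFunction G φ) : Inv σ (fun x : P => φ (x : G)) := by
  refine ⟨fun x => ?_, fun c x => ?_⟩
  · obtain ⟨g, hg⟩ := isConj_iff.mp (h x)
    show φ (σ x : G) = φ x
    rw [← hg, hφ]
  · show φ ((c : G) * x * (c : G)⁻¹) = φ x
    rw [hφ]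

namespace Data

variable {P : Subgroup G} {σ : MulAut P} (h : Data P σ)
include h

theorem two_pow (x : P) : ∃ k : ℕ, orderOf (x : G) = 2 ^ k := by
  obtain ⟨i, -, hi⟩ := (Nat.dvd_prime_pow Nat.prime_two).mp
    (show orderOf x ∣ 2 ^ 6 by rw [show 2 ^ 6 = Nat.card P by rw [h.fpf.card]; norm_num]; exact orderOf_dvd_natCard x)
  exact ⟨i, by rw [Subgroup.orderOf_coe, hi]⟩

theorem isConj_conj (c x : P) : IsConj (x : G) ((c * x * c⁻¹ : P) : G) :=
  isConj_iff.mpr ⟨c, by simp⟩

theorem exists_pick (g : G) : ∃ x : P, ∃ s, IsPPart 2 g s ∧ IsConj s (x : G) := by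
  haveI : Fact (Nat.Prime 2) := ⟨Nat.prime_two⟩
  obtain ⟨s, hs⟩ := Blocks.exists_isPPart (p := 2) g
  obtain ⟨-, -, -, ⟨k, hk⟩, -⟩ := id hs
  obtain ⟨c, hc⟩ := h.sylow (Subgroup.zpowers s)
    (IsPGroup.of_card (n := k) (by rw [Nat.card_zpowers, hk]))
  exact ⟨⟨_, hc s (Subgroup.mem_zpowers s)⟩, s, hs, isConj_iff.mpr ⟨c, rfl⟩⟩

/-- A representative in `P` of the 2-part. -/
noncomputable def pick (g : G) : P := (h.exists_pick g).choose

theorem apply_pick {f : P → ℂ} (hf : Inv σ f) {g s : G} (hs : IsPPart 2 g s)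
    {x : P} (hx : IsConj s (x : G)) : f (h.pick g) = f x := by
  haveI : Fact (Nat.Prime 2) := ⟨Nat.prime_two⟩
  obtain ⟨s', hs', hx'⟩ := (h.exists_pick g).choose_spec
  obtain rfl := Blocks.IsPPart.unique hs hs'
  obtain ⟨c, e | e | e⟩ := h.fusion _ _ (hx.symm.trans hx')
  · rw [pick, e, hf.conjP]
  · rw [pick, e, hf.apply, hf.conjP]
  · rw [pick, e, hf.apply, hf.apply, hf.conjP]

/-- The function with value `f x` on the section of `x`. -/
noncomputable def lift (f : P → ℂ) : G → ℂ := fun g => f (h.pick g)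

theorem isClassFunction_lift {f : P → ℂ} (hf : Inv σ f) : IsClassFunction G (h.lift f) := by
  intro g c
  obtain ⟨s, hs, hx⟩ := (h.exists_pick g).choose_spec
  exact h.apply_pick hf (Blocks.IsPPart.conj hs c)
    ((isConj_iff.mpr ⟨c, rfl⟩ : IsConj s _).symm.trans hx)

theorem lift_one {f : P → ℂ} (hf : Inv σ f) (hf1 : f 1 = 0) : h.lift f 1 = 0 := by
  have h1 : IsPPart 2 (1 : G) 1 := ⟨1, one_mul 1, Commute.one_left _, ⟨0, by simp⟩, by simp⟩
  rw [lift, h.apply_pick hf h1 (x := 1) (IsConj.refl _), hf1]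

theorem lift_mul {f : P → ℂ} (hf : Inv σ f) (x : P) {v : G} (hv : Commute (x : G) v)
    (hodd : Odd (orderOf v)) : h.lift f ((x : G) * v) = f x := by
  haveI : Fact (Nat.Prime 2) := ⟨Nat.prime_two⟩
  exact h.apply_pick hf (Blocks.isPPart_mul hv (h.two_pow x) (ZStar.not_two_dvd_iff_odd.mpr hodd))
    (IsConj.refl _)

/-- The fused elements of `P`, weighted by their centralisers. -/
theorem sum_fused {x : P} (hx : x ≠ 1) [Fintype P] [DecidablePred fun y : P => IsConj (x : G) (y : G)] :
    ∑ y ∈ Finset.univ.filter (fun y : P => IsConj (x : G) (y : G)),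
      (Nat.card (Subgroup.centralizer ({y} : Set P)) : ℂ) = 192 := by
  classical
  have hd1 : σ x ≠ x := fun e => hx (h.fpf.fpf _ e)
  have hd2 : σ (σ x) ≠ x := fun e => hd1 (by
    have := congrArg σ e
    rwa [h.fpf.three, eq_comm] at this)
  have hd3 : σ (σ x) ≠ σ x := fun e => hd1 (σ.injective e)
  have hfuse : ∀ y : P, IsConj (x : G) (y : G) ↔
      ∃ c : P, y = c * x * c⁻¹ ∨ y = σ (c * x * c⁻¹) ∨ y = σ (σ (c * x * c⁻¹)) := by
    refine fun y => ⟨h.fusion x y, ?_⟩
    rintro ⟨c, rfl | rfl | rfl⟩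
    · exact h.isConj_conj c x
    · exact (h.isConj_conj c x).trans (h.isConj_apply _)
    · exact ((h.isConj_conj c x).trans (h.isConj_apply _)).trans (h.isConj_apply _)
  by_cases hxc : x ∈ Subgroup.center P
  · have hcc : ∀ c : P, c * x * c⁻¹ = x := fun c => by
      rw [Subgroup.mem_center_iff.1 hxc c, mul_inv_cancel_right]
    have hF : Finset.univ.filter (fun y : P => IsConj (x : G) (y : G)) =
        ({x, σ x, σ (σ x)} : Finset P) := by
      ext y
      simp only [Finset.mem_filter, Finset.mem_univ, true_and, Finset.mem_insert,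
        Finset.mem_singleton, hfuse, hcc]
      exact ⟨fun ⟨_, hy⟩ => hy, fun hy => ⟨1, hy⟩⟩
    have h64 : ∀ y : P, y ∈ Subgroup.center P →
        Nat.card (Subgroup.centralizer ({y} : Set P)) = 64 := fun y hy => by
      rw [show Subgroup.centralizer ({y} : Set P) = ⊤ from eq_top_iff.2 fun g _ =>
        Subgroup.mem_centralizer_singleton_iff.2 (Subgroup.mem_center_iff.1 hy g), Subgroup.card_top,
        h.fpf.card]
    have h1 := SylL34.Fpf.apply_mem_center σ hxc
    rw [hF, Finset.sum_insert (by simp [Ne.symm hd1, Ne.symm hd2]), Finset.sum_pair (Ne.symm hd3),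
      h64 x hxc, h64 _ h1, h64 _ (SylL34.Fpf.apply_mem_center σ h1)]
    norm_num
  · have hout : ∀ y : P, y ∉ Subgroup.center P → σ y ∉ Subgroup.center P := fun y hy hσy => hy (by
      have := SylL34.Fpf.apply_mem_center σ (SylL34.Fpf.apply_mem_center σ hσy)
      rwa [h.fpf.three] at this)
    haveI : Fintype (Subgroup.center P) := Fintype.ofFinite _
    let E : Finset P := Finset.univ.image fun z : Subgroup.center P => x * z
    let F : Finset P := E ∪ E.image σ ∪ E.image (fun y => σ (σ y))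
    have hEc : E.card = 4 := by
      rw [Finset.card_image_of_injective _ fun a b e => Subtype.ext (mul_left_cancel e),
        Finset.card_univ, ← Nat.card_eq_fintype_card, h.fpf.card_center]
    have hmemE : ∀ y, y ∈ E ↔ ∃ c : P, y = c * x * c⁻¹ := by
      intro y
      simp only [E, Finset.mem_image, Finset.mem_univ, true_and]
      constructor
      · rintro ⟨z, rfl⟩
        obtain ⟨c, hc⟩ := exists_conj_eq h.fpf hxc z.2
        exact ⟨c, hc.symm⟩
      · rintro ⟨c, rfl⟩
        refine ⟨⟨x⁻¹ * (c * x * c⁻¹), ?_⟩, by simp⟩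
        simpa [commutatorElement_def, mul_assoc] using h.fpf.comm_mem_center x⁻¹ c
    have hEout : ∀ y ∈ E, y ∉ Subgroup.center P := by
      intro y hy hyc
      simp only [E, Finset.mem_image, Finset.mem_univ, true_and] at hy
      obtain ⟨z, rfl⟩ := hy
      exact hxc (by simpa using mul_mem hyc (inv_mem z.2))
    have hσE : ∀ a ∈ E, ∀ b ∈ E, σ a ≠ b ∧ σ (σ a) ≠ b := by
      intro a ha b hb
      have hab : a⁻¹ * b ∈ Subgroup.center P := by
        simp only [E, Finset.mem_image, Finset.mem_univ, true_and] at ha hb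
        obtain ⟨z, rfl⟩ := ha
        obtain ⟨w, rfl⟩ := hb
        rw [mul_inv_rev, mul_assoc, inv_mul_cancel_left]
        exact mul_mem (inv_mem z.2) w.2
      refine ⟨fun e => hEout a ha ?_, fun e => hEout a ha ?_⟩
      · exact SylL34.fpf_quotient h.fpf.fpf (Subgroup.center P)
          (fun _ hz => SylL34.Fpf.apply_mem_center σ hz) (by rw [e]; exact hab)
      · refine SylL34.fpf_quotient h.fpf.fpf (Subgroup.center P)
          (fun _ hz => SylL34.Fpf.apply_mem_center σ hz) ?_
        have h2 : σ (a⁻¹ * σ (σ a)) ∈ Subgroup.center P :=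
          SylL34.Fpf.apply_mem_center σ (by rw [e]; exact hab)
        rw [map_mul, map_inv, h.fpf.three] at h2
        simpa using inv_mem h2
    have hF : Finset.univ.filter (fun y : P => IsConj (x : G) (y : G)) = F := by
      ext y
      simp only [F, Finset.mem_filter, Finset.mem_univ, true_and, Finset.mem_union, Finset.mem_image,
        hfuse, hmemE]
      constructor
      · rintro ⟨c, rfl | rfl | rfl⟩
        · exact Or.inl (Or.inl ⟨c, rfl⟩)
        · exact Or.inl (Or.inr ⟨_, ⟨c, rfl⟩, rfl⟩)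
        · exact Or.inr ⟨_, ⟨c, rfl⟩, rfl⟩
      · rintro ((⟨c, rfl⟩ | ⟨_, ⟨c, rfl⟩, rfl⟩) | ⟨_, ⟨c, rfl⟩, rfl⟩)
        · exact ⟨c, Or.inl rfl⟩
        · exact ⟨c, Or.inr (Or.inl rfl)⟩
        · exact ⟨c, Or.inr (Or.inr rfl)⟩
    have hFc : F.card = 12 := by
      have i2 : Function.Injective fun y : P => σ (σ y) := fun a b e => σ.injective (σ.injective e)
      rw [Finset.card_union_of_disjoint, Finset.card_union_of_disjoint,
        Finset.card_image_of_injective _ σ.injective, Finset.card_image_of_injective _ i2, hEc]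
      · rw [Finset.disjoint_left]
        intro y hy hy'
        obtain ⟨a, ha, rfl⟩ := Finset.mem_image.1 hy'
        exact (hσE a ha _ hy).1 rfl
      · rw [Finset.disjoint_left]
        intro y hy hy'
        obtain ⟨a, ha, rfl⟩ := Finset.mem_image.1 hy'
        rcases Finset.mem_union.1 hy with h1 | h1
        · exact (hσE a ha _ h1).2 rfl
        · obtain ⟨b, hb, e⟩ := Finset.mem_image.1 h1
          exact (hσE a ha b hb).1 (σ.injective e).symm
    have h16 : ∀ y ∈ F, Nat.card (Subgroup.centralizer ({y} : Set P)) = 16 := by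
      intro y hy
      refine card_centralizer h.fpf ?_
      simp only [F, Finset.mem_union, Finset.mem_image] at hy
      rcases hy with (h1 | ⟨a, ha, rfl⟩) | ⟨a, ha, rfl⟩
      · exact hEout y h1
      · exact hout a (hEout a ha)
      · exact hout _ (hout a (hEout a ha))
    rw [hF, Finset.sum_congr rfl (g := fun _ => (16 : ℂ)) (fun y hy => by rw [h16 y hy]; norm_num),
      Finset.sum_const, hFc, nsmul_eq_mul]
    norm_num

open Classical in
/-- Sums against a lift split over the sections. -/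
theorem sum_mul_lift {f : P → ℂ} (hf : Inv σ f) (hf1 : f 1 = 0) (Φ : G → ℂ) [Fintype P] :
    192 * ∑ g, Φ g * h.lift f g = ∑ x ∈ Finset.univ.filter (fun x : P => x ≠ 1),
      (Nat.card (Subgroup.centralizer ({x} : Set P)) : ℂ) * f x *
        ∑ g ∈ ZStar.twoSection (x : G), Φ g := by
  haveI : Fact (Nat.Prime 2) := ⟨Nat.prime_two⟩
  have e : ∀ x : P, ∑ g ∈ ZStar.twoSection (x : G), Φ g =
      ∑ g, if g ∈ ZStar.twoSection (x : G) then Φ g else 0 := fun x => by
    rw [Finset.sum_ite_mem, Finset.univ_inter]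
  simp only [e, Finset.mul_sum, mul_ite, mul_zero]
  rw [Finset.sum_comm]
  refine Finset.sum_congr rfl fun g _ => ?_
  obtain ⟨s, hs, hx⟩ := (h.exists_pick g).choose_spec
  rw [← Finset.sum_filter, Finset.filter_filter]
  have hmem : ∀ y : P, g ∈ ZStar.twoSection (y : G) ↔ IsConj (h.pick g : G) (y : G) := by
    intro y
    rw [ZStar.mem_twoSection]
    constructor
    · rintro ⟨s', hy, hs'⟩
      obtain rfl := Blocks.IsPPart.unique hs hs'
      exact hx.symm.trans hy.symm
    · exact fun hy => ⟨s, hy.symm.trans hx.symm, hs⟩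
  by_cases hp : h.pick g = 1
  · rw [Finset.sum_eq_zero]
    · simp [lift, hp, hf1]
    · intro y hy
      obtain ⟨hy1, hy2⟩ := (Finset.mem_filter.mp hy).2
      rw [hmem, hp, Subgroup.coe_one] at hy2
      exact absurd (Subtype.ext (isConj_one_right.1 hy2)) hy1
  · have hF : (Finset.univ.filter fun y : P => y ≠ 1 ∧ g ∈ ZStar.twoSection (y : G)) =
        Finset.univ.filter fun y : P => IsConj (h.pick g : G) (y : G) := by
      ext y
      simp only [Finset.mem_filter, Finset.mem_univ, true_and, hmem]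
      refine ⟨fun hy => hy.2, fun hy => ⟨fun e1 => hp ?_, hy⟩⟩
      rw [e1, Subgroup.coe_one] at hy
      exact Subtype.ext (isConj_one_left.1 hy)
    rw [hF, Finset.sum_congr rfl (g := fun y : P =>
      (Nat.card (Subgroup.centralizer ({y} : Set P)) : ℂ) * (Φ g * h.lift f g)) (fun y hy => by
      have hval : f y = h.lift f g := (h.apply_pick hf hs (hx.trans (Finset.mem_filter.1 hy).2)).symm
      rw [hval]; ring), ← Finset.sum_mul, h.sum_fused hp]

/-- The sum over a section. -/
theorem sum_section {x : P} (hx : x ≠ 1) {Φ : G → ℂ} (hΦ : IsClassFunction G Φ) {c : ℂ}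
    (hc : ∑ v ∈ ZStar.oddCentralizing (x : G), Φ ((x : G) * v) =
      ((ZStar.oddCentralizing (x : G)).card : ℂ) * c) :
    (Nat.card (Subgroup.centralizer ({x} : Set P)) : ℂ) * ∑ g ∈ ZStar.twoSection (x : G), Φ g =
      (Nat.card G : ℂ) * c := by
  classical
  obtain ⟨N, hN, hcard⟩ := h.compl x hx
  have hn : (ZStar.oddCentralizing (x : G)).card = Nat.card N := by
    rw [Nat.card_eq_fintype_card]
    exact (Fintype.card_of_subtype _ fun v => by rw [ZStar.mem_oddCentralizing, hN]).symm
  have h2 := Subgroup.card_mul_index (Subgroup.centralizer ({(x : G)} : Set G))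
  rw [hcard] at h2
  rw [ZStar.sum_twoSection (h.two_pow x) hΦ, hc, hn, ← h2]
  push_cast
  ring

theorem classInner_lift_eq {f : P → ℂ} (hf : Inv σ f) (hf1 : f 1 = 0) {Φ : G → ℂ}
    (hΦ : IsClassFunction G Φ) (φ : P → ℂ) [Fintype P]
    (hc : ∀ x : P, x ≠ 1 → f x ≠ 0 → ∑ v ∈ ZStar.oddCentralizing (x : G), Φ ((x : G) * v) =
      ((ZStar.oddCentralizing (x : G)).card : ℂ) * φ x) :
    classInner Φ (h.lift f) = 3⁻¹ * classInner φ f := by
  classical
  have key := h.sum_mul_lift (f := fun x => conj (f x))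
    ⟨fun x => by simp only [hf.apply], fun c x => by simp only [hf.conjP]⟩ (by simp [hf1]) Φ
  rw [Finset.sum_congr rfl (g := fun x : P => (Nat.card G : ℂ) * (φ x * conj (f x))) (fun x hx => by
      by_cases h0 : f x = 0
      · simp [h0]
      rw [mul_right_comm, h.sum_section (Finset.mem_filter.mp hx).2 hΦ
        (hc x (Finset.mem_filter.mp hx).2 h0)]
      ring), ← Finset.mul_sum] at key
  rw [Finset.sum_filter_of_ne (p := fun x : P => x ≠ 1)
    (fun x _ hx h1 => hx (by rw [h1, hf1, map_zero, mul_zero]))] at key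
  have e : ∑ g, Φ g * h.lift (fun x => conj (f x)) g = ∑ g, Φ g * conj (h.lift f g) := rfl
  rw [e] at key
  rw [classInner, classInner, h.fpf.card]
  have hG : (Nat.card G : ℂ) ≠ 0 := Char.card_ne_zero
  field_simp
  linear_combination key

/-- The lift is an isometry up to the factor three. -/
theorem classInner_lift_lift {f f' : P → ℂ} (hf : Inv σ f) (hf1 : f 1 = 0) (hf' : Inv σ f')
    [Fintype P] : classInner (h.lift f') (h.lift f) = 3⁻¹ * classInner f' f :=
  h.classInner_lift_eq hf hf1 (h.isClassFunction_lift hf') f' fun x _ _ => by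
    rw [Finset.sum_congr rfl (g := fun _ => f' x) (fun v hv => by
      obtain ⟨hv1, hv2⟩ := ZStar.mem_oddCentralizing.mp hv
      exact h.lift_mul hf' x hv1 hv2), Finset.sum_const, nsmul_eq_mul]

/-- Inner products with irreducible characters. -/
theorem classInner_irr_lift (hM : IsPModular 2 M) {f : P → ℂ} (hf : Inv σ f) (hf1 : f 1 = 0)
    (χ : IrrCharacter G) [Fintype P] :
    (χ ∈ principalBlock M G →
        classInner χ.1 (h.lift f) = 3⁻¹ * classInner (fun x : P => χ.1 (x : G)) f) ∧
      (χ ∉ principalBlock M G → classInner χ.1 (h.lift f) = 0) := by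
  refine ⟨fun hχ => h.classInner_lift_eq hf hf1 (Blocks.irr_classFun χ) _ fun x hx _ => ?_,
    fun hχ => ?_⟩
  · obtain ⟨N, hN, -⟩ := h.compl x hx
    exact (ZStar.sum_oddCentralizing_apply ZStar.secondPrincipal hM (h.two_pow x) hN χ).1 hχ
  · rw [h.classInner_lift_eq hf hf1 (Blocks.irr_classFun χ) 0 fun x hx _ => ?_]
    · simp [classInner]
    · obtain ⟨N, hN, -⟩ := h.compl x hx
      rw [(ZStar.sum_oddCentralizing_apply ZStar.secondPrincipal hM (h.two_pow x) hN χ).2 hχ,
        Pi.zero_apply, mul_zero]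

/-- The lift of a generalized character is a generalized character. -/
theorem isGeneralized_lift {f : P → ℂ} (hf : Inv σ f) (hgen : IsGeneralizedCharacter P f) :
    IsGeneralizedCharacter G (h.lift f) := by
  classical
  haveI : Fact (Nat.Prime 2) := ⟨Nat.prime_two⟩
  refine Char.isGeneralizedCharacter_of_elementary (h.isClassFunction_lift hf) fun E p hp hE => ?_
  haveI : Group.IsNilpotent E := Char.IsElementary.isNilpotent hp hE
  obtain ⟨S, N, hN, hc⟩ := PComplement.hasNormalPComplement_of_isNilpotent (G := E) (p := 2)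
  haveI := hN
  haveI : (S : Subgroup E).Normal :=
    S.normal_of_normalizerCondition Group.normalizerCondition_of_isNilpotent
  obtain ⟨c, hcS⟩ := h.sylow ((S : Subgroup E).map E.subtype) (S.2.map _)
  let π : E →* (S : Subgroup E) :=
    (hc.symm.QuotientMulEquiv).toMonoidHom.comp (QuotientGroup.mk' N)
  let ψ : E →* P :=
    { toFun := fun e => ⟨c * ((π e : E) : G) * c⁻¹, hcS _ ⟨_, (π e).2, rfl⟩⟩
      map_one' := Subtype.ext (by simp)
      map_mul' := fun a b => Subtype.ext (by simp [mul_assoc]) }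
  have e : (fun x : E => h.lift f x) = f ∘ ψ := by
    funext x
    have hπS : ∀ s : (S : Subgroup E), π (s : E) = s := by
      intro s
      show hc.symm.QuotientMulEquiv _ = s
      apply hc.symm.QuotientMulEquiv.symm.injective
      rw [MulEquiv.symm_apply_apply]
      rfl
    set n : E := (π x : E)⁻¹ * x with hn
    have hnN : n ∈ N := by
      have h1 : π n = 1 := by rw [hn, map_mul, map_inv, hπS, inv_mul_cancel]
      have h2 : hc.symm.QuotientMulEquiv (QuotientGroup.mk' N n) = 1 := h1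
      rw [MulEquiv.map_eq_one_iff] at h2
      exact (QuotientGroup.eq_one_iff n).mp h2
    have hcomm : Commute (π x : E) n :=
      Subgroup.commute_of_normal_of_disjoint _ _ ‹(S : Subgroup E).Normal› hN hc.disjoint.symm _ _
        (π x).2 hnN
    obtain ⟨k, hk⟩ := IsPGroup.iff_orderOf.mp S.2 (π x)
    have hodd : ¬ 2 ∣ orderOf n := (Nat.Prime.coprime_iff_not_dvd Nat.prime_two).mp
      ((Transfer.coprime_card_of_isComplement'_sylow S hc).coprime_dvd_left
        (Subgroup.orderOf_dvd_natCard N hnN)).symm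
    have hpart : IsPPart 2 (x : G) ((π x : E) : G) :=
      ⟨(n : G), by simp [hn], congrArg Subtype.val hcomm.eq,
        ⟨k, by rw [Subgroup.orderOf_coe, Subgroup.orderOf_coe, hk]⟩,
        by rwa [Subgroup.orderOf_coe]⟩
    exact h.apply_pick hf hpart (isConj_iff.mpr ⟨c, rfl⟩)
  rw [e]
  exact Char.IsGeneralizedCharacter.comp hgen ψ

/-- An element of order four is no product of two conjugates of an involution. -/
theorem no_product {x t : P} (hx : x * x ≠ 1) (ht : t * t = 1) {v : G} (hcv : Commute (x : G) v)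
    (hov : Odd (orderOf v)) (p q : G) :
    p * t * p⁻¹ * (q * t * q⁻¹) ≠ ((x : G) * v)⁻¹ := by
  haveI : Fact (Nat.Prime 2) := ⟨Nat.prime_two⟩
  intro hp
  have htG : (t : G) * t = 1 := by exact_mod_cast ht
  set a := p * (t : G) * p⁻¹ with ha
  set b := q * (t : G) * q⁻¹ with hb
  have ha2 : a * a = 1 := by
    calc a * a = p * ((t : G) * t) * p⁻¹ := by rw [ha]; group
      _ = 1 := by rw [htG]; group
  have hb2 : b * b = 1 := by
    calc b * b = q * ((t : G) * t) * q⁻¹ := by rw [hb]; group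
      _ = 1 := by rw [htG]; group
  have hai : a⁻¹ = a := inv_eq_of_mul_eq_one_right ha2
  have hbi : b⁻¹ = b := inv_eq_of_mul_eq_one_right hb2
  have hxv : (x : G) * v = b * a := by
    rw [← inv_inv ((x : G) * v), ← hp, mul_inv_rev, hai, hbi]
  have hconj : a * ((x : G) * v) * a⁻¹ = ((x : G) * v)⁻¹ := by
    rw [hxv, hai, mul_inv_rev b a, hai, hbi]
    calc a * (b * a) * a = a * b * (a * a) := by simp only [mul_assoc]
      _ = a * b := by rw [ha2, mul_one]
  have h1 := Blocks.IsPPart.conj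
    (Blocks.isPPart_mul hcv (h.two_pow x) (ZStar.not_two_dvd_iff_odd.mpr hov)) a
  rw [hconj] at h1
  have h2 : IsPPart 2 ((x : G) * v)⁻¹ ((x⁻¹ : P) : G) := by
    refine ⟨v⁻¹, ?_, ?_, h.two_pow x⁻¹, ?_⟩
    · rw [Subgroup.coe_inv, ← mul_inv_rev, hcv.eq]
    · rw [Subgroup.coe_inv]; exact hcv.inv_inv
    · rw [orderOf_inv]; exact ZStar.not_two_dvd_iff_odd.mpr hov
  have h3 := Blocks.IsPPart.unique h1 h2
  exact hx (h.no_invert x a ha2 (by rw [h3, Subgroup.coe_inv]))

open Classical in
/-- The class multiplication relation, restricted to the principal block. -/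
theorem structure_sum (hM : IsPModular 2 M) {x t : P} (hx : x * x ≠ 1) (ht : t * t = 1) :
    ∑ χ ∈ Finset.univ.filter (· ∈ principalBlock M G),
      χ.1 (t : G) * χ.1 (t : G) / χ.1 1 * χ.1 (x : G) = 0 := by
  have hxne : x ≠ 1 := fun e => hx (by rw [e, one_mul])
  have hzero : ∑ v ∈ ZStar.oddCentralizing (x : G),
      ∑ χ : IrrCharacter G, χ.1 (t : G) * χ.1 (t : G) / χ.1 1 * χ.1 ((x : G) * v) = 0 := by
    refine Finset.sum_eq_zero fun v hv => ?_
    obtain ⟨hcv, hov⟩ := ZStar.mem_oddCentralizing.mp hv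
    have e := Char.card_conj_mul_conj_eq (t : G) (t : G) (((x : G) * v)⁻¹)
    haveI : IsEmpty {p : G × G //
        p.1 * (t : G) * p.1⁻¹ * (p.2 * (t : G) * p.2⁻¹) = ((x : G) * v)⁻¹} :=
      ⟨fun p => h.no_product hx ht hcv hov _ _ p.2⟩
    rw [Nat.card_of_isEmpty, Nat.cast_zero] at e
    rcases mul_eq_zero.mp e.symm with r | r
    · exact absurd r Char.card_ne_zero
    · rw [← r]
      exact Finset.sum_congr rfl fun χ _ => by rw [inv_inv]; ring
  obtain ⟨N, hN, -⟩ := h.compl x hxne
  have hn0 : ((ZStar.oddCentralizing (x : G)).card : ℂ) ≠ 0 :=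
    Nat.cast_ne_zero.mpr (Finset.card_pos.mpr ⟨1, ZStar.mem_oddCentralizing.mpr
      ⟨Commute.one_right _, by rw [orderOf_one]; decide⟩⟩).ne'
  rw [Finset.sum_comm, Finset.sum_congr rfl
    (g := fun χ : IrrCharacter G => if χ ∈ principalBlock M G then
      ((ZStar.oddCentralizing (x : G)).card : ℂ) *
        (χ.1 (t : G) * χ.1 (t : G) / χ.1 1 * χ.1 (x : G)) else 0) (fun χ _ => by
      obtain ⟨e1, e2⟩ :=
        ZStar.sum_oddCentralizing_apply ZStar.secondPrincipal hM (h.two_pow x) hN χ
      rw [← Finset.mul_sum]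
      split_ifs with hχ
      · rw [e1 hχ]; ring
      · rw [e2 hχ, mul_zero]), ← Finset.sum_filter, ← Finset.mul_sum] at hzero
  exact (mul_eq_zero.mp hzero).resolve_left hn0

end Data

end Cfsg.Agent.PiHom.Sylow64
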