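import Cfsg.Agent.Lib.PiHom.Uniform
import Cfsg.Agent.Lib.HigmanRankTwo.Structure
import Cfsg.Agent.Lib.ZStar.Homocyclic

/-!
# A minimal counterexample: the Sylow 2-subgroup has three involutions

It is a four-group or of order 64 with a fixed-point-free automorphism of order three.
-/

set_option autoImplicit false
set_option linter.style.haveILetI false
set_option linter.unusedSectionVars false

namespace Cfsg.Agent.PiHom

open Subgroup

variable {π : Set ℕ}

/-- Conjugation by an element of the normaliser, as an automorphism. -/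
def conjSylow {G : Type*} [Group G] (S : Subgroup G) (n : G) (hn : n ∈ normalizer (S : Set G)) :
    MulAut S where
  toFun x := ⟨n * x * n⁻¹, (mem_normalizer_iff.1 hn x).1 x.2⟩
  invFun x := ⟨n⁻¹ * x * n, (mem_normalizer_iff''.1 hn x).1 x.2⟩
  left_inv x := Subtype.ext (by show n⁻¹ * (n * x * n⁻¹) * n = x; group)
  right_inv x := Subtype.ext (by show n * (n⁻¹ * x * n) * n⁻¹ = x; group)
  map_mul' x y := Subtype.ext (by
    show n * ((x : G) * y) * n⁻¹ = n * x * n⁻¹ * (n * y * n⁻¹)
    group)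

theorem coe_conjSylow {G : Type*} [Group G] (S : Subgroup G) (n : G)
    (hn : n ∈ normalizer (S : Set G)) (x : S) : (conjSylow S n hn x : G) = n * x * n⁻¹ := rfl

theorem conjSylow_pow {G : Type*} [Group G] (S : Subgroup G) (n : G)
    (hn : n ∈ normalizer (S : Set G)) (k : ℕ) (x : S) :
    (((conjSylow S n hn) ^ k) x : G) = n ^ k * x * (n ^ k)⁻¹ := by
  induction k generalizing x with
  | zero => simp
  | succ k ih =>
    rw [pow_succ, MulAut.mul_apply, ih, coe_conjSylow, pow_succ]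
    group

namespace Min

variable {G : Type*} [Group G] [Finite G] (hM : Min π G) (S : Sylow 2 G)
include hM

theorem card_omegaZ : Nat.card (omegaZ (S : Subgroup G)) = 4 := by
  haveI : Fact (Nat.Prime 2) := ⟨Nat.prime_two⟩
  obtain ⟨n, hn⟩ := IsPGroup.iff_card.1 (hM.isPGroup_omegaZ S)
  have h1 := hM.two_lt_card_omegaZ S
  have h2 := hM.no_eight (S := S) (omegaZ_le _) (fun a ha b hb => hb.2.1 a ha.1) (fun a ha => ha.2.2)
  rw [hn] at h1 h2
  have h3 : n < 3 := by
    by_contra h
    have := Nat.pow_le_pow_right (by norm_num : 0 < 2) (not_lt.1 h)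
    omega
  interval_cases n <;> simp_all

theorem mem_omegaZ_of_sq {s : G} (hs : s ∈ (S : Subgroup G)) (h2 : s * s = 1) :
    s ∈ omegaZ (S : Subgroup G) := by
  by_contra hsZ
  set Z := omegaZ (S : Subgroup G) with hZ
  have hs1 : s ≠ 1 := fun e => hsZ (e ▸ one_mem Z)
  have hso : orderOf s = 2 := orderOf_eq_prime (by rw [pow_two]; exact h2) hs1
  have hn : zpowers s ≤ normalizer (Z : Set G) := zpowers_le.2 (mem_normalizer_of_forall fun z hz => by
    rw [hz.2.1 s hs, mul_inv_cancel_right]; exact hz)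
  have hd : zpowers s ⊓ Z = ⊥ := by
    refine (Subgroup.eq_bot_iff_forall _).2 fun x hx => ?_
    obtain ⟨k, rfl⟩ := mem_zpowers_iff.1 hx.1
    rcases Int.even_or_odd k with ⟨j, rfl⟩ | ⟨j, rfl⟩
    · rw [← two_mul, zpow_mul, zpow_two, h2, one_zpow]
    · exfalso
      refine hsZ ?_
      have := hx.2
      rwa [zpow_add, zpow_mul, zpow_two, h2, one_zpow, one_mul, zpow_one] at this
  have hcard : Nat.card (zpowers s ⊔ Z : Subgroup G) = 8 := by
    rw [Coprime.card_sup_of_le_normalizer hn hd, hM.card_omegaZ S, Nat.card_zpowers, hso]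
  have hle : zpowers s ⊔ Z ≤ (S : Subgroup G) := sup_le (zpowers_le.2 hs) (omegaZ_le _)
  have hmem : ∀ x ∈ zpowers s ⊔ Z, ∃ k : ℤ, ∃ z ∈ Z, s ^ k * z = x := fun x hx => by
    obtain ⟨a, ha, z, hz, e⟩ := (Coprime.mem_sup_iff_of_le_normalizer hn).1 hx
    obtain ⟨k, rfl⟩ := mem_zpowers_iff.1 ha
    exact ⟨k, z, hz, e⟩
  have hsz : ∀ (k : ℤ) (z : G), z ∈ Z → Commute (s ^ k) z := fun k z hz =>
    (show Commute s z from hz.2.1 s hs).zpow_left k
  refine (hM.no_eight hle (fun x hx y hy => ?_) (fun x hx => ?_)).ne hcard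
  · obtain ⟨k, z, hz, rfl⟩ := hmem x hx
    obtain ⟨l, w, hw, rfl⟩ := hmem y hy
    exact ((((Commute.refl s).zpow_zpow k l).mul_right (hsz k w hw)).mul_left
      ((hsz l z hz).symm.mul_right (hw.2.1 z hz.1))).eq
  · obtain ⟨k, z, hz, rfl⟩ := hmem x hx
    rw [(hsz k z hz).symm.mul_mul_mul_comm, hz.2.2, mul_one, ← (Commute.refl s).mul_zpow, h2,
      one_zpow]

omit hM in
theorem pow_fix_of {n z : G} {a b : ℕ} (hab : Nat.Coprime a b) (ha : Commute (n ^ a) z)
    (hb : Commute (n ^ b) z) : Commute n z := by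
  have hg : (1 : ℤ) = a * Nat.gcdA a b + b * Nat.gcdB a b := by
    rw [← Nat.gcd_eq_gcd_ab, hab.gcd_eq_one]; rfl
  have e : n = (n ^ a) ^ Nat.gcdA a b * (n ^ b) ^ Nat.gcdB a b := by
    rw [← zpow_natCast n a, ← zpow_natCast n b, ← zpow_mul, ← zpow_mul, ← zpow_add, ← hg, zpow_one]
  rw [e]
  exact (ha.zpow_left _).mul_left (hb.zpow_left _)

/-- An element of the normaliser has a power at most the third fixing a given central involution. -/
theorem exists_pow_fix {n z : G} (hn : n ∈ normalizer ((S : Subgroup G) : Set G))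
    (hz : z ∈ omegaZ (S : Subgroup G)) : ∃ j, (j = 1 ∨ j = 2 ∨ j = 3) ∧ Commute (n ^ j) z := by
  classical
  by_cases hz1 : z = 1
  · exact ⟨1, Or.inl rfl, hz1 ▸ Commute.one_right _⟩
  haveI := Fintype.ofFinite (omegaZ (S : Subgroup G))
  let f : Fin 4 → omegaZ (S : Subgroup G) := fun j =>
    ⟨n ^ (j : ℕ) * z * (n ^ (j : ℕ))⁻¹, omegaZ_conj hz (pow_mem hn _)⟩
  obtain ⟨i, j, hij, e⟩ : ∃ i j : Fin 4, i ≠ j ∧ f i = f j := by
    by_contra h
    push Not at h
    have hinj : Function.Injective f := fun a b e => not_not.1 fun hab => h a b hab e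
    have hs : Function.Surjective f := (Fintype.bijective_iff_injective_and_card f).2
      ⟨hinj, by rw [Fintype.card_fin, ← Nat.card_eq_fintype_card, hM.card_omegaZ S]⟩ |>.2
    obtain ⟨i, hi⟩ := hs 1
    exact hz1 (conj_eq_one_iff.1 (congrArg Subtype.val hi))
  have key : ∀ a b : ℕ, n ^ (a + b) * z * (n ^ (a + b))⁻¹ = n ^ a * z * (n ^ a)⁻¹ →
      Commute (n ^ b) z := fun a b h => by
    rw [pow_add, mul_inv_rev, show n ^ a * n ^ b * z * ((n ^ b)⁻¹ * (n ^ a)⁻¹) =
      n ^ a * (n ^ b * z * (n ^ b)⁻¹) * (n ^ a)⁻¹ by group] at h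
    exact mul_inv_eq_iff_eq_mul.1 (mul_left_cancel (mul_right_cancel h))
  have e' : n ^ (i : ℕ) * z * (n ^ (i : ℕ))⁻¹ = n ^ (j : ℕ) * z * (n ^ (j : ℕ))⁻¹ :=
    congrArg Subtype.val e
  have hne : (i : ℕ) ≠ j := fun h => hij (Fin.ext h)
  rcases Nat.lt_or_gt_of_ne hne with h | h
  · exact ⟨j - i, by omega, key i (j - i) (by rw [Nat.add_sub_cancel' h.le]; exact e'.symm)⟩
  · exact ⟨i - j, by omega, key j (i - j) (by rw [Nat.add_sub_cancel' h.le]; exact e')⟩

/-- A 3-element of `N(S)` without fixed points on `S`. -/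
theorem exists_three : ∃ r ∈ normalizer ((S : Subgroup G) : Set G),
    (∃ c : ℕ, orderOf r = 3 ^ c) ∧ ∀ x ∈ (S : Subgroup G), Commute r x → x = 1 := by
  classical
  haveI : Fact (Nat.Prime 2) := ⟨Nat.prime_two⟩
  obtain ⟨z, hz, hz1⟩ := hM.exists_mem_omegaZ S
  obtain ⟨n, hn, hnz⟩ := hM.exists_moving S hz hz1
  have hnc : ¬ Commute n z := fun h => hnz (mul_inv_eq_iff_eq_mul.2 h.eq)
  set N := orderOf n with hN
  have hN0 : N ≠ 0 := (orderOf_pos n).ne'
  -- the 2-part fixes `z`
  have hodd : Commute (n ^ (N / 2 ^ N.factorization 2)) z := by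
    set y := n ^ (N / 2 ^ N.factorization 2) with hy
    have hyp : IsPGroup 2 (zpowers y) := IsPGroup.of_card (n := N.factorization 2) (by
      rw [Nat.card_zpowers, hy, orderOf_pow, ← hN,
        Nat.gcd_eq_right (Nat.ordCompl_dvd N 2),
        Nat.div_div_self (Nat.ordProj_dvd N 2) hN0])
    have hyS : y ∈ (S : Subgroup G) := by
      have h := (S.2.to_sup_of_normal_left' hyp (zpowers_le.2 (pow_mem hn _)))
      rw [← S.3 h le_sup_left]
      exact mem_sup_right (mem_zpowers y)
    exact hz.2.1 y hyS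
  set c := N.factorization 3 with hc
  set m := N / 3 ^ c with hm
  have h3m : Nat.Coprime 3 m := Nat.coprime_ordCompl Nat.prime_three hN0
  set r := n ^ m with hr
  have hro : orderOf r = 3 ^ c := by
    rw [hr, orderOf_pow, ← hN, Nat.gcd_eq_right (Nat.ordCompl_dvd N 3),
      Nat.div_div_self (Nat.ordProj_dvd N 3) hN0]
  have hrz : ¬ Commute r z := by
    intro h
    obtain ⟨j, hj, hjz⟩ := hM.exists_pow_fix S hn hz
    rcases hj with rfl | rfl | rfl
    · exact hnc (by simpa using hjz)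
    · exact hnc (pow_fix_of (Nat.coprime_ordCompl Nat.prime_two hN0) hjz hodd)
    · exact hnc (pow_fix_of h3m hjz h)
  have hrn : r ∈ normalizer ((S : Subgroup G) : Set G) := pow_mem hn m
  refine ⟨r, hrn, ⟨c, hro⟩, fun x hx hxr => ?_⟩
  by_contra hx1
  obtain ⟨k, hk⟩ := IsPGroup.iff_orderOf.1 S.2 ⟨x, hx⟩
  rw [Subgroup.orderOf_mk] at hk
  have hk0 : k ≠ 0 := fun e => hx1 (orderOf_eq_one_iff.1 (by rw [hk, e, pow_zero]))
  set w := x ^ 2 ^ (k - 1) with hw
  have hwo : orderOf w = 2 := by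
    rw [hw, orderOf_pow, hk, Nat.gcd_eq_right (pow_dvd_pow 2 (by omega : k - 1 ≤ k)),
      Nat.pow_div (by omega : k - 1 ≤ k) (by norm_num), show k - (k - 1) = 1 by omega, pow_one]
  have hwZ : w ∈ omegaZ (S : Subgroup G) := hM.mem_omegaZ_of_sq S (pow_mem hx _)
    (by rw [← pow_two, ← hwo, pow_orderOf_eq_one])
  have hwr : Commute r w := hxr.pow_right _
  -- the other two central involutions
  refine hrz ?_
  have h2 : Commute (r ^ 2) z := by
    by_cases hzw : z = w
    · exact hzw ▸ hwr.pow_left 2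
    haveI := Fintype.ofFinite (omegaZ (S : Subgroup G))
    have h4 : (Finset.univ : Finset (omegaZ (S : Subgroup G))).card = 4 := by
      rw [Finset.card_univ, ← Nat.card_eq_fintype_card, hM.card_omegaZ S]
    let z' : omegaZ (S : Subgroup G) := ⟨r * z * r⁻¹, omegaZ_conj hz hrn⟩
    let z'' : omegaZ (S : Subgroup G) := ⟨r ^ 2 * z * (r ^ 2)⁻¹, omegaZ_conj hz (pow_mem hrn 2)⟩
    by_contra hne
    have hw1 : w ≠ 1 := fun e => by rw [e, orderOf_one] at hwo; norm_num at hwo
    have hww : r * w * r⁻¹ = w := mul_inv_eq_iff_eq_mul.2 hwr.eq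
    have hww2 : r ^ 2 * w * (r ^ 2)⁻¹ = w := mul_inv_eq_iff_eq_mul.2 (hwr.pow_left 2).eq
    have d1 : r * z * r⁻¹ ≠ z := fun e => hrz (mul_inv_eq_iff_eq_mul.1 e)
    have d2 : r ^ 2 * z * (r ^ 2)⁻¹ ≠ z := fun e => hne (mul_inv_eq_iff_eq_mul.1 e)
    have d3 : r ^ 2 * z * (r ^ 2)⁻¹ ≠ r * z * r⁻¹ := fun e => d1 (by
      rw [pow_two, show r * r * z * (r * r)⁻¹ = r * (r * z * r⁻¹) * r⁻¹ by group] at e
      exact mul_left_cancel (mul_right_cancel e))
    have d4 : r * z * r⁻¹ ≠ w := fun e => hzw (by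
      rw [← hww] at e; exact mul_left_cancel (mul_right_cancel e))
    have d5 : r ^ 2 * z * (r ^ 2)⁻¹ ≠ w := fun e => hzw (by
      rw [← hww2] at e; exact mul_left_cancel (mul_right_cancel e))
    have h5 : ({1, ⟨w, hwZ⟩, ⟨z, hz⟩, z', z''} : Finset (omegaZ (S : Subgroup G))).card ≤ 4 :=
      h4 ▸ Finset.card_le_univ _
    have e1 : (1 : G) ≠ r * z * r⁻¹ := fun e => hz1 (conj_eq_one_iff.1 e.symm)
    have e2 : (1 : G) ≠ r ^ 2 * z * (r ^ 2)⁻¹ := fun e => hz1 (conj_eq_one_iff.1 e.symm)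
    rw [Finset.card_insert_of_notMem, Finset.card_insert_of_notMem, Finset.card_insert_of_notMem,
      Finset.card_insert_of_notMem, Finset.card_singleton] at h5
    · omega
    · simp only [Finset.mem_singleton]; exact fun e => d3 (congrArg Subtype.val e).symm
    · simp only [Finset.mem_insert, Finset.mem_singleton]
      rintro (e | e)
      · exact d1 (congrArg Subtype.val e).symm
      · exact d2 (congrArg Subtype.val e).symm
    · simp only [Finset.mem_insert, Finset.mem_singleton]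
      rintro (e | e | e)
      · exact hzw (congrArg Subtype.val e).symm
      · exact d4 (congrArg Subtype.val e).symm
      · exact d5 (congrArg Subtype.val e).symm
    · simp only [Finset.mem_insert, Finset.mem_singleton]
      rintro (e | e | e | e)
      · exact hw1 (congrArg Subtype.val e).symm
      · exact hz1 (congrArg Subtype.val e).symm
      · exact e1 (congrArg Subtype.val e)
      · exact e2 (congrArg Subtype.val e)
  refine pow_fix_of (a := 2) (b := 3 ^ c) (Nat.Coprime.pow_right c (by norm_num)) h2 ?_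
  rw [← hro, pow_orderOf_eq_one]
  exact Commute.one_left z

/-- Homocyclic of exponent at least four is impossible; Higman leaves two cases. -/
theorem sylow_cases : Nat.card (S : Subgroup G) = 4 ∨
    ∃ r, ∃ hr : r ∈ normalizer ((S : Subgroup G) : Set G),
      SylL34.Fpf (S : Subgroup G) (conjSylow (S : Subgroup G) r hr) := by
  haveI : Fact (Nat.Prime 2) := ⟨Nat.prime_two⟩
  obtain ⟨r, hr, ⟨c, hc⟩, hfix⟩ := hM.exists_three S
  have hT : HigmanRankTwo.ThreeInv (S : Subgroup G) (conjSylow (S : Subgroup G) r hr)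
      ((omegaZ (S : Subgroup G)).subgroupOf S) := by
    refine ⟨S.2, ?_, fun x hx => ?_, fun x => ⟨fun h => ?_, fun h => ?_⟩, fun x hx => ?_, c, ?_⟩
    · rw [Coprime.card_subgroupOf (omegaZ_le _), hM.card_omegaZ S]
    · exact Subgroup.mem_center_iff.2 fun y => Subtype.ext (hx.2.1 y y.2)
    · exact hM.mem_omegaZ_of_sq S x.2 (congrArg Subtype.val h)
    · exact Subtype.ext h.2.2
    · exact Subtype.ext (hfix x x.2 (mul_inv_eq_iff_eq_mul.1 (congrArg Subtype.val hx)))
    · refine MulEquiv.ext fun x => Subtype.ext ?_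
      rw [conjSylow_pow, ← hc, pow_orderOf_eq_one]
      simp
  rcases hT.structure_theorem with ⟨n, hn, ⟨e⟩⟩ | ⟨hF, -⟩
  · left
    rcases Nat.lt_or_ge n 2 with h | h
    · obtain rfl : n = 1 := by omega
      rw [Nat.card_congr e.toEquiv, Nat.card_congr Multiplicative.toAdd, Nat.card_prod, Nat.card_zmod]
      norm_num
    · exfalso
      haveI := hM.simple
      have hO : Cfsg.oddCore G = ⊥ := by
        rcases (inferInstance : (Cfsg.oddCore G).Normal).eq_bot_or_eq_top with e' | e'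
        · exact e'
        · exfalso
          have h2 := PCore.odd_card_oddCore (G := G)
          rw [e', Subgroup.card_top] at h2
          exact Nat.not_even_iff_odd.2 h2 (even_iff_two_dvd.2 hM.even)
      rcases (ZStar.normal_homocyclic S n h e hO).eq_bot_or_eq_top with e' | e'
      · exact S.ne_bot_of_dvd_card hM.even e'
      · exact hM.ne_top_of_isPGroup S.2 e'
  · exact Or.inr ⟨r, hr, hF⟩

end Min

end Cfsg.Agent.PiHom
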