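import Cfsg.Agent.Lib.PiHom.Defs
import Cfsg.Agent.S0205
import Mathlib.GroupTheory.Subgroup.Simple
import Mathlib.GroupTheory.IsSubnormal

/-!
# `π`-homogeneous groups with `2 ∈ π`: reduction to a minimal counterexample
-/

set_option autoImplicit false
set_option linter.style.haveILetI false
set_option linter.unusedSectionVars false

namespace Cfsg.Agent.PiHom

open Subgroup
open scoped Pointwise

variable {π : Set ℕ}

/-- A minimal counterexample. -/
structure Min (π : Set ℕ) (G : Type*) [Group G] : Prop where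
  two : 2 ∈ π
  cl : Cl π G
  hom : Hom' π G
  proper : ∀ L : Subgroup G, L ≠ ⊤ → Closed π L
  simple : IsSimpleGroup G
  noncomm : ∃ a b : G, a * b ≠ b * a
  even : 2 ∣ Nat.card G

section

variable {G : Type*} [Group G] [Finite G]

theorem closed_of_comm (h : ∀ a b : G, a * b = b * a) : Closed π G := by
  refine ⟨{ carrier := {x | IsPi' π x}
            one_mem' := isPi'_one
            inv_mem' := fun {x} hx => isPi'_inv hx
            mul_mem' := fun {x y} hx hy => ?_ }, fun x => Iff.rfl⟩
  intro p hp hd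
  have h1 : orderOf (x * y) ∣ orderOf x * orderOf y := Commute.orderOf_mul_dvd_mul_orderOf (h x y)
  rcases (Nat.Prime.dvd_mul hp).1 (hd.trans h1) with r | r
  · exact hx p hp r
  · exact hy p hp r

/-- The quotient by a normal `π'`-subgroup. -/
theorem cl_quotient_pi' (h : Cl π G) {K : Subgroup G} [K.Normal]
    (hK : ∀ p : ℕ, p.Prime → p ∣ Nat.card K → p ∉ π) : Cl π (G ⧸ K) := by
  intro H hH
  set f := QuotientGroup.mk' K with hf
  set M := H.comap f with hM
  have hKM : K ≤ M := fun x hx => by
    show f x ∈ H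
    rw [show f x = 1 from (QuotientGroup.eq_one_iff x).2 hx]
    exact one_mem H
  let r : M →* H := f.subgroupComap H
  have hr : Function.Surjective r := f.subgroupComap_surjective_of_surjective H
    (QuotientGroup.mk'_surjective K)
  have hker : r.ker = K.subgroupOf M := by
    ext x
    rw [MonoidHom.mem_ker, Subgroup.mem_subgroupOf, ← QuotientGroup.eq_one_iff]
    exact Subtype.ext_iff
  have hidx : (K.subgroupOf M).index = Nat.card H := by
    rw [← hker, Subgroup.index_ker, MonoidHom.range_eq_top.2 hr, Subgroup.card_top]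
  have hcop : (Nat.card (K.subgroupOf M)).Coprime (K.subgroupOf M).index := by
    refine Nat.coprime_of_dvd fun p hp h1 h2 => hK p hp ?_ (hH p hp (hidx ▸ h2))
    rwa [Coprime.card_subgroupOf hKM] at h1
  obtain ⟨C, hC⟩ := exists_right_complement'_of_coprime hcop
  have hCc : Nat.card C = Nat.card H := by rw [← hC.symm.index_eq_card, hidx]
  have hCπ : IsPiSub π C := fun p hp hd => hH p hp (hCc ▸ hd)
  refine (cl_subgroup h M C hCπ).of_surjective (r.comp C.subtype) ?_
  intro y
  obtain ⟨m, rfl⟩ := hr y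
  obtain ⟨⟨k, c⟩, hkc⟩ := hC.2 m
  refine ⟨c, ?_⟩
  rw [← hkc]
  have hk1 : r (k : M) = 1 := MonoidHom.mem_ker.1 (by rw [hker]; exact k.2)
  simp only [MonoidHom.comp_apply, map_mul, Subgroup.coe_subtype, hk1, one_mul]

theorem hom'_quotient_pi' (h2 : 2 ∈ π) (h : Hom' π G) {K : Subgroup G} [K.Normal]
    (hK : ∀ p : ℕ, p.Prime → p ∣ Nat.card K → p ∉ π) : Hom' π (G ⧸ K) := by
  intro H hH g hg hgN
  set f := QuotientGroup.mk' K with hf
  obtain ⟨x, rfl⟩ := QuotientGroup.mk'_surjective K g
  have hxπ : ∀ y : G, f y = f x → IsPi' π y := by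
    intro y hy p hp hd
    have h1 : y ^ orderOf (f x) ∈ K := by
      rw [← QuotientGroup.eq_one_iff]
      show f (y ^ orderOf (f x)) = 1
      rw [map_pow, hy, pow_orderOf_eq_one]
    have h3 : y ^ (orderOf (f x) * Nat.card K) = 1 := by
      rw [pow_mul]
      exact orderOf_dvd_iff_pow_eq_one.1 (Subgroup.orderOf_dvd_natCard K h1)
    rcases (Nat.Prime.dvd_mul hp).1 (hd.trans (orderOf_dvd_iff_pow_eq_one.2 h3)) with r | r
    · exact hg p hp r
    · exact hK p hp r
  set M := H.comap f with hM
  have hKM : K ≤ M := fun y hy => by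
    show f y ∈ H
    rw [show f y = 1 from (QuotientGroup.eq_one_iff y).2 hy]
    exact one_mem H
  let r : M →* H := f.subgroupComap H
  have hr : Function.Surjective r := f.subgroupComap_surjective_of_surjective H
    (QuotientGroup.mk'_surjective K)
  have hker : r.ker = K.subgroupOf M := by
    ext y
    rw [MonoidHom.mem_ker, Subgroup.mem_subgroupOf, ← QuotientGroup.eq_one_iff]
    exact Subtype.ext_iff
  have hidx : (K.subgroupOf M).index = Nat.card H := by
    rw [← hker, Subgroup.index_ker, MonoidHom.range_eq_top.2 hr, Subgroup.card_top]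
  have hcop : (Nat.card (K.subgroupOf M)).Coprime (K.subgroupOf M).index := by
    refine Nat.coprime_of_dvd fun p hp h1 h2 => hK p hp ?_ (hH p hp (hidx ▸ h2))
    rwa [Coprime.card_subgroupOf hKM] at h1
  obtain ⟨C, hC⟩ := exists_right_complement'_of_coprime hcop
  set C' := C.map M.subtype with hC'
  have hCc : Nat.card C' = Nat.card H := by
    rw [hC', Subgroup.card_map_of_injective M.subtype_injective, ← hC.symm.index_eq_card, hidx]
  have hsup : M ≤ C' ⊔ K := by
    intro m hm
    obtain ⟨⟨k, c⟩, hkc⟩ := hC.2 ⟨m, hm⟩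
    have e : ((k : M) : G) * ((c : M) : G) = m := congrArg Subtype.val hkc
    rw [← e]
    exact mul_mem (mem_sup_right k.2) (mem_sup_left ⟨c, c.2, rfl⟩)
  have hCM : C' ≤ M := map_subtype_le C
  have hxM : ∀ y ∈ M, x * y * x⁻¹ ∈ M := fun y hy => by
    show f (x * y * x⁻¹) ∈ H
    rw [map_mul, map_mul, map_inv]
    exact (mem_normalizer_iff.1 hgN (f y)).1 hy
  have hcopC : (Nat.card C').Coprime (Nat.card K) := by
    rw [hCc]
    exact Nat.coprime_of_dvd fun p hp h1 h2 => hK p hp h2 (hH p hp h1)
  have hsol : Group.IsSolvable K := S0205.result (Nat.not_even_iff_odd.1 fun he =>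
    hK 2 Nat.prime_two (even_iff_two_dvd.1 he) h2)
  obtain ⟨k, hk, hkC⟩ := Coprime.exists_conj_eq_of_le_sup (N := K) (H := C')
    (K := C'.map (MulAut.conj x).toMonoidHom) (Subgroup.normalizer_eq_top (H := K) ▸ le_top)
    (by
      rintro _ ⟨y, hy, rfl⟩
      exact hsup (hxM y (hCM hy)))
    (Subgroup.card_map_of_injective (MulAut.conj x).injective) hcopC (Or.inl hsol)
  have hy : f (k⁻¹ * x) = f x := by
    rw [map_mul, map_inv, show f k = 1 from (QuotientGroup.eq_one_iff k).2 hk, inv_one, one_mul]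
  have hnorm : k⁻¹ * x ∈ normalizer (C' : Set G) := by
    refine mem_normalizer_of_forall ?_
    intro y hy
    have h1 : x * y * x⁻¹ ∈ MulAut.conj k • C' := hkC ▸ ⟨y, hy, rfl⟩
    rw [Coprime.mem_conj_smul_iff] at h1
    simpa [mul_assoc] using h1
  have hcent := h C' (fun p hp hd => hH p hp (hCc ▸ hd)) _ (hxπ _ hy) hnorm
  rw [mem_centralizer_iff]
  intro z hz
  obtain ⟨m, rfl⟩ := QuotientGroup.mk'_surjective K z
  obtain ⟨c, hc, k', hk', rfl⟩ := (Coprime.mem_sup_iff_of_le_normalizer
    (Subgroup.normalizer_eq_top (H := K) ▸ le_top)).1 (hsup (hz : m ∈ M))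
  have e := congrArg f (mem_centralizer_iff.1 hcent c hc)
  rw [map_mul f c k', show f k' = 1 from (QuotientGroup.eq_one_iff k').2 hk', mul_one]
  rwa [map_mul f c (k⁻¹ * x), map_mul f (k⁻¹ * x) c, hy] at e

/-- The quotient by a central subgroup of prime order in `π`. -/
theorem quotient_central (hcl : Cl π G) (hom : Hom' π G) {p : ℕ} (hp : p.Prime) (hpπ : p ∈ π)
    {Q : Subgroup G} [Q.Normal] (hQ : Nat.card Q = p) :
    Cl π (G ⧸ Q) ∧ Hom' π (G ⧸ Q) ∧
      ∀ x : G ⧸ Q, IsPi' π x → ∃ y : G, QuotientGroup.mk' Q y = x ∧ IsPi' π y := by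
  set f := QuotientGroup.mk' Q with hf
  have hpi : ∀ H : Subgroup (G ⧸ Q), IsPiSub π H → IsPiSub π (H.comap f) := by
    intro H hH q hq hd
    let r : H.comap f →* H := f.subgroupComap H
    have hr : Function.Surjective r := f.subgroupComap_surjective_of_surjective H
      (QuotientGroup.mk'_surjective Q)
    have hcard : Nat.card (H.comap f) ∣ Nat.card H * p := by
      have h1 := r.ker.index_mul_card
      rw [Subgroup.index_ker, MonoidHom.range_eq_top.2 hr, Subgroup.card_top] at h1
      rw [← h1, ← hQ]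
      refine Nat.mul_dvd_mul_left _ ?_
      rw [← Subgroup.card_map_of_injective (H.comap f).subtype_injective]
      refine Subgroup.card_dvd_of_le ?_
      rintro _ ⟨x, hx, rfl⟩
      exact (QuotientGroup.eq_one_iff _).1 (congrArg Subtype.val (MonoidHom.mem_ker.1 hx))
    rcases (Nat.Prime.dvd_mul hq).1 (hd.trans hcard) with r | r
    · exact hH q hq r
    · rwa [(Nat.prime_dvd_prime_iff_eq hq hp).1 r]
  have hlift : ∀ x : G ⧸ Q, IsPi' π x → ∃ y : G, f y = x ∧ IsPi' π y := by
    intro x hx
    obtain ⟨y, rfl⟩ := QuotientGroup.mk'_surjective Q x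
    set m := orderOf (f y) with hm
    have hpm : Nat.Coprime p m := (Nat.Prime.coprime_iff_not_dvd hp).2 fun hd => hx p hp hd hpπ
    have hm0 : 0 < m := orderOf_pos _
    have hfy : f (y ^ p ^ Nat.totient m) = f y := by
      rw [map_pow]
      nth_rewrite 2 [← pow_one (f y)]
      rw [pow_eq_pow_iff_modEq, ← hm]
      exact Nat.ModEq.pow_totient hpm
    refine ⟨y ^ p ^ Nat.totient m, hfy, isPi'_of_dvd hx (orderOf_dvd_of_pow_eq_one ?_)⟩
    have h1 : y ^ m ∈ Q := by
      rw [← QuotientGroup.eq_one_iff]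
      show f (y ^ m) = 1
      rw [map_pow, hm, pow_orderOf_eq_one]
    have h2 : y ^ (m * p) = 1 := by
      rw [pow_mul, ← orderOf_dvd_iff_pow_eq_one, ← hQ]
      exact Subgroup.orderOf_dvd_natCard Q h1
    show (y ^ p ^ Nat.totient m) ^ m = 1
    rw [← pow_mul]
    obtain ⟨j, hj⟩ := Nat.exists_eq_add_of_le (Nat.totient_pos.2 hm0)
    rw [hj, pow_add, pow_one, show p * p ^ j * m = m * p * p ^ j by ring, pow_mul, h2, one_pow]
  refine ⟨fun H hH => ?_, fun H hH g hg hgN => ?_, hlift⟩
  · exact (hcl _ (hpi H hH)).of_surjective (f.subgroupComap H)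
      (f.subgroupComap_surjective_of_surjective H (QuotientGroup.mk'_surjective Q))
  · obtain ⟨y, rfl, hy⟩ := hlift g hg
    have h1 := hom _ (hpi H hH) y hy (by
      rw [mem_normalizer_iff] at hgN ⊢
      intro z
      show f z ∈ H ↔ f (y * z * y⁻¹) ∈ H
      rw [map_mul, map_mul, map_inv]
      exact hgN (f z))
    rw [mem_centralizer_iff]
    intro z hz
    obtain ⟨z, rfl⟩ := QuotientGroup.mk'_surjective Q z
    have e := congrArg f (mem_centralizer_iff.1 h1 z hz)
    rwa [map_mul, map_mul] at e

end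

universe u

/-- If every proper subgroup is closed and there is no minimal counterexample, a group is closed. -/
theorem closed_of_min_false (hmin : ∀ (G : Type u) [Group G] [Finite G], Min π G → False)
    (h2 : 2 ∈ π) : ∀ (G : Type u) [Group G] [Finite G], Cl π G → Hom' π G → Closed π G := by
  suffices key : ∀ (n : ℕ) (G : Type u) [Group G] [Finite G], Nat.card G = n → Cl π G → Hom' π G →
      Closed π G from fun G _ _ hcl hom => key _ G rfl hcl hom
  intro n
  induction n using Nat.strong_induction_on with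
  | _ n ih =>
  intro G _ _ hn hcl hom
  by_contra hnot
  have hproper : ∀ L : Subgroup G, L ≠ ⊤ → Closed π L := fun L hL =>
    ih _ (hn ▸ lt_of_le_of_ne (Subgroup.card_le_card_group L)
      fun h => hL ((Subgroup.card_eq_iff_eq_top L).1 h)) L rfl (cl_subgroup hcl L)
      (hom'_subgroup hom L)
  have hsmall : ∀ (Q : Subgroup G) [Q.Normal], Q ≠ ⊥ → Nat.card (G ⧸ Q) < n := by
    intro Q _ hQ
    rw [← hn, ← Subgroup.index_eq_card, ← Q.card_mul_index]
    have h1 : 1 < Nat.card Q := (Subgroup.one_lt_card_iff_ne_bot Q).2 hQ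
    have h2' : 0 < Q.index := Nat.pos_of_ne_zero Subgroup.index_ne_zero_of_finite
    nlinarith
  have hnorm : ∀ N : Subgroup G, N.Normal → N = ⊥ ∨ N = ⊤ := by
    intro N hN
    by_contra hne
    push Not at hne
    obtain ⟨KN, hKN⟩ := hproper N hne.2
    set K := KN.map N.subtype with hKdef
    have hKmem : ∀ x : G, x ∈ K ↔ x ∈ N ∧ IsPi' π x := by
      intro x
      constructor
      · rintro ⟨y, hy, rfl⟩
        exact ⟨y.2, isPi'_coe.2 ((hKN y).1 hy)⟩
      · rintro ⟨hx, hx'⟩
        exact ⟨⟨x, hx⟩, (hKN _).2 (isPi'_coe.1 hx'), rfl⟩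
    haveI hKn : K.Normal := ⟨fun x hx g => (hKmem _).2
      ⟨hN.conj_mem x ((hKmem x).1 hx).1 g, isPi'_conj ((hKmem x).1 hx).2 g⟩⟩
    have hKp := prime_notMem_of_forall (fun x hx => ((hKmem x).1 hx).2)
    by_cases hK : K = ⊥
    · have hNπ : IsPiSub π N := by
        intro p hp hd
        haveI := Fact.mk hp
        by_contra hpπ
        obtain ⟨x, hx⟩ := exists_prime_orderOf_dvd_card' (G := N) p hd
        have h1 : (x : G) ∈ K := (hKmem x).2 ⟨x.2, isPi'_coe.2 fun q hq hqd => by
          rw [hx] at hqd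
          rwa [(Nat.prime_dvd_prime_iff_eq hq hp).1 hqd]⟩
        rw [hK, Subgroup.mem_bot] at h1
        rw [show x = 1 from Subtype.ext h1, orderOf_one] at hx
        exact hp.ne_one hx.symm
      have hcen : ∀ g : G, IsPi' π g → g ∈ centralizer (N : Set G) := fun g hg =>
        hom N hNπ g hg (by rw [Subgroup.normalizer_eq_top (H := N)]; exact mem_top g)
      by_cases hC : centralizer (N : Set G) = ⊤
      · -- a central subgroup of prime order
        have hN1 : 1 < Nat.card N := (Subgroup.one_lt_card_iff_ne_bot N).2 hne.1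
        obtain ⟨p, hp, hpd⟩ := Nat.exists_prime_and_dvd hN1.ne'
        haveI := Fact.mk hp
        obtain ⟨z, hz⟩ := exists_prime_orderOf_dvd_card' (G := N) p hpd
        set Q := zpowers (z : G) with hQdef
        have hzc : ∀ g : G, g * z = z * g := fun g =>
          ((mem_centralizer_iff.1 (hC ▸ mem_top g : g ∈ centralizer (N : Set G))) z z.2).symm
        haveI hQn : Q.Normal := ⟨fun x hx g => by
          obtain ⟨k, rfl⟩ := mem_zpowers_iff.1 hx
          rw [((show Commute g (z : G) from hzc g).zpow_right k).eq, mul_inv_cancel_right]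
          exact zpow_mem (mem_zpowers _) k⟩
        have hQ : Nat.card Q = p := by rw [hQdef, Nat.card_zpowers, Subgroup.orderOf_coe, hz]
        have hQ1 : Q ≠ ⊥ := fun h => by
          rw [h, Subgroup.card_bot] at hQ
          exact hp.ne_one hQ.symm
        obtain ⟨hcl', hom', hlift⟩ := quotient_central hcl hom hp (hNπ p hp hpd) hQ
        obtain ⟨Kb, hKb⟩ := ih _ (hsmall Q hQ1) (G ⧸ Q) rfl hcl' hom'
        set L := Kb.comap (QuotientGroup.mk' Q) with hLdef
        have hall : ∀ x : G, IsPi' π x → x ∈ L := fun x hx => (hKb _).2 (isPi'_map hx _)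
        by_cases hL : L = ⊤
        · -- `G / Q` is a `π'`-group
          have hb : ∀ x : G ⧸ Q, IsPi' π x := fun x => by
            obtain ⟨y, rfl⟩ := QuotientGroup.mk'_surjective Q x
            exact (hKb _).1 (hL ▸ mem_top y : y ∈ L)
          have hidx : ∀ q : ℕ, q.Prime → q ∣ Q.index → q ∉ π := by
            intro q hq hd
            haveI := Fact.mk hq
            rw [Subgroup.index_eq_card] at hd
            obtain ⟨x, hx⟩ := exists_prime_orderOf_dvd_card' (G := G ⧸ Q) q hd
            exact hb x q hq (by rw [hx])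
          have hcop : (Nat.card Q).Coprime Q.index := by
            rw [hQ]
            exact (Nat.Prime.coprime_iff_not_dvd hp).2 fun hd => hidx p hp hd (hNπ p hp hpd)
          obtain ⟨C, hC'⟩ := exists_right_complement'_of_coprime hcop
          have hCc : Nat.card C = Q.index := hC'.symm.index_eq_card.symm
          haveI hCn : C.Normal := ⟨fun c hc g => by
            obtain ⟨⟨q, c'⟩, rfl⟩ := hC'.2 g
            obtain ⟨k, hk⟩ := mem_zpowers_iff.1 q.2
            have hq : ∀ y : G, y * q = q * y := fun y => by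
              rw [← hk]; exact ((show Commute y (z : G) from hzc y).zpow_right k).eq
            show (q : G) * c' * c * ((q : G) * c')⁻¹ ∈ C
            have e : (q : G) * c' * c * ((q : G) * c')⁻¹ = (c' : G) * c * (c' : G)⁻¹ := by
              rw [show (q : G) * c' * c * ((q : G) * c')⁻¹ = (q : G) * ((c' : G) * c * (c' : G)⁻¹) * (q : G)⁻¹
                by group, ← hq, mul_inv_cancel_right]
            rw [e]
            exact mul_mem (mul_mem c'.2 hc) (inv_mem c'.2)⟩
          refine hnot ⟨C, fun x => ⟨fun hx => isPi'_of_mem (fun q hq hd => hidx q hq (hCc ▸ hd)) hx,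
            fun hx => ?_⟩⟩
          rw [← QuotientGroup.eq_one_iff, ← orderOf_eq_one_iff]
          have h1 : orderOf (x : G ⧸ C) ∣ p := by
            rw [← hQ, ← hC'.index_eq_card, Subgroup.index_eq_card]
            exact orderOf_dvd_natCard _
          rcases (Nat.dvd_prime hp).1 h1 with r | r
          · exact r
          · exfalso
            have h2 : orderOf (x : G ⧸ C) ∣ orderOf x := orderOf_map_dvd (QuotientGroup.mk' C) x
            rw [r] at h2
            exact hx p hp h2 (hNπ p hp hpd)
        · obtain ⟨KL, hKL⟩ := hproper L hL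
          refine hnot ⟨KL.map L.subtype, fun x => ⟨?_, fun hx => ?_⟩⟩
          · rintro ⟨y, hy, rfl⟩
            exact isPi'_coe.2 ((hKL y).1 hy)
          · exact ⟨⟨x, hall x hx⟩, (hKL _).2 (isPi'_coe.1 hx), rfl⟩
      · obtain ⟨KC, hKC⟩ := hproper _ hC
        refine hnot ⟨KC.map (centralizer (N : Set G)).subtype, fun x => ⟨?_, fun hx => ?_⟩⟩
        · rintro ⟨y, hy, rfl⟩
          exact isPi'_coe.2 ((hKC y).1 hy)
        · exact ⟨⟨x, hcen x hx⟩, (hKC _).2 (isPi'_coe.1 hx), rfl⟩
    · obtain ⟨Kb, hKb⟩ := ih _ (hsmall K hK) (G ⧸ K) rfl (cl_quotient_pi' hcl hKp)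
        (hom'_quotient_pi' h2 hom hKp)
      refine hnot ⟨Kb.comap (QuotientGroup.mk' K), fun x => ?_⟩
      rw [Subgroup.mem_comap, hKb]
      refine ⟨fun hx p hp hd => ?_, fun hx => isPi'_map hx _⟩
      have h1 : x ^ orderOf (QuotientGroup.mk' K x) ∈ K := by
        rw [← QuotientGroup.eq_one_iff]
        show QuotientGroup.mk' K (x ^ _) = 1
        rw [map_pow, pow_orderOf_eq_one]
      have h3 : x ^ (orderOf (QuotientGroup.mk' K x) * Nat.card K) = 1 := by
        rw [pow_mul]
        exact orderOf_dvd_iff_pow_eq_one.1 (Subgroup.orderOf_dvd_natCard K h1)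
      rcases (Nat.Prime.dvd_mul hp).1 (hd.trans (orderOf_dvd_iff_pow_eq_one.2 h3)) with r | r
      · exact hx p hp r
      · exact hKp p hp r
  have hnt : Nontrivial G := by
    by_contra h
    haveI := not_nontrivial_iff_subsingleton.1 h
    exact hnot (closed_of_comm fun a b => Subsingleton.elim _ _)
  have hsimple : IsSimpleGroup G := { toNontrivial := hnt, eq_bot_or_eq_top_of_normal := hnorm }
  have hnc : ∃ a b : G, a * b ≠ b * a := by
    by_contra h
    push Not at h
    exact hnot (closed_of_comm h)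
  refine hmin G ⟨h2, hcl, hom, hproper, hsimple, hnc, ?_⟩
  by_contra hodd
  obtain ⟨a, b, hab⟩ := hnc
  haveI := hsimple
  have hs : Group.IsSolvable G := S0205.result (Nat.not_even_iff_odd.1 fun he =>
    hodd (even_iff_two_dvd.1 he))
  exact hab (IsSimpleGroup.comm_iff_isSolvable.2 hs a b)

end Cfsg.Agent.PiHom
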