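import Cfsg.Agent.Lib.PiHom.Chars64
import Cfsg.Agent.Lib.PiHom.Automizer
import Cfsg.Agent.Lib.Transfer.Frobenius

/-!
# A minimal counterexample has no Sylow 2-subgroup of order 64
-/

set_option autoImplicit false
set_option linter.style.haveILetI false
set_option linter.unusedSectionVars false

namespace Cfsg.Agent.PiHom

open Subgroup

universe u

variable {π : Set ℕ} {G : Type u} [Group G] [Finite G]

namespace Min

variable (hM : Min π G) (S : Sylow 2 G) {r : G} (hr : r ∈ normalizer ((S : Subgroup G) : Set G))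
  (hF : SylL34.Fpf (S : Subgroup G) (conjSylow (S : Subgroup G) r hr))
include hM hF

omit hM in
/-- The powers of `r` act as the three powers of the automorphism. -/
theorem pow_act (i : ℕ) :
    (∀ y : (S : Subgroup G), r ^ i * (y : G) * (r ^ i)⁻¹ = y) ∨
      (∀ y : (S : Subgroup G), r ^ i * (y : G) * (r ^ i)⁻¹ =
        conjSylow (S : Subgroup G) r hr y) ∨
      ∀ y : (S : Subgroup G), r ^ i * (y : G) * (r ^ i)⁻¹ =
        conjSylow (S : Subgroup G) r hr (conjSylow (S : Subgroup G) r hr y) := by
  set σ := conjSylow (S : Subgroup G) r hr with hσ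
  have h3 : σ ^ 3 = 1 := MulEquiv.ext fun y => hF.three y
  have e : σ ^ i = σ ^ (i % 3) := by
    conv_lhs => rw [← Nat.mod_add_div i 3, pow_add, pow_mul, h3, one_pow, mul_one]
  have h1 : ∀ y : (S : Subgroup G), r ^ i * (y : G) * (r ^ i)⁻¹ = ((σ ^ (i % 3)) y : G) :=
    fun y => by rw [← e, hσ, conjSylow_pow]
  rcases (by omega : i % 3 = 0 ∨ i % 3 = 1 ∨ i % 3 = 2) with j | j | j <;> rw [j] at h1
  · exact Or.inl fun y => (h1 y).trans (by simp)
  · exact Or.inr (Or.inl fun y => (h1 y).trans (by simp))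
  · exact Or.inr (Or.inr fun y => (h1 y).trans (by rw [pow_two, MulAut.mul_apply]))

theorem center_of_sq (y : (S : Subgroup G)) (h : y * y = 1) : y ∈ Subgroup.center (S : Subgroup G) :=
  (hM.mem_center_iff_omegaZ S hr hF).2 (hM.mem_omegaZ_of_sq S y.2 (congrArg Subtype.val h))

/-- Fusion in `S`. -/
theorem fusion_sylow (x y : (S : Subgroup G)) (hxy : IsConj (x : G) (y : G)) :
    ∃ c : (S : Subgroup G), y = c * x * c⁻¹ ∨ y = conjSylow (S : Subgroup G) r hr (c * x * c⁻¹) ∨
      y = conjSylow (S : Subgroup G) r hr (conjSylow (S : Subgroup G) r hr (c * x * c⁻¹)) := by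
  obtain ⟨g, hg⟩ := isConj_iff.1 hxy
  obtain ⟨n, hn, c, hc, rfl⟩ := hM.exists_normalizer_mul (A := zpowers (x : G))
    (zpowers_le.2 x.2) (g := g) (fun a ha => by
      obtain ⟨k, rfl⟩ := mem_zpowers_iff.1 ha
      rw [← conj_zpow, hg]
      exact zpow_mem y.2 k)
  obtain ⟨i, d, hd, he⟩ := hM.automizer_three S hr hF n hn
  have hy : (y : G) = r ^ i * (((⟨d, hd⟩ : (S : Subgroup G)) * x * ⟨d, hd⟩⁻¹ : (S : Subgroup G)) : G) *
      (r ^ i)⁻¹ := by
    rw [← hg, show n * c * (x : G) * (n * c)⁻¹ = n * (c * x * c⁻¹) * n⁻¹ by group,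
      ← hc _ (mem_zpowers _), mul_inv_cancel_right, he _ x.2]
    push_cast
    group
  refine ⟨⟨d, hd⟩, ?_⟩
  rcases pow_act S hr hF i with q | q | q <;> rw [q] at hy
  · exact Or.inl (Subtype.ext hy)
  · exact Or.inr (Or.inl (Subtype.ext hy))
  · exact Or.inr (Or.inr (Subtype.ext hy))

/-- An element of odd order normalising a subgroup of `S` and fixing one of its nontrivial
elements centralises it. -/
theorem commute_of_fix {A : Subgroup G} (hA : A ≤ (S : Subgroup G)) {x g : G} (hx : x ∈ A)
    (hx1 : x ≠ 1) (hg : g ∈ normalizer (A : Set G)) (hgo : Odd (orderOf g))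
    (hgx : Commute g x) {a : G} (ha : a ∈ A) : Commute g a := by
  haveI : Fact (Nat.Prime 2) := ⟨Nat.prime_two⟩
  set σ := conjSylow (S : Subgroup G) r hr with hσ
  obtain ⟨n, hn, c, hc, hnc⟩ := hM.exists_normalizer_mul hA (g := g)
    fun b hb => hA ((mem_normalizer_iff.1 hg b).1 hb)
  obtain ⟨i, d, hd, he⟩ := hM.automizer_three S hr hF n hn
  have hgn : ∀ b ∈ A, g * b * g⁻¹ = r ^ i * (d * b * d⁻¹) * (r ^ i)⁻¹ := by
    intro b hb
    rw [hnc, show n * c * b * (n * c)⁻¹ = n * (c * b * c⁻¹) * n⁻¹ by group, ← hc b hb,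
      mul_inv_cancel_right, he b (hA hb)]
    group
  set X : (S : Subgroup G) := ⟨x, hA hx⟩ with hX
  set D : (S : Subgroup G) := ⟨d, hd⟩ with hD
  have hX1 : X ≠ 1 := fun e => hx1 (congrArg Subtype.val e)
  have hz : X⁻¹ * (D * X * D⁻¹) ∈ Subgroup.center (S : Subgroup G) := by
    simpa [commutatorElement_def, mul_assoc] using hF.comm_mem_center X⁻¹ D
  have hi : ∀ y : (S : Subgroup G), r ^ i * (y : G) * (r ^ i)⁻¹ = y := by
    rcases pow_act S hr hF i with q | q | q
    · exact q
    all_goals exfalso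
    · have e : σ (D * X * D⁻¹) = X := Subtype.ext (by
        rw [← q]
        show r ^ i * (d * x * d⁻¹) * (r ^ i)⁻¹ = x
        rw [← hgn x hx, hgx.eq, mul_inv_cancel_right])
      have h1 : X⁻¹ * σ X ∈ Subgroup.center (S : Subgroup G) := by
        have := inv_mem (SylL34.Fpf.apply_mem_center σ hz)
        rw [map_mul, e, map_inv] at this
        simpa using this
      have hXZ := SylL34.fpf_quotient hF.fpf _ (fun w hw => SylL34.Fpf.apply_mem_center σ hw) h1
      rw [Subgroup.mem_center_iff.1 hXZ D, mul_inv_cancel_right] at e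
      exact hX1 (hF.fpf _ e)
    · have e : σ (σ (D * X * D⁻¹)) = X := Subtype.ext (by
        rw [← q]
        show r ^ i * (d * x * d⁻¹) * (r ^ i)⁻¹ = x
        rw [← hgn x hx, hgx.eq, mul_inv_cancel_right])
      have e' : D * X * D⁻¹ = σ X := by
        have := congrArg σ e
        rwa [hF.three] at this
      rw [e'] at hz
      have hXZ := SylL34.fpf_quotient hF.fpf _ (fun w hw => SylL34.Fpf.apply_mem_center σ hw) hz
      rw [Subgroup.mem_center_iff.1 hXZ D, mul_inv_cancel_right] at e'
      exact hX1 (hF.fpf _ e'.symm)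
  have hgd : ∀ b ∈ A, g * b * g⁻¹ = d * b * d⁻¹ := fun b hb => by
    rw [hgn b hb]
    exact hi ⟨d * b * d⁻¹, mul_mem (mul_mem hd (hA hb)) (inv_mem hd)⟩
  have hpow : ∀ (k : ℕ) (b : G), b ∈ A → g ^ k * b * (g ^ k)⁻¹ = d ^ k * b * (d ^ k)⁻¹ := by
    intro k
    induction k with
    | zero => simp
    | succ k ih =>
      intro b hb
      rw [pow_succ, pow_succ, mul_inv_rev, mul_inv_rev,
        show g ^ k * g * b * (g⁻¹ * (g ^ k)⁻¹) = g ^ k * (g * b * g⁻¹) * (g ^ k)⁻¹ by group,
        ih _ ((mem_normalizer_iff.1 hg b).1 hb), hgd b hb]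
      group
  have hdo : Commute (d ^ orderOf g) a := by
    have := hpow (orderOf g) a ha
    rw [pow_orderOf_eq_one, one_mul, inv_one, mul_one] at this
    exact mul_inv_eq_iff_eq_mul.1 this.symm
  obtain ⟨j, hj⟩ := S.2 ⟨d, hd⟩
  have hda : Commute d a := pow_fix_of (a := orderOf g) (b := 2 ^ j)
    (Nat.Coprime.pow_right j (Nat.coprime_two_right.2 hgo)) hdo
    (by rw [show d ^ 2 ^ j = 1 from congrArg Subtype.val hj]; exact Commute.one_left a)
  exact mul_inv_eq_iff_eq_mul.1 ((hgd a ha).trans (mul_inv_eq_iff_eq_mul.2 hda.eq))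

/-- A centraliser has a normal 2-complement. -/
theorem hasNormalPComplement_centralizer (x : (S : Subgroup G)) (hx : x ≠ 1) :
    Cfsg.HasNormalPComplement 2 (centralizer ({(x : G)} : Set G)) := by
  haveI : Fact (Nat.Prime 2) := ⟨Nat.prime_two⟩
  set C := centralizer ({(x : G)} : Set G) with hC
  obtain ⟨P⟩ : Nonempty (Sylow 2 C) := inferInstance
  refine Transfer.hasNormalPComplement_of_centralizer P fun Q hQ g hg hgo => ?_
  set A : Subgroup G := Q.map C.subtype ⊔ zpowers (x : G) with hA
  have hQA : Q.map C.subtype ≤ A := le_sup_left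
  have hxn : zpowers (x : G) ≤ normalizer (Q.map C.subtype : Set G) := zpowers_le.2
    (mem_normalizer_of_forall fun y hy => by
      obtain ⟨q, hq, rfl⟩ := hy
      rw [Subgroup.coe_subtype, ← mem_centralizer_singleton_iff.1 q.2, mul_inv_cancel_right]
      exact ⟨q, hq, rfl⟩)
  obtain ⟨k, hk⟩ := IsPGroup.iff_orderOf.1 S.2 x
  have hA2 : IsPGroup 2 A := (P.2.to_le hQ).map C.subtype |>.to_sup_of_normal_left'
    (IsPGroup.of_card (n := k) (by rw [Nat.card_zpowers, Subgroup.orderOf_coe, hk])) hxn
  obtain ⟨T, hT⟩ := hA2.exists_le_sylow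
  obtain ⟨e, he⟩ := MulAction.exists_smul_eq G T S
  have hgA : ∀ b ∈ A, (g : G) * b * (g : G)⁻¹ ∈ A := by
    intro b hb
    have : A ≤ A.comap (MulAut.conj (g : G)).toMonoidHom := by
      refine sup_le ?_ (zpowers_le.2 ?_)
      · rintro _ ⟨q, hq, rfl⟩
        exact hQA ⟨g * q * g⁻¹, (mem_normalizer_iff.1 hg q).1 hq, rfl⟩
      · show (g : G) * x * (g : G)⁻¹ ∈ A
        rw [mem_centralizer_singleton_iff.1 g.2, mul_inv_cancel_right]
        exact mem_sup_right (mem_zpowers _)
    exact this hb
  set B := A.map (MulAut.conj e).toMonoidHom with hB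
  have hBS : B ≤ (S : Subgroup G) := by
    rintro _ ⟨b, hb, rfl⟩
    rw [← he, mem_smul_sylow]
    simpa [mul_assoc] using hT hb
  have hxB : e * (x : G) * e⁻¹ ∈ B := ⟨x, mem_sup_right (mem_zpowers _), rfl⟩
  have hgB : e * (g : G) * e⁻¹ ∈ normalizer (B : Set G) := mem_normalizer_of_forall fun b hb => by
    obtain ⟨b, hb, rfl⟩ := hb
    exact ⟨(g : G) * b * (g : G)⁻¹, hgA b hb, by simp [mul_assoc]⟩
  rw [mem_centralizer_iff]
  intro q hq
  refine Subtype.ext ?_
  have h1 := hM.commute_of_fix S hr hF hBS hxB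
    (fun h => hx (Subtype.ext (conj_eq_one_iff.1 h))) hgB
    (by rw [← MulAut.conj_apply, MulEquiv.orderOf_eq, Subgroup.orderOf_coe]
        exact Nat.coprime_two_right.1 hgo)
    ((Commute.conj_iff e).2 (mem_centralizer_singleton_iff.1 g.2))
    (a := e * (q : G) * e⁻¹) ⟨q, hQA ⟨q, hq, rfl⟩, rfl⟩
  exact ((show Commute (g : G) (q : G) from (Commute.conj_iff e).1 h1).symm).eq

/-- The centralisers in `S` of fused elements have the same order. -/
theorem card_centralizer_eq (x y : (S : Subgroup G)) (hxy : IsConj (x : G) (y : G)) :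
    Nat.card (centralizer ({x} : Set (S : Subgroup G))) =
      Nat.card (centralizer ({y} : Set (S : Subgroup G))) := by
  have aux : ∀ (f : MulAut (S : Subgroup G)) (x : (S : Subgroup G)),
      Nat.card (centralizer ({x} : Set (S : Subgroup G))) =
        Nat.card (centralizer ({f x} : Set (S : Subgroup G))) := fun f x => by
    have e : (centralizer ({x} : Set (S : Subgroup G))).map f.toMonoidHom = centralizer {f x} := by
      ext w
      obtain ⟨v, rfl⟩ := f.surjective w
      show f.toMonoidHom v ∈ _ ↔ _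
      rw [Subgroup.mem_map_iff_mem f.injective, mem_centralizer_singleton_iff,
        mem_centralizer_singleton_iff]
      show v * x = x * v ↔ f v * f x = f x * f v
      rw [← map_mul, ← map_mul, f.injective.eq_iff]
    rw [← e, Subgroup.card_map_of_injective f.injective]
  set σ := conjSylow (S : Subgroup G) r hr
  obtain ⟨c, rfl | rfl | rfl⟩ := hM.fusion_sylow S hr hF x y hxy
  · exact aux (MulAut.conj c) x
  · exact (aux (MulAut.conj c) x).trans (aux σ _)
  · exact (aux (MulAut.conj c) x).trans ((aux σ _).trans (aux σ _))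

/-- The hypotheses of the character argument. -/
theorem data [Fintype G] : Sylow64.Data (S : Subgroup G) (conjSylow (S : Subgroup G) r hr) := by
  classical
  haveI : Fact (Nat.Prime 2) := ⟨Nat.prime_two⟩
  refine ⟨hF, hM.center_of_sq S hr hF, fun x => isConj_iff.2 ⟨r, rfl⟩, hM.fusion_sylow S hr hF,
    fun T hT => ?_, fun x hx => ?_, fun x t ht htx => ?_⟩
  · obtain ⟨T', hT'⟩ := hT.exists_le_sylow
    obtain ⟨g, hg⟩ := MulAction.exists_smul_eq G T' S
    refine ⟨g, fun s hs => ?_⟩
    rw [← hg, mem_smul_sylow]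
    simpa [mul_assoc] using hT' hs
  · set C := centralizer ({(x : G)} : Set G) with hC
    obtain ⟨P, N, hNn, hcompl⟩ := hM.hasNormalPComplement_centralizer S hr hF x hx
    haveI := hNn
    have hidx : N.index = Nat.card (P : Subgroup C) := hcompl.symm.index_eq_card
    have hNodd : Odd (Nat.card N) := by
      rw [← Nat.not_even_iff_odd, even_iff_two_dvd, ← hcompl.index_eq_card]
      exact P.not_dvd_index
    have hP : Nat.card (P : Subgroup C) =
        Nat.card (centralizer ({x} : Set (S : Subgroup G))) := by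
      refine le_antisymm ?_ ?_
      · obtain ⟨T, hT⟩ := (P.2.map C.subtype).exists_le_sylow
        obtain ⟨e, he⟩ := MulAction.exists_smul_eq G T S
        have hin : ∀ w ∈ (P : Subgroup C).map C.subtype, e * w * e⁻¹ ∈ (S : Subgroup G) := by
          intro w hw
          rw [← he, mem_smul_sylow]
          simpa [mul_assoc] using hT hw
        have hxP : (x : G) ∈ (P : Subgroup C).map C.subtype := by
          obtain ⟨k, hk⟩ := IsPGroup.iff_orderOf.1 S.2 x
          set X : C := ⟨x, mem_centralizer_singleton_iff.2 rfl⟩ with hX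
          have hn : zpowers X ≤ normalizer ((P : Subgroup C) : Set C) := zpowers_le.2
            (mem_normalizer_of_forall fun y hy => by
              have : X * y = y * X := Subtype.ext (mem_centralizer_singleton_iff.1 y.2).symm
              rw [this, mul_inv_cancel_right]; exact hy)
          have h2 := P.2.to_sup_of_normal_left'
            (IsPGroup.of_card (n := k) (by
              rw [Nat.card_zpowers, hX, Subgroup.orderOf_mk, Subgroup.orderOf_coe, hk])) hn
          exact ⟨X, (P.3 h2 le_sup_left).le (mem_sup_right (mem_zpowers X)), rfl⟩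
        set y : (S : Subgroup G) := ⟨e * x * e⁻¹, hin x hxP⟩ with hy
        rw [hM.card_centralizer_eq S hr hF x y (isConj_iff.2 ⟨e, rfl⟩)]
        refine Nat.card_le_card_of_injective (fun w : (P : Subgroup C) =>
          (⟨⟨e * ((w : C) : G) * e⁻¹, hin _ ⟨w, w.2, rfl⟩⟩, mem_centralizer_singleton_iff.2
            (Subtype.ext ?_)⟩ : centralizer ({y} : Set (S : Subgroup G)))) fun a b h => ?_
        · show e * ((w : C) : G) * e⁻¹ * (e * x * e⁻¹) = e * x * e⁻¹ * (e * ((w : C) : G) * e⁻¹)
          rw [show e * ((w : C) : G) * e⁻¹ * (e * x * e⁻¹) = e * (((w : C) : G) * x) * e⁻¹ by group,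
            mem_centralizer_singleton_iff.1 (w : C).2]
          group
        · have := congrArg (fun v : centralizer ({y} : Set (S : Subgroup G)) =>
            (((v : (S : Subgroup G))) : G)) h
          exact Subtype.ext (Subtype.ext (mul_left_cancel (mul_right_cancel this)))
      · let f : centralizer ({x} : Set (S : Subgroup G)) →* C :=
          { toFun := fun w => ⟨((w : (S : Subgroup G)) : G), mem_centralizer_singleton_iff.2
              (congrArg Subtype.val (mem_centralizer_singleton_iff.1 w.2))⟩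
            map_one' := rfl
            map_mul' := fun _ _ => rfl }
        have hf : Function.Injective f := fun a b h =>
          Subtype.ext (Subtype.ext (congrArg (fun v : C => (v : G)) h))
        have h2 : IsPGroup 2 f.range :=
          (S.2.to_subgroup (centralizer ({x} : Set (S : Subgroup G)))).of_surjective f.rangeRestrict
            f.rangeRestrict_surjective
        obtain ⟨Q, hQ⟩ := h2.exists_le_sylow
        calc _ = Nat.card f.range := Nat.card_congr (MonoidHom.ofInjective hf).toEquiv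
          _ ≤ Nat.card (Q : Subgroup C) := Subgroup.card_le_of_le hQ
          _ = _ := by rw [Q.card_eq_multiplicity, P.card_eq_multiplicity]
    refine ⟨N.map C.subtype, fun v => ⟨?_, ?_⟩, ?_⟩
    · rintro ⟨w, hw, rfl⟩
      refine ⟨(mem_centralizer_singleton_iff.mp w.2).symm, ?_⟩
      show Odd (orderOf (w : G))
      rw [Subgroup.orderOf_coe]
      exact hNodd.of_dvd_nat (Subgroup.orderOf_dvd_natCard N hw)
    · rintro ⟨hc, ho⟩
      set w : C := ⟨v, mem_centralizer_singleton_iff.mpr hc.symm.eq⟩ with hwdef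
      refine ⟨w, ?_, rfl⟩
      obtain ⟨k, hk⟩ := IsPGroup.iff_card.1 P.2
      have e1 : orderOf (w : C ⧸ N) ∣ orderOf w := orderOf_map_dvd (QuotientGroup.mk' N) w
      have e2 : orderOf (w : C ⧸ N) ∣ 2 ^ k := by
        rw [← hk, ← hidx, Subgroup.index_eq_card]
        exact orderOf_dvd_natCard _
      have e3 : Nat.Coprime (2 ^ k) (orderOf w) :=
        Nat.Coprime.pow_left _ (Nat.coprime_two_left.mpr (by rw [← Subgroup.orderOf_coe]; exact ho))
      exact (QuotientGroup.eq_one_iff w).1
        (orderOf_eq_one_iff.1 (Nat.eq_one_of_dvd_coprimes e3 e2 e1))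
    · rw [Subgroup.card_map_of_injective Subtype.val_injective, ← hP, ← hidx,
        Subgroup.index_mul_card]
  · set X := zpowers (x : G) with hX
    have hn : zpowers t ≤ normalizer (X : Set G) := zpowers_le.2 (mem_normalizer_of_forall
      fun y hy => by
        obtain ⟨k, rfl⟩ := mem_zpowers_iff.1 hy
        rw [← conj_zpow, htx]
        exact zpow_mem (inv_mem (mem_zpowers _)) k)
    have hX2 : IsPGroup 2 X := by
      obtain ⟨k, hk⟩ := IsPGroup.iff_orderOf.1 S.2 x
      exact IsPGroup.of_card (n := k) (by rw [hX, Nat.card_zpowers, Subgroup.orderOf_coe, hk])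
    have ht2 : IsPGroup 2 (zpowers t) := by
      have : orderOf t ∣ 2 ^ 1 := orderOf_dvd_of_pow_eq_one (by rw [pow_one, pow_two, ht])
      obtain ⟨k, -, hk⟩ := (Nat.dvd_prime_pow Nat.prime_two).1 this
      exact IsPGroup.of_card (n := k) (by rw [Nat.card_zpowers, hk])
    obtain ⟨T, hT⟩ := (hX2.to_sup_of_normal_left' ht2 hn).exists_le_sylow
    have htZ := hM.mem_omegaZ_of_sq T (hT (mem_sup_right (mem_zpowers t))) ht
    have hc := htZ.2.1 _ (hT (mem_sup_left (mem_zpowers (x : G))))
    rw [← hc, mul_inv_cancel_right] at htx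
    exact Subtype.ext (eq_inv_iff_mul_eq_one.1 htx)

omit hF

/-- A minimal counterexample has no nontrivial linear character. -/
theorem linear_trivial [Fintype G] (χ : IrrCharacter G) (h1 : χ.1 1 = 1) :
    χ = Char.trivialChar G := by
  haveI := hM.simple
  obtain ⟨l, hl⟩ := Char.IsCharacter.exists_monoidHom (Char.irr_isCharacter χ) h1
  rcases (inferInstance : l.toHomUnits.ker.Normal).eq_bot_or_eq_top with e | e
  · exfalso
    obtain ⟨a, b, hab⟩ := hM.noncomm
    exact hab ((MonoidHom.ker_eq_bot_iff _).1 e (by rw [map_mul, map_mul, mul_comm]))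
  · refine Subtype.ext (funext fun g => ?_)
    have : g ∈ l.toHomUnits.ker := e ▸ Subgroup.mem_top g
    rw [MonoidHom.mem_ker, Units.ext_iff, MonoidHom.coe_toHomUnits, hl] at this
    rw [this, Char.trivialChar_apply]
    rfl

include hF in
theorem false_of_fpf : False := by
  haveI := Fintype.ofFinite G
  haveI := Fintype.ofFinite (S : Subgroup G)
  exact (hM.data S hr hF).false_of_perfect hM.linear_trivial

end Min

end Cfsg.Agent.PiHom
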