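import Cfsg.Agent.Lib.PiHom.Fusion
import Cfsg.Agent.S0217
import Cfsg.Agent.Lib.Coprime.Sylow

/-!
# A minimal counterexample has no elementary abelian 2-subgroup of order eight

The solvable signalizer functor theorem gives a strongly embedded subgroup `M`; a coset of `M`
with many involutions then inverts too many `π'`-elements.
-/

set_option autoImplicit false
set_option linter.style.haveILetI false
set_option linter.unusedSectionVars false

namespace Cfsg.Agent.PiHom

open Subgroup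
open scoped Pointwise

variable {π : Set ℕ} {G : Type*} [Group G] [Finite G]

/-- A proper subgroup holding the centralisers and the normaliser of the central involutions. -/
structure Big (S : Sylow 2 G) (M : Subgroup G) : Prop where
  ne_top : M ≠ ⊤
  cent : ∀ z ∈ omegaZ (S : Subgroup G), z ≠ 1 → centralizer ({z} : Set G) ≤ M
  norm : normalizer (omegaZ (S : Subgroup G) : Set G) ≤ M

theorem sylIn_of_le (S : Sylow 2 G) {L : Subgroup G} (h : (S : Subgroup G) ≤ L) :
    Blocks.SylIn 2 L (S : Subgroup G) := by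
  haveI : Fact (Nat.Prime 2) := ⟨Nat.prime_two⟩
  have e := Blocks.sylIn_map L (S.subtype h)
  rwa [Sylow.coe_subtype, map_subgroupOf_eq_of_le h] at e

theorem sylow_le_centralizer (S : Sylow 2 G) {z : G} (hz : z ∈ omegaZ (S : Subgroup G)) :
    (S : Subgroup G) ≤ centralizer ({z} : Set G) := fun s hs =>
  mem_centralizer_singleton_iff.2 (hz.2.1 s hs)

theorem piK_conj {L : Subgroup G} {g : G} {x : G} (hx : x ∈ piK π L) :
    g * x * g⁻¹ ∈ piK π (L.map (MulAut.conj g).toMonoidHom) := by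
  have h : (piK π L).map (MulAut.conj g).toMonoidHom ≤ piK π (L.map (MulAut.conj g).toMonoidHom) := by
    rw [piK, MonoidHom.map_closure, closure_le]
    rintro _ ⟨y, ⟨hy, hy'⟩, rfl⟩
    exact subset_closure ⟨⟨y, hy, rfl⟩, isPi'_map hy' _⟩
  exact h ⟨x, hx, rfl⟩

namespace Min

variable (hM : Min π G) {S : Sylow 2 G}
include hM

theorem cent_ne_bot {z : G} (hz : z ≠ 1) : centralizer ({z} : Set G) ≠ ⊥ := fun e =>
  hz (Subgroup.mem_bot.1 (e ▸ mem_centralizer_singleton_iff.2 rfl))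

theorem big_of_le {M : Subgroup G} (hMt : M ≠ ⊤)
    (hS : normalizer ((S : Subgroup G) : Set G) ≤ M)
    (hθ : ∀ z ∈ omegaZ (S : Subgroup G), z ≠ 1 → piK π (centralizer ({z} : Set G)) ≤ M) :
    Big S M := by
  refine ⟨hMt, fun z hz hz1 g hg => ?_, fun g hg => ?_⟩
  · obtain ⟨k, hk, hn⟩ := hM.frattini (hM.centralizer_ne_top hz1)
      (sylIn_of_le S (sylow_le_centralizer S hz)) hg
    simpa using mul_mem (hθ z hz hz1 hk) (hS hn)
  · obtain ⟨z, hz, hz1⟩ := hM.exists_mem_omegaZ S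
    haveI : Fact (Nat.Prime 2) := ⟨Nat.prime_two⟩
    have hne : omegaZ (S : Subgroup G) ≠ ⊥ := fun e => hz1 (Subgroup.mem_bot.1 (e ▸ hz))
    set L := normalizer (omegaZ (S : Subgroup G) : Set G) with hL
    have hLt : L ≠ ⊤ := hM.normalizer_ne_top hne (hM.ne_top_of_isPGroup (hM.isPGroup_omegaZ S))
    obtain ⟨k, hk, hn⟩ := hM.frattini hLt
      (sylIn_of_le S (le_normalizer.trans (hM.normalizer_sylow_le S))) hg
    have hk' : k ∈ piK π (centralizer ({z} : Set G)) :=
      (hM.mem_piK (hM.centralizer_ne_top hz1)).2 ⟨mem_centralizer_singleton_iff.2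
        (hM.commute_two (hM.isPGroup_omegaZ S) (hM.isPi'_piK hLt hk) (hM.piK_le hLt hk) hz).symm,
        hM.isPi'_piK hLt hk⟩
    simpa using mul_mem (hθ z hz hz1 hk') (hS hn)

/-- The solvable signalizer functor theorem gives a `Big` subgroup. -/
theorem exists_big {A : Subgroup G} (hA : A ≤ S) (hZA : omegaZ (S : Subgroup G) ≤ A)
    (hc : ∀ a ∈ A, ∀ b ∈ A, a * b = b * a) (he : ∀ a ∈ A, a * a = 1) (h8 : 8 ≤ Nat.card A) :
    ∃ M, Big S M := by
  haveI : Fact (Nat.Prime 2) := ⟨Nat.prime_two⟩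
  have hproper : ∀ a ∈ A, a ≠ 1 → centralizer ({a} : Set G) ≠ ⊤ := fun a _ h1 =>
    hM.centralizer_ne_top h1
  have hAC : ∀ a ∈ A, A ≤ centralizer ({a} : Set G) := fun a ha b hb =>
    mem_centralizer_singleton_iff.2 (hc b hb a ha)
  set θ : G → Subgroup G := fun a => piK π (centralizer ({a} : Set G)) with hθdef
  obtain ⟨hodd, hcomp⟩ := S0217.result (p := 2) A hc (fun a ha => by rw [pow_two]; exact he a ha)
    (by simpa using h8) θ (fun a ha h1 => hM.piK_le (hproper a ha h1))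
    (fun a ha h1 => by
      have := hM.odd_piK (hproper a ha h1)
      rw [← Nat.not_even_iff_odd, even_iff_two_dvd] at this
      exact this)
    (fun a ha h1 b hb x hx =>
      (mem_normalizer_iff.1 (hM.le_normalizer_piK (hproper a ha h1) (hAC a ha hb)) x).1 hx)
    (fun a ha h1 => hM.solvable_piK (hproper a ha h1))
    (fun a ha h1 b hb h2 x hx => (hM.mem_piK (hproper b hb h2)).2
      ⟨hx.2, hM.isPi'_piK (hproper a ha h1) hx.1⟩)
  set WA := ⨆ a : {a : G // a ∈ A ∧ a ≠ 1}, θ a with hWA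
  have hWAodd : Odd (Nat.card WA) := by
    rw [← Nat.not_even_iff_odd, even_iff_two_dvd]; exact hodd
  have hAW : A ≤ normalizer (WA : Set G) := fun b hb => mem_normalizer_of_forall fun x hx => by
    have hle : WA.map (MulAut.conj b).toMonoidHom ≤ WA := by
      rw [hWA, Subgroup.map_iSup]
      refine iSup_le fun a => ?_
      rintro _ ⟨y, hy, rfl⟩
      exact le_iSup (fun a : {a : G // a ∈ A ∧ a ≠ 1} => θ a) a ((mem_normalizer_iff.1
        (hM.le_normalizer_piK (hproper a a.2.1 a.2.2) (hAC a a.2.1 hb)) y).1 hy)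
    exact hle ⟨x, hx, rfl⟩
  have hAnc : ¬ IsCyclic A := fun hcy => by
    obtain ⟨g, hg⟩ := hcy.exists_ofOrder_eq_natCard
    have : orderOf g ∣ 2 := orderOf_dvd_of_pow_eq_one (by rw [pow_two]; exact Subtype.ext (he g g.2))
    have := Nat.le_of_dvd (by norm_num) this
    omega
  haveI : IsMulCommutative A := ⟨⟨fun a b => Subtype.ext (hc a a.2 b b.2)⟩⟩
  obtain ⟨n, hn⟩ := IsPGroup.iff_card.1 (S.2.to_le hA)
  have hcop : (Nat.card A).Coprime (Nat.card WA) :=
    hn ▸ Nat.Coprime.pow_left n (Nat.coprime_two_left.2 hWAodd)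
  have hWπ : ∀ q : ℕ, q.Prime → q ∣ Nat.card WA → q ∉ π := by
    intro q hq hd hqπ
    haveI := Fact.mk hq
    obtain ⟨P, hP⟩ := Coprime.exists_invariant_sylow hAW hcop
      (Or.inr (S0205.result hWAodd)) q
    set Q := (P : Subgroup WA).map WA.subtype with hQ
    have hQπ : IsPiSub π Q := isPiSub_of_isPGroup hqπ (P.2.map _)
    have h1 := Coprime.eq_of_forall_centralizer_le hAnc hP
      (hcop.coprime_dvd_right (card_dvd_of_le (map_subtype_le _))) (bot_le : ⊥ ≤ Q)
      fun a ha ha1 x hx => Subgroup.mem_bot.2 (eq_one_of_isPiSub_of_isPi' hQπ hx.1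
        (hM.isPi'_piK (hproper a ha ha1)
          ((hcomp a ha ha1).le ⟨map_subtype_le _ hx.1, hx.2⟩)))
    exact P.ne_bot_of_dvd_card hd ((Subgroup.map_eq_bot_iff_of_injective _
      WA.subtype_injective).1 h1.symm)
  set W := ⨆ z : {z : G // z ∈ omegaZ (S : Subgroup G) ∧ z ≠ 1}, θ z with hW
  have hWWA : W ≤ WA := iSup_le fun z => le_iSup_of_le (⟨z.1, hZA z.2.1, z.2.2⟩ :
    {a : G // a ∈ A ∧ a ≠ 1}) le_rfl
  have hθW : ∀ z ∈ omegaZ (S : Subgroup G), z ≠ 1 → piK π (centralizer ({z} : Set G)) ≤ W :=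
    fun z hz hz1 => le_iSup (fun z : {z : G // z ∈ omegaZ (S : Subgroup G) ∧ z ≠ 1} => θ z)
      ⟨z, hz, hz1⟩
  by_cases hW1 : W = ⊥
  · obtain ⟨z, hz, hz1⟩ := hM.exists_mem_omegaZ S
    refine ⟨_, hM.big_of_le (hM.normalizer_ne_top (fun e => hz1 (Subgroup.mem_bot.1 (e ▸ hz)))
      (hM.ne_top_of_isPGroup (hM.isPGroup_omegaZ S))) (hM.normalizer_sylow_le S)
      fun w hw hw1 => ((hθW w hw hw1).trans hW1.le).trans bot_le⟩
  have hWt : W ≠ ⊤ := fun e => by
    have h1 : Nat.card G ∣ Nat.card WA := by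
      rw [← Subgroup.card_top, ← e]
      exact card_dvd_of_le hWWA
    exact hodd (hM.even.trans h1)
  refine ⟨normalizer (W : Set G), hM.big_of_le (hM.normalizer_ne_top hW1 hWt) (fun g hg => ?_)
    fun z hz hz1 => (hθW z hz hz1).trans le_normalizer⟩
  refine mem_normalizer_of_forall fun x hx => ?_
  have hle : W.map (MulAut.conj g).toMonoidHom ≤ W := by
    rw [hW, Subgroup.map_iSup]
    refine iSup_le fun z => ?_
    rintro _ ⟨y, hy, rfl⟩
    have h1 : g * y * g⁻¹ ∈ piK π ((centralizer ({(z : G)} : Set G)).map (MulAut.conj g).toMonoidHom) :=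
      piK_conj hy
    have hne : g * (z : G) * g⁻¹ ≠ 1 := fun e => z.2.2 (conj_eq_one_iff.1 e)
    refine le_iSup (fun w : {z : G // z ∈ omegaZ (S : Subgroup G) ∧ z ≠ 1} => θ w)
      ⟨g * z * g⁻¹, omegaZ_conj z.2.1 hg, hne⟩ ?_
    show MulAut.conj g y ∈ piK π (centralizer ({g * (z : G) * g⁻¹} : Set G))
    refine closure_mono ?_ h1
    rintro w ⟨⟨v, hv, rfl⟩, hw'⟩
    refine ⟨mem_centralizer_singleton_iff.2 ?_, hw'⟩
    have h3 := mem_centralizer_singleton_iff.1 hv
    show g * v * g⁻¹ * (g * z * g⁻¹) = g * z * g⁻¹ * (g * v * g⁻¹)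
    rw [show g * v * g⁻¹ * (g * z * g⁻¹) = g * (v * z) * g⁻¹ by group, h3]
    group
  exact hle ⟨x, hx, rfl⟩

section

variable {M : Subgroup G} (hB : Big S M)
include hB

theorem sylow_le_big : (S : Subgroup G) ≤ M := by
  obtain ⟨z, hz, hz1⟩ := hM.exists_mem_omegaZ S
  exact (sylow_le_centralizer S hz).trans (hB.cent z hz hz1)

theorem exists_conj_big {s : G} (hs : orderOf s = 2) (hsM : s ∈ M) :
    ∃ k ∈ M, k * s * k⁻¹ ∈ (S : Subgroup G) := by
  obtain ⟨k, hk, hkS⟩ := hM.exists_conj_into hB.ne_top (sylIn_of_le S (hM.sylow_le_big hB))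
    (Q := zpowers s) (IsPGroup.of_card (n := 1) (by rw [Nat.card_zpowers, hs, pow_one]))
    (zpowers_le.2 hsM)
  exact ⟨k, hM.piK_le hB.ne_top hk, hkS s (mem_zpowers s)⟩

theorem centralizer_le_big_of_mem {s : G} (hs : orderOf s = 2) (hsS : s ∈ (S : Subgroup G)) :
    centralizer ({s} : Set G) ≤ M :=
  hM.le_of_omegaZ_le S (hM.centralizer_ne_top (fun e => by rw [e, orderOf_one] at hs; norm_num at hs))
    (fun z hz => mem_centralizer_singleton_iff.2 (hz.2.1 s hsS).symm) hB.cent hB.norm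

theorem centralizer_le_big {s : G} (hs : orderOf s = 2) (hsM : s ∈ M) :
    centralizer ({s} : Set G) ≤ M := by
  obtain ⟨k, hk, hkS⟩ := hM.exists_conj_big hB hs hsM
  intro g hg
  have h1 : orderOf (k * s * k⁻¹) = 2 := by
    rw [← MulAut.conj_apply, MulEquiv.orderOf_eq, hs]
  have h2 : k * g * k⁻¹ ∈ centralizer ({k * s * k⁻¹} : Set G) := by
    refine mem_centralizer_singleton_iff.2 ?_
    rw [show k * g * k⁻¹ * (k * s * k⁻¹) = k * (g * s) * k⁻¹ by group,
      mem_centralizer_singleton_iff.1 hg]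
    group
  have h3 := hM.centralizer_le_big_of_mem hB h1 hkS h2
  have h4 := mul_mem (mul_mem (inv_mem hk) h3) hk
  simpa [mul_assoc] using h4

/-- `M` is strongly embedded. -/
theorem mem_big_of_conj {s g : G} (hs : orderOf s = 2) (hsM : s ∈ M) (hgs : g * s * g⁻¹ ∈ M) :
    g ∈ M := by
  obtain ⟨k, hk, hkS⟩ := hM.exists_conj_big hB hs hsM
  obtain ⟨l, hl, hlS⟩ := hM.exists_conj_big hB
    (s := g * s * g⁻¹) (by rw [← MulAut.conj_apply, MulEquiv.orderOf_eq, hs]) hgs
  set s' := k * s * k⁻¹ with hs'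
  have e : (l * g * k⁻¹) * s' * (l * g * k⁻¹)⁻¹ = l * (g * s * g⁻¹) * l⁻¹ := by rw [hs']; group
  obtain ⟨n, hn, c, hc, hnc⟩ := hM.exists_normalizer_mul (A := zpowers s') (zpowers_le.2 hkS)
    (g := l * g * k⁻¹) (fun a ha => by
      obtain ⟨j, rfl⟩ := mem_zpowers_iff.1 ha
      rw [← conj_zpow, e]
      exact zpow_mem hlS j)
  have hcM : c ∈ M := hM.centralizer_le_big_of_mem hB
    (show orderOf s' = 2 by rw [hs', ← MulAut.conj_apply, MulEquiv.orderOf_eq, hs]) hkS
    (mem_centralizer_singleton_iff.2 (hc s' (mem_zpowers s')).symm)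
  have hnM : n ∈ M := hB.norm (hM.normalizer_sylow_le S hn)
  have h1 : g = l⁻¹ * (n * c) * k := by rw [← hnc]; group
  rw [h1]
  exact mul_mem (mul_mem (inv_mem hl) (mul_mem hnM hcM)) hk

theorem sylIn_piK_big {q : ℕ} [Fact q.Prime] (hq : q ∉ π) (hqX : q ∣ Nat.card (piK π M))
    {Q : Subgroup G} (hQ : Blocks.SylIn q (piK π M) Q) :
    normalizer (Q : Set G) ≤ M ∧ ∀ R : Subgroup G, IsPGroup q R → Nat.card R ≤ Nat.card Q := by
  set X := piK π M with hX
  set Z := omegaZ (S : Subgroup G) with hZ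
  have hXM : X ≤ M := hM.piK_le hB.ne_top
  have hZX : Z ≤ normalizer (X : Set G) :=
    ((omegaZ_le _).trans (hM.sylow_le_big hB)).trans (hM.le_normalizer_piK hB.ne_top)
  obtain ⟨m, hm⟩ := IsPGroup.iff_card.1 (hM.isPGroup_omegaZ S)
  have hcop : (Nat.card Z).Coprime (Nat.card X) :=
    hm ▸ Nat.Coprime.pow_left m (Nat.coprime_two_left.2 (hM.odd_piK hB.ne_top))
  obtain ⟨P, hP⟩ := Coprime.exists_invariant_sylow hZX hcop
    (Or.inr (hM.solvable_piK hB.ne_top)) q
  obtain ⟨P', hP'⟩ := Blocks.sylIn_iff.1 hQ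
  obtain ⟨x, hx⟩ := MulAction.exists_smul_eq X P P'
  set QZ := (P : Subgroup X).map X.subtype with hQZ
  have hne : QZ ≠ ⊥ := fun e => P.ne_bot_of_dvd_card hqX
    ((Subgroup.map_eq_bot_iff_of_injective _ X.subtype_injective).1 e)
  have hNQZ : normalizer (QZ : Set G) ≤ M :=
    hM.le_of_omegaZ_le S (hM.normalizer_ne_top hne (hM.ne_top_of_isPGroup (P.2.map _)))
      hP hB.cent hB.norm
  have hQconj : Q = MulAut.conj (x : G) • QZ := by
    rw [hP', ← hx, Sylow.coe_subgroup_smul, Coprime.map_conj_smul, X.coe_subtype]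
  have hN : normalizer (Q : Set G) ≤ M := by
    intro g hg
    have h1 : (x : G)⁻¹ * g * x ∈ normalizer (QZ : Set G) := by
      refine mem_normalizer_of_forall fun y hy => ?_
      have h2 : (x : G) * y * (x : G)⁻¹ ∈ Q := by
        rw [hQconj, Coprime.mem_conj_smul_iff]
        simpa [mul_assoc] using hy
      have h3 := (mem_normalizer_iff.1 hg _).1 h2
      rw [hQconj, Coprime.mem_conj_smul_iff] at h3
      simpa [mul_assoc] using h3
    have h4 := mul_mem (mul_mem (hXM x.2) (hNQZ h1)) (inv_mem (hXM x.2))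
    simpa [mul_assoc] using h4
  refine ⟨hN, fun R hR => ?_⟩
  obtain ⟨T, hT⟩ := hQ.isPGroup.exists_le_sylow
  have hTQ : (T : Subgroup G) = Q := by
    by_contra hne'
    obtain ⟨y, hy, hyn, hyQ⟩ := exists_norm_gt T.2 (lt_of_le_of_ne hT (Ne.symm hne'))
    have hle : (T : Subgroup G) ⊓ normalizer (Q : Set G) ≤ X := fun w hw =>
      (hM.mem_piK hB.ne_top).2 ⟨hN hw.2, isPi'_of_isPGroup hq T.2 hw.1⟩
    have hQle : Q ≤ (T : Subgroup G) ⊓ normalizer (Q : Set G) := le_inf hT le_normalizer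
    have heq : Q = (T : Subgroup G) ⊓ normalizer (Q : Set G) := by
      refine Subgroup.eq_of_le_of_card_ge hQle ?_
      have hp : IsPGroup q ((T : Subgroup G) ⊓ normalizer (Q : Set G) : Subgroup G) :=
        T.2.to_le inf_le_left
      obtain ⟨w, -, hw2⟩ := hQ.exists_conj_le hp hle
      rw [← Blocks.card_map_conj _ w]
      exact Subgroup.card_le_of_le hw2
    exact hyQ (heq ▸ ⟨hy, hyn⟩)
  obtain ⟨T', hT'⟩ := hR.exists_le_sylow
  calc Nat.card R ≤ Nat.card (T' : Subgroup G) := Subgroup.card_le_of_le hT'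
    _ = Nat.card (T : Subgroup G) := by rw [T'.card_eq_multiplicity, T.card_eq_multiplicity]
    _ = Nat.card Q := by rw [hTQ]

/-- Odd `π'`-subgroups invariant under an involution of `M` lie in `piK π M`, prime by prime. -/
theorem le_piK_of_invariant {u : G} (hu : orderOf u = 2) (huM : u ∈ M) {q : ℕ} [Fact q.Prime]
    (hq : q ∉ π) (hqX : q ∣ Nat.card (piK π M)) {R : Subgroup G} (hR : IsPGroup q R)
    (huR : u ∈ normalizer (R : Set G)) : R ≤ piK π M := by
  set X := piK π M with hX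
  have hq2 : q ≠ 2 := fun e => hq (e ▸ hM.two)
  have hu1 : u ≠ 1 := fun e => by rw [e, orderOf_one] at hu; norm_num at hu
  have hAodd : ∀ {K : Subgroup G}, Odd (Nat.card K) →
      (Nat.card (zpowers u)).Coprime (Nat.card K) := fun {K} h => by
    rw [Nat.card_zpowers, hu]; exact Nat.coprime_two_left.2 h
  have hAX : zpowers u ≤ normalizer (X : Set G) :=
    zpowers_le.2 (hM.le_normalizer_piK hB.ne_top huM)
  have hXs : Group.IsSolvable X := hM.solvable_piK hB.ne_top
  -- invariant `q`-subgroups of `X` go into invariant Sylow subgroups of `X`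
  have hinto : ∀ D : Subgroup G, IsPGroup q D → u ∈ normalizer (D : Set G) → D ≤ X →
      ∃ Q, Blocks.SylIn q X Q ∧ u ∈ normalizer (Q : Set G) ∧ D ≤ Q := by
    intro D hD huD hDX
    obtain ⟨P, hDP, hP⟩ := Coprime.exists_invariant_sylow_ge hAX (hAodd (hM.odd_piK hB.ne_top))
      (Or.inr hXs) hDX hD (zpowers_le.2 huD)
    exact ⟨_, Blocks.sylIn_map X P, hP (mem_zpowers u), hDP⟩
  suffices key : ∀ (n : ℕ) (R Q : Subgroup G), IsPGroup q R → u ∈ normalizer (R : Set G) →
      Blocks.SylIn q X Q → u ∈ normalizer (Q : Set G) →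
      Maximal (fun T : Subgroup G => IsPGroup q T ∧ u ∈ normalizer (T : Set G)) R →
      Nat.card G - Nat.card (R ⊓ Q : Subgroup G) = n → R ≤ X by
    obtain ⟨R', hle, hmax⟩ := (Set.toFinite {T : Subgroup G | IsPGroup q T ∧
      u ∈ normalizer (T : Set G)}).exists_le_maximal (show R ∈ _ from ⟨hR, huR⟩)
    obtain ⟨Q, hQ, huQ, -⟩ := hinto ⊥ IsPGroup.of_bot
      (mem_normalizer_of_forall (by simp)) bot_le
    exact hle.trans (key _ R' Q hmax.prop.1 hmax.prop.2 hQ huQ hmax rfl)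
  intro n
  induction n using Nat.strong_induction_on with
  | _ n ih =>
  intro R Q hR huR hQ huQ hmax hn
  have hbigger : ∀ (R₂ Q₂ : Subgroup G), Maximal (fun T : Subgroup G => IsPGroup q T ∧
      u ∈ normalizer (T : Set G)) R₂ → Blocks.SylIn q X Q₂ → u ∈ normalizer (Q₂ : Set G) →
      Nat.card (R ⊓ Q : Subgroup G) < Nat.card (R₂ ⊓ Q₂ : Subgroup G) → R₂ ≤ X := by
    intro R₂ Q₂ hm hQ₂ hu₂ hlt
    refine ih _ ?_ R₂ Q₂ hm.prop.1 hm.prop.2 hQ₂ hu₂ hm rfl
    have := Subgroup.card_le_card_group (R₂ ⊓ Q₂ : Subgroup G)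
    omega
  obtain ⟨hNQ, hQmax⟩ := hM.sylIn_piK_big hB hq hqX hQ
  have hQp : IsPGroup q Q := hQ.isPGroup
  by_cases hR1 : R = ⊥
  · exact hR1.le.trans bot_le
  -- a maximal invariant `q`-subgroup is a Sylow subgroup
  have hRsyl : ∃ T : Sylow q G, (T : Subgroup G) = R := by
    set L := normalizer (R : Set G) with hL
    have hLt : L ≠ ⊤ := hM.normalizer_ne_top hR1 (hM.ne_top_of_isPGroup hR)
    have hRK : R ≤ piK π L := fun x hx =>
      (hM.mem_piK hLt).2 ⟨le_normalizer hx, isPi'_of_isPGroup hq hR hx⟩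
    obtain ⟨P, hRP, hP⟩ := Coprime.exists_invariant_sylow_ge
      (zpowers_le.2 (hM.le_normalizer_piK hLt huR)) (hAodd (hM.odd_piK hLt))
      (Or.inr (hM.solvable_piK hLt)) hRK hR (zpowers_le.2 huR)
    have hPR := hmax.eq_of_le ⟨P.2.map _, hP (mem_zpowers u)⟩ hRP
    obtain ⟨T, hT⟩ := hR.exists_le_sylow
    refine ⟨T, ?_⟩
    by_contra hne
    obtain ⟨y, hy, hyn, hyR⟩ := exists_norm_gt T.2 (lt_of_le_of_ne hT (Ne.symm hne))
    have hle : (T : Subgroup G) ⊓ L ≤ piK π L := fun w hw =>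
      (hM.mem_piK hLt).2 ⟨hw.2, isPi'_of_isPGroup hq T.2 hw.1⟩
    have hRs : Blocks.SylIn q (piK π L) R := hPR ▸ Blocks.sylIn_map _ P
    obtain ⟨w, -, hw2⟩ := hRs.exists_conj_le (T.2.to_le inf_le_left) hle
    have heq : R = (T : Subgroup G) ⊓ L := Subgroup.eq_of_le_of_card_ge (le_inf hT le_normalizer)
      (by rw [← Blocks.card_map_conj _ w]; exact Subgroup.card_le_of_le hw2)
    exact hyR (heq ▸ ⟨hy, hyn⟩)
  set D := R ⊓ Q with hD
  have huD : u ∈ normalizer (D : Set G) :=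
    inf_normalizer_le_normalizer_inf (mem_inf.2 ⟨huR, huQ⟩)
  rcases eq_or_lt_of_le (inf_le_left : D ≤ R) with e | hDR
  · exact e.symm.le.trans (inf_le_right.trans hQ.1)
  rcases eq_or_lt_of_le (inf_le_right : D ≤ Q) with e | hDQ
  · have hQR : Q ≤ R := e.symm.le.trans inf_le_left
    have := Subgroup.eq_of_le_of_card_ge hQR (hQmax R hR)
    exact this ▸ hQ.1
  by_cases hD1 : D = ⊥
  · by_cases hfix : ∃ r ∈ R, r ≠ 1 ∧ u * r * u⁻¹ = r
    · obtain ⟨r, hr, hr1, hur⟩ := hfix
      have hrM : r ∈ M := hM.centralizer_le_big hB hu huM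
        (mem_centralizer_singleton_iff.2 (mul_inv_eq_iff_eq_mul.1 hur).symm)
      have hrX : r ∈ X := (hM.mem_piK hB.ne_top).2 ⟨hrM, isPi'_of_isPGroup hq hR hr⟩
      obtain ⟨Q₂, hQ₂, hu₂, hrQ⟩ := hinto (zpowers r) (hR.to_le (zpowers_le.2 hr))
        (mem_normalizer_of_forall fun y hy => by
          obtain ⟨j, rfl⟩ := mem_zpowers_iff.1 hy
          rw [← conj_zpow, hur]
          exact zpow_mem (mem_zpowers r) j) (zpowers_le.2 hrX)
      refine hbigger R Q₂ hmax hQ₂ hu₂ ?_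
      rw [hD1, Subgroup.card_bot]
      refine (Subgroup.one_lt_card_iff_ne_bot _).2 fun e => hr1 (Subgroup.mem_bot.1 ?_)
      exact e ▸ mem_inf.2 ⟨hr, hrQ (mem_zpowers r)⟩
    push Not at hfix
    have hinvert : ∀ r ∈ R, u * r * u⁻¹ = r⁻¹ := by
      intro r hr
      have hodd : Odd (Nat.card R) := by
        obtain ⟨j, hj⟩ := IsPGroup.iff_card.1 hR
        rw [hj]
        exact Odd.pow (((Fact.out : q.Prime).eq_two_or_odd').resolve_left hq2)
      let f : R →* R :=
        { toFun := fun r => ⟨u * r * u⁻¹, (mem_normalizer_iff.1 huR r).1 r.2⟩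
          map_one' := Subtype.ext (by simp)
          map_mul' := fun a b => Subtype.ext (by simp [mul_assoc]) }
      have huu : u * u = 1 := by rw [← pow_two, ← hu, pow_orderOf_eq_one]
      have hf2 : Function.Involutive f := fun a => Subtype.ext (by
        show u * (u * a * u⁻¹) * u⁻¹ = a
        calc u * (u * a * u⁻¹) * u⁻¹ = (u * u) * a * (u * u)⁻¹ := by group
          _ = a := by rw [huu]; group)
      have hfp : MonoidHom.FixedPointFree f := fun a ha => by
        by_contra h1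
        exact hfix a a.2 (fun e => h1 (Subtype.ext e)) (congrArg Subtype.val ha)
      exact congrArg Subtype.val (congrFun (hfp.coe_eq_inv_of_involutive hf2) ⟨r, hr⟩)
    -- `R` is conjugate to `Q`
    obtain ⟨T', hT'⟩ := hQp.exists_le_sylow
    have hT'Q : (T' : Subgroup G) = Q := (Subgroup.eq_of_le_of_card_ge hT' (hQmax _ T'.2)).symm
    obtain ⟨T, hT⟩ := hRsyl
    obtain ⟨g, hg⟩ := MulAction.exists_smul_eq G T T'
    have hmem : ∀ x, x ∈ Q ↔ g⁻¹ * x * g ∈ R := fun x => by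
      rw [← hT'Q, ← hg, mem_smul_sylow, hT]
    set u' := g * u * g⁻¹ with hu'
    have hu'2 : orderOf u' = 2 := by rw [hu', ← MulAut.conj_apply, MulEquiv.orderOf_eq, hu]
    have hu'N : u' ∈ normalizer (Q : Set G) := mem_normalizer_of_forall fun y hy => by
      have h1 := (hmem y).1 hy
      have h2 : u * (g⁻¹ * y * g) * u⁻¹ ∈ R := (mem_normalizer_iff.1 huR _).1 h1
      rw [hmem, hu']
      simpa [mul_assoc] using h2
    have hgM : g ∈ M := hM.mem_big_of_conj hB hu huM (hNQ hu'N)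
    intro x hx
    have h1 : g * x * g⁻¹ ∈ Q := (hmem _).2 (by simpa [mul_assoc] using hx)
    have h2 := (mem_normalizer_iff''.1 (hM.le_normalizer_piK hB.ne_top hgM) (g * x * g⁻¹)).1
      (hQ.1 h1)
    simpa [mul_assoc] using h2
  -- `D` is nontrivial: coprime conjugation in `N(D)`
  have hDp : IsPGroup q D := hR.to_le inf_le_left
  set L := normalizer (D : Set G) with hL
  have hLt : L ≠ ⊤ := hM.normalizer_ne_top hD1 (hM.ne_top_of_isPGroup hDp)
  have hKL : ∀ T : Subgroup G, IsPGroup q T → T ⊓ L ≤ piK π L := fun T hT x hx =>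
    (hM.mem_piK hLt).2 ⟨hx.2, isPi'_of_isPGroup hq hT hx.1⟩
  have huL : ∀ T : Subgroup G, u ∈ normalizer (T : Set G) →
      u ∈ normalizer ((T ⊓ L : Subgroup G) : Set G) := fun T hT =>
    inf_normalizer_le_normalizer_inf (mem_inf.2 ⟨hT, le_normalizer huD⟩)
  have hAK : zpowers u ≤ normalizer (piK π L : Set G) :=
    zpowers_le.2 (hM.le_normalizer_piK hLt huD)
  have hcopK := hAodd (hM.odd_piK hLt)
  have hKs : Group.IsSolvable (piK π L) := hM.solvable_piK hLt
  obtain ⟨P₁, h₁, hP₁⟩ := Coprime.exists_invariant_sylow_ge hAK hcopK (Or.inr hKs)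
    (hKL R hR) (hR.to_le inf_le_left) (zpowers_le.2 (huL R huR))
  obtain ⟨P₂, h₂, hP₂⟩ := Coprime.exists_invariant_sylow_ge hAK hcopK (Or.inr hKs)
    (hKL Q hQp) (hQp.to_le inf_le_left) (zpowers_le.2 (huL Q huQ))
  obtain ⟨c, hc, hc12⟩ := Coprime.exists_centralizer_smul_sylow hAK hcopK (Or.inr hKs) P₁ P₂ hP₁ hP₂
  set P₂' := (P₂ : Subgroup (piK π L)).map (piK π L).subtype with hP₂'
  obtain ⟨R₂, hR₂, hmax₂⟩ := (Set.toFinite {T : Subgroup G | IsPGroup q T ∧
    u ∈ normalizer (T : Set G)}).exists_le_maximal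
      (show P₂' ∈ _ from ⟨P₂.2.map _, hP₂ (mem_zpowers u)⟩)
  have hDL : D ≤ L := le_normalizer
  have hcard : ∀ E : Subgroup G, D < E → Nat.card D < Nat.card E := fun E h => by
    by_contra hh
    exact h.ne (Subgroup.eq_of_le_of_card_ge h.le (not_lt.1 hh))
  obtain ⟨y, hy, hyn, hyD⟩ := exists_norm_gt hQp hDQ
  have hR₂X : R₂ ≤ X := hbigger R₂ Q hmax₂ hQ huQ (hcard _ (lt_of_le_of_ne
    (le_inf (fun d hd => hR₂ (h₂ ⟨inf_le_right (a := R) hd, hDL hd⟩)) inf_le_right)
    fun e => hyD (show y ∈ D from by rw [e]; exact ⟨hR₂ (h₂ ⟨hy, hyn⟩), hy⟩)))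
  have hcM : (c : G) ∈ M := hM.centralizer_le_big hB hu huM
    (mem_centralizer_singleton_iff.2 (mem_centralizer_iff.1 hc u (mem_zpowers u)).symm)
  have hRX : R ⊓ L ≤ X := by
    intro x hx
    have h3 : (c : G) * x * (c : G)⁻¹ ∈ P₂' := by
      rw [hP₂', ← hc12, Sylow.coe_subgroup_smul, Coprime.map_conj_smul,
        Coprime.mem_conj_smul_iff]
      simpa [mul_assoc] using h₁ hx
    have h4 := (mem_normalizer_iff''.1 (hM.le_normalizer_piK hB.ne_top hcM) _).1 (hR₂X (hR₂ h3))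
    simpa [mul_assoc] using h4
  obtain ⟨Q₂, hQ₂, hu₂, hRQ₂⟩ := hinto (R ⊓ L) (hR.to_le inf_le_left) (huL R huR) hRX
  obtain ⟨x, hx, hxn, hxD⟩ := exists_norm_gt hR hDR
  exact hbigger R Q₂ hmax hQ₂ hu₂ (hcard _ (lt_of_le_of_ne
    (le_inf inf_le_left fun d hd => hRQ₂ ⟨inf_le_left (b := Q) hd, hDL hd⟩)
    fun e => hxD (show x ∈ D from by rw [e]; exact ⟨hx, hRQ₂ ⟨hx, hxn⟩⟩)))

omit hB in
theorem sq_one {u : G} (hu : orderOf u = 2) : u * u = 1 := by
  rw [← pow_two, ← hu, pow_orderOf_eq_one]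

/-- The invariant `π'`-part of a conjugate of `M` lies in `piK π M`. -/
theorem conj_inter_le {u : G} (hu : orderOf u = 2) (huM : u ∈ M) (c : G) :
    (piK π M).map (MulAut.conj c).toMonoidHom ⊓
      (piK π M).map (MulAut.conj (u * c)).toMonoidHom ≤ piK π M := by
  set X := piK π M with hX
  set X0 : Subgroup G := X.map (MulAut.conj c).toMonoidHom ⊓
    X.map (MulAut.conj (u * c)).toMonoidHom with hX0
  have hdvd : Nat.card X0 ∣ Nat.card X := by
    rw [← Blocks.card_map_conj X c]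
    exact card_dvd_of_le inf_le_left
  have hodd : Odd (Nat.card X0) := (hM.odd_piK hB.ne_top).of_dvd_nat hdvd
  have huu := hM.sq_one hu
  have huinv : u⁻¹ = u := inv_eq_of_mul_eq_one_right huu
  have hn : zpowers u ≤ normalizer (X0 : Set G) := by
    refine zpowers_le.2 (mem_normalizer_of_forall ?_)
    rintro y ⟨⟨a, ha, rfl⟩, b, hb, hb'⟩
    refine ⟨⟨b, hb, ?_⟩, a, ha, ?_⟩
    · rw [← hb']
      show c * b * c⁻¹ = u * (u * c * b * (u * c)⁻¹) * u⁻¹
      calc c * b * c⁻¹ = (u * u) * c * b * c⁻¹ * (u * u)⁻¹ := by rw [huu]; group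
        _ = _ := by group
    · show u * c * a * (u * c)⁻¹ = u * (c * a * c⁻¹) * u⁻¹
      group
  have h : X0 ⊓ X = X0 := Coprime.eq_of_forall_invariant_pgroup_le hn
    (by rw [Nat.card_zpowers, hu]; exact Nat.coprime_two_left.2 hodd)
    (Or.inr (S0205.result hodd)) inf_le_left fun p P hp hP hPX hPn => by
      haveI := Fact.mk hp
      refine le_inf hPX ?_
      by_cases hP1 : P = ⊥
      · exact hP1.le.trans bot_le
      have hpP : p ∣ Nat.card P := by
        obtain ⟨j, hj⟩ := IsPGroup.iff_card.1 hP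
        rw [hj]
        refine dvd_pow_self p fun e => ?_
        rw [e, pow_zero] at hj
        exact hP1 (Subgroup.eq_bot_of_card_eq P hj)
      have hpX : p ∣ Nat.card X := hpP.trans ((card_dvd_of_le hPX).trans hdvd)
      exact hM.le_piK_of_invariant hB hu huM
        (prime_notMem_of_forall (fun x hx => hM.isPi'_piK hB.ne_top hx) p hp hpX) hpX hP
        (hPn (mem_zpowers u))
  exact inf_eq_left.1 h

/-- A `Big` subgroup is impossible: some coset has too many involutions. -/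
theorem big_false : False := by
  classical
  haveI := Fintype.ofFinite G
  haveI := Fintype.ofFinite (G ⧸ M)
  have hSM := hM.sylow_le_big hB
  set X := piK π M with hX
  set I := Finset.univ.filter (fun x : G => orderOf x = 2) with hI
  set IM := I.filter (fun x => x ∈ M) with hIM
  set m := IM.card with hm
  have hmI : ∀ x, x ∈ IM ↔ orderOf x = 2 ∧ x ∈ M := fun x => by simp [hIM, hI]
  have hfibre1 : I.filter (fun x : G => (x : G ⧸ M) = ((1 : G) : G ⧸ M)) = IM := by
    ext x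
    simp [hIM, QuotientGroup.eq]
  have hle : Fintype.card (G ⧸ M) * m ≤ I.card := by
    rw [hm, ← Finset.card_univ (α := G ⧸ M), ← Finset.card_product]
    refine Finset.card_le_card_of_injOn (fun p => p.1.out * p.2 * p.1.out⁻¹) ?_ ?_
    · intro p hp
      simp only [Finset.coe_product, Set.mem_prod, Finset.mem_coe] at hp
      simp only [hI, Finset.coe_filter, Finset.mem_univ, true_and, Set.mem_ofPred_eq]
      rw [← MulAut.conj_apply, MulEquiv.orderOf_eq]
      exact ((hmI _).1 hp.2).1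
    · intro p hp p' hp' e
      simp only [Finset.coe_product, Set.mem_prod, Finset.mem_coe] at hp hp'
      simp only at e
      have hg : (p'.1.out⁻¹ * p.1.out) * p.2 * (p'.1.out⁻¹ * p.1.out)⁻¹ = p'.2 := by
        calc (p'.1.out⁻¹ * p.1.out) * p.2 * (p'.1.out⁻¹ * p.1.out)⁻¹
            = p'.1.out⁻¹ * (p.1.out * p.2 * p.1.out⁻¹) * p'.1.out := by group
          _ = p'.2 := by rw [e]; group
      have hgM : p'.1.out⁻¹ * p.1.out ∈ M := hM.mem_big_of_conj hB ((hmI _).1 hp.2).1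
        ((hmI _).1 hp.2).2 (by rw [hg]; exact ((hmI _).1 hp'.2).2)
      have hq : p'.1 = p.1 := by
        rw [← QuotientGroup.out_eq' p'.1, ← QuotientGroup.out_eq' p.1]
        exact QuotientGroup.eq.2 hgM
      rw [hq] at e
      exact Prod.ext hq.symm (mul_left_cancel (mul_right_cancel e))
  obtain ⟨g, hg, hfib⟩ : ∃ g : G, g ∉ M ∧
      m ≤ (I.filter (fun x : G => (x : G ⧸ M) = (g : G ⧸ M))).card := by
    have hsum := Finset.card_eq_sum_card_fiberwise (f := fun x : G => (x : G ⧸ M))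
      (s := I) (t := Finset.univ) (fun _ _ => Finset.mem_univ _)
    rw [← Finset.add_sum_erase _ _ (Finset.mem_univ ((1 : G) : G ⧸ M)), hfibre1, ← hm] at hsum
    have hne : (Finset.univ.erase ((1 : G) : G ⧸ M)).Nonempty := by
      obtain ⟨g, -, hg⟩ := SetLike.exists_of_lt (lt_top_iff_ne_top.2 hB.ne_top)
      exact ⟨g, Finset.mem_erase.2 ⟨fun e => hg (by simpa [QuotientGroup.eq] using e),
        Finset.mem_univ _⟩⟩
    obtain ⟨q, hq, hqle⟩ := Finset.exists_le_of_sum_le hne (f := fun _ => m)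
      (g := fun q => (I.filter (fun x : G => (x : G ⧸ M) = q)).card) (by
        rw [Finset.sum_const, smul_eq_mul, Finset.card_erase_of_mem (Finset.mem_univ _),
          Finset.card_univ, Nat.sub_mul, one_mul]
        omega)
    obtain ⟨g, rfl⟩ := QuotientGroup.mk_surjective q
    exact ⟨g, fun hg => (Finset.mem_erase.1 hq).1 (QuotientGroup.eq.2 (by simpa using hg)), hqle⟩
  set F := I.filter (fun x : G => (x : G ⧸ M) = (g : G ⧸ M)) with hF
  obtain ⟨z, hz, hz1⟩ := hM.exists_mem_omegaZ S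
  have hmpos : 0 < m :=
    Finset.card_pos.2 ⟨z, (hmI z).2 ⟨orderOf_omegaZ hz hz1, hSM hz.1⟩⟩
  obtain ⟨u, hu⟩ := Finset.card_pos.1 (hmpos.trans_le hfib)
  simp only [hF, hI, Finset.mem_filter, Finset.mem_univ, true_and] at hu
  obtain ⟨hu2, hug⟩ := hu
  have huM : u ∉ M := fun h => hg (by
    have h1 := QuotientGroup.eq.1 hug
    have := mul_mem h h1
    simpa using this)
  -- the point fixed by `u`
  obtain ⟨c, hc⟩ : ∃ c : G, c⁻¹ * u * c ∈ M := by
    haveI : Fact (Nat.Prime 2) := ⟨Nat.prime_two⟩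
    obtain ⟨T, hT⟩ := (IsPGroup.of_card (n := 1)
      (by rw [Nat.card_zpowers, hu2, pow_one]) : IsPGroup 2 (zpowers u)).exists_le_sylow
    obtain ⟨c, hc⟩ := MulAction.exists_smul_eq G S T
    exact ⟨c, hSM (mem_smul_sylow.1 (hc ▸ hT (mem_zpowers u)))⟩
  set u' := c⁻¹ * u * c with hu'
  have hu'2 : orderOf u' = 2 := by
    rw [hu', show c⁻¹ * u * c = MulAut.conj c⁻¹ u by simp, MulEquiv.orderOf_eq, hu2]
  have huu := hM.sq_one hu2
  have hu'u' := hM.sq_one hu'2
  have huinv : u⁻¹ = u := inv_eq_of_mul_eq_one_right huu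
  set D := Finset.univ.filter (fun d : G => d ∈ X ∧ u' * d * u'⁻¹ = d⁻¹) with hD
  have h1 : F.card ≤ D.card := by
    refine Finset.card_le_card_of_injOn (fun v => c⁻¹ * (u * v) * c) ?_ ?_
    · intro v hv
      simp only [hF, hI, Finset.coe_filter, Finset.mem_filter, Finset.mem_univ, true_and,
        Set.mem_ofPred_eq] at hv
      obtain ⟨hv2, hvg⟩ := hv
      have hvv := hM.sq_one hv2
      set d := u * v with hd
      have hdM : d ∈ M := by
        have := QuotientGroup.eq.1 (hug.trans hvg.symm)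
        rwa [huinv] at this
      have hinv : u * d * u⁻¹ = d⁻¹ := by
        rw [hd, huinv, mul_inv_rev, huinv, inv_eq_of_mul_eq_one_right hvv]
        calc u * (u * v) * u = (u * u) * v * u := by group
          _ = v * u := by rw [huu, one_mul]
      have hodd : Odd (orderOf d) := by
        rw [← Nat.not_even_iff_odd, even_iff_two_dvd]
        intro h2
        set e := d ^ (orderOf d / 2) with he
        have heo : orderOf e = 2 := by
          rw [he, orderOf_pow, Nat.gcd_eq_right (Nat.div_dvd_of_dvd h2),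
            Nat.div_div_self h2 (orderOf_pos d).ne']
        have hei : u * e * u⁻¹ = e := by
          rw [he, ← conj_pow, hinv, inv_pow, ← he, inv_eq_of_mul_eq_one_right (hM.sq_one heo)]
        exact huM (hM.centralizer_le_big hB heo (pow_mem hdM _)
          (mem_centralizer_singleton_iff.2 (mul_inv_eq_iff_eq_mul.1 hei)))
      have hdπ := hM.isPi'_of_inverted hu2 hodd hinv
      have hdX : d ∈ X := (hM.mem_piK hB.ne_top).2 ⟨hdM, hdπ⟩
      simp only [hD, Finset.coe_filter, Finset.mem_univ, true_and, Set.mem_ofPred_eq]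
      refine ⟨hM.conj_inter_le hB hu'2 hc c⁻¹ ⟨⟨d, hdX, by simp [hd]⟩, d⁻¹, inv_mem hdX, ?_⟩, ?_⟩
      · show u' * c⁻¹ * d⁻¹ * (u' * c⁻¹)⁻¹ = c⁻¹ * d * c
        rw [hu', ← hinv]
        calc c⁻¹ * u * c * c⁻¹ * (u * d * u⁻¹) * (c⁻¹ * u * c * c⁻¹)⁻¹
            = c⁻¹ * (u * u) * d * (u * u)⁻¹ * c := by group
          _ = c⁻¹ * d * c := by rw [huu]; group
      · rw [hu', show c⁻¹ * u * c * (c⁻¹ * d * c) * (c⁻¹ * u * c)⁻¹ = c⁻¹ * (u * d * u⁻¹) * c by
          group, hinv, hd]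
        group
    · intro v _ w _ e
      exact mul_left_cancel (mul_left_cancel (mul_right_cancel e))
  have h2 : D.card < m := by
    rw [← Finset.card_image_of_injective D (mul_right_injective u')]
    refine Finset.card_lt_card (Finset.ssubset_iff_subset_ne.2 ⟨?_, fun e => ?_⟩)
    · intro v hv
      obtain ⟨d, hd, rfl⟩ := Finset.mem_image.1 hv
      simp only [hD, Finset.mem_filter, Finset.mem_univ, true_and] at hd
      refine (hmI _).2 ⟨orderOf_eq_prime ?_ fun e1 => ?_, mul_mem hc (hM.piK_le hB.ne_top hd.1)⟩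
      · rw [pow_two]
        have h3 := hd.2
        rw [inv_eq_of_mul_eq_one_right hu'u'] at h3
        calc u' * d * (u' * d) = (u' * d * u') * d := by group
          _ = 1 := by rw [h3, inv_mul_cancel]
      · have hu'X : u' ∈ X := by
          rw [show u' = d⁻¹ from eq_inv_of_mul_eq_one_left e1]; exact inv_mem hd.1
        have h4 := odd_orderOf hM.two (hM.isPi'_piK hB.ne_top hu'X)
        rw [hu'2] at h4
        exact absurd h4 (by decide)
    · -- two commuting involutions do not lie in one coset of `X`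
      obtain ⟨n, hn, hnz⟩ := hM.exists_moving S hz hz1
      set z' := n * z * n⁻¹ with hz'
      have hz'Z : z' ∈ omegaZ (S : Subgroup G) := omegaZ_conj hz hn
      have hz'1 : z' ≠ 1 := fun e => hz1 (conj_eq_one_iff.1 e)
      have hin : ∀ w ∈ omegaZ (S : Subgroup G), w ≠ 1 → ∃ d ∈ X, w = u' * d := by
        intro w hw hw1
        have : w ∈ Finset.image (fun d => u' * d) D := by
          rw [e]; exact (hmI w).2 ⟨orderOf_omegaZ hw hw1, hSM hw.1⟩
        obtain ⟨d, hd, rfl⟩ := Finset.mem_image.1 this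
        simp only [hD, Finset.mem_filter, Finset.mem_univ, true_and] at hd
        exact ⟨d, hd.1, rfl⟩
      obtain ⟨d, hd, hzd⟩ := hin z hz hz1
      obtain ⟨d', hd', hzd'⟩ := hin z' hz'Z hz'1
      have hp : z * z' ∈ X := by
        rw [hzd, hzd', show u' * d * (u' * d') = (u' * d * u') * d' by group]
        refine mul_mem ?_ hd'
        have h5 := (mem_normalizer_iff.1 (hM.le_normalizer_piK hB.ne_top hc) d).1 hd
        rwa [inv_eq_of_mul_eq_one_right hu'u'] at h5
      have hzz : orderOf (z * z') = 2 := orderOf_omegaZ (mul_mem hz hz'Z) fun e => hnz (by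
        calc z' = (z * z) * z' := by rw [hz.2.2, one_mul]
          _ = z := by rw [mul_assoc, e, mul_one])
      have h6 := odd_orderOf hM.two (hM.isPi'_piK hB.ne_top hp)
      rw [hzz] at h6
      exact absurd h6 (by decide)
  omega

end

/-- No elementary abelian 2-subgroup of order eight. -/
theorem no_eight {A : Subgroup G} (hA : A ≤ S) (hc : ∀ a ∈ A, ∀ b ∈ A, a * b = b * a)
    (he : ∀ a ∈ A, a * a = 1) : Nat.card A < 8 := by
  by_contra h8
  push Not at h8
  have hcZ : ∀ a ∈ A, ∀ z ∈ omegaZ (S : Subgroup G), a * z = z * a := fun a ha z hz =>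
    hz.2.1 a (hA ha)
  have hmem : ∀ x ∈ A ⊔ omegaZ (S : Subgroup G), ∃ a ∈ A, ∃ z ∈ omegaZ (S : Subgroup G),
      a * z = x := fun x hx => (Coprime.mem_sup_iff_of_le_normalizer (fun a ha =>
        mem_normalizer_of_forall fun z hz => by rw [hcZ a ha z hz, mul_inv_cancel_right]; exact hz)).1 hx
  obtain ⟨M, hB⟩ := hM.exists_big (A := A ⊔ omegaZ (S : Subgroup G))
    (sup_le hA (omegaZ_le _)) le_sup_right
    (fun x hx y hy => by
      obtain ⟨a, ha, z, hz, rfl⟩ := hmem x hx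
      obtain ⟨b, hb, w, hw, rfl⟩ := hmem y hy
      exact (((show Commute a b from hc a ha b hb).mul_right (hcZ a ha w hw)).mul_left
        (((show Commute b z from hcZ b hb z hz).symm).mul_right
          (hw.2.1 z hz.1))).eq)
    (fun x hx => by
      obtain ⟨a, ha, z, hz, rfl⟩ := hmem x hx
      calc a * z * (a * z) = (a * a) * (z * z) := by
            rw [mul_assoc, ← mul_assoc z a z, ← hcZ a ha z hz]; group
        _ = 1 := by rw [he a ha, hz.2.2, one_mul])
    (h8.trans (Subgroup.card_le_of_le le_sup_left))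
  exact hM.big_false hB

end Min

end Cfsg.Agent.PiHom
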